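import Cfsg.Agent.Lib.Recog.JankoTwo.Data
import Cfsg.Agent.Lib.Recog.Icosian.Data

/-!
# Kernel checks on the stabiliser chain
-/

set_option autoImplicit false
set_option maxRecDepth 100000
set_option maxHeartbeats 0

namespace CfsgLib.Recog.JankoTwo

/-- image of a point under a packed permutation -/
def pget (p i : ℕ) : ℕ := (p >>> (9 * i)) &&& 511

/-- all points below `315` -/
def allPts (f : ℕ → Bool) : Bool := (List.range 315).all f

/-- the base -/
def basePts (f : ℕ → Bool) : Bool := f 0 && f 1 && f 2 && f 3

def t0 (i : ℕ) : ℕ := trans0.getD i 0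
def t1 (i : ℕ) : ℕ := trans1.getD i 0
def t2 (i : ℕ) : ℕ := trans2.getD i 0
def t3 (i : ℕ) : ℕ := trans3.getD i 0

def icoPerm (k : ℕ) : List ℕ :=
  bif k == 0 then Icosian.permTab0 else bif k == 1 then Icosian.permTab1
  else bif k == 2 then Icosian.permTab2 else Icosian.permTab3

theorem gens_check : (strong0.length = 4 ∧ strong1.length = 2 ∧ strong2.length = 2 ∧ strong3.length = 2) ∧
    (List.range 4).all (fun k => ((List.range 315).zip (icoPerm k)).all fun e => pget (strong0.getD k 0) e.1 == e.2) = true := by
  decide +kernel

/-- the children in a tree are the generators applied to their parents -/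
def treeOK (T : List ℕ) (tr : List (ℕ × ℕ)) (S : List ℕ) : Bool :=
  allPts (fun x => pget (T.getD 0 0) x == x) && T.length == tr.length + 1 &&
  ((List.range tr.length).zip (tr.zip (T.drop 1))).all fun e =>
    decide (e.2.1.1 ≤ e.1) && decide (e.2.1.2 < S.length) &&
      allPts fun x => pget e.2.2 x == pget (S.getD e.2.1.2 0) (pget (T.getD e.2.1.1 0) x)

theorem tree_check0 : treeOK trans0 tree0 strong0 = true := by decide +kernel
theorem tree_check1 : treeOK trans1 tree1 strong1 = true := by decide +kernel
theorem tree_check2 : treeOK trans2 tree2 strong2 = true := by decide +kernel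
theorem tree_check3 : treeOK trans3 tree3 strong3 = true := by decide +kernel

/-- the transversals separate the images of the base points -/
theorem base_check :
    ((trans0.map fun p => pget p 0).Nodup ∧ (trans1.map fun p => pget p 1).Nodup ∧
      (trans2.map fun p => pget p 2).Nodup ∧ (trans3.map fun p => pget p 3).Nodup) ∧
    (trans1.all fun p => pget p 0 == 0) = true ∧
    (trans2.all fun p => pget p 0 == 0 && pget p 1 == 1) = true ∧
    (trans3.all fun p => pget p 0 == 0 && pget p 1 == 1 && pget p 2 == 2) = true ∧
    (trans0.length = 315 ∧ trans1.length = 32 ∧ trans2.length = 5 ∧ trans3.length = 12) ∧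
    (strong1.all fun p => pget p 0 == 0) = true := by
  decide +kernel

def rowOK0 (t : ℕ) (row : List (ℕ × ℕ × ℕ × ℕ)) : Bool :=
  row.length == strong0.length && (strong0.zip row).all fun e =>
    decide (e.2.1 < 315) && decide (e.2.2.1 < 32) && decide (e.2.2.2.1 < 5) && decide (e.2.2.2.2 < 12) &&
      let a := t0 e.2.1; let b := t1 e.2.2.1; let c := t2 e.2.2.2.1; let d := t3 e.2.2.2.2
      allPts fun x => pget e.1 (pget t x) == pget a (pget b (pget c (pget d x)))

/-- a fifth of the rows -/
def sch0Block (k : ℕ) : Bool := (((trans0.zip schreier0).drop (63 * k)).take 63).all fun e => rowOK0 e.1 e.2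

theorem schreier_check0a : sch0Block 0 = true := by decide +kernel
theorem schreier_check0b : sch0Block 1 = true := by decide +kernel
theorem schreier_check0c : sch0Block 2 = true := by decide +kernel
theorem schreier_check0d : sch0Block 3 = true := by decide +kernel
theorem schreier_check0e : sch0Block 4 = true := by decide +kernel

theorem schreier_check1 : schreier0.length = 315 ∧ schreier1.length = 32 ∧ schreier2.length = 5 ∧ schreier3.length = 12 ∧
    ((trans1.zip schreier1).all fun r => r.2.length == strong1.length && (strong1.zip r.2).all fun e =>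
      decide (e.2.1 < 32) && decide (e.2.2.1 < 5) && decide (e.2.2.2 < 12) &&
        let a := t1 e.2.1; let b := t2 e.2.2.1; let c := t3 e.2.2.2
        allPts fun x => pget e.1 (pget r.1 x) == pget a (pget b (pget c x))) = true ∧
    ((trans2.zip schreier2).all fun r => r.2.length == strong2.length && (strong2.zip r.2).all fun e =>
      decide (e.2.1 < 5) && decide (e.2.2 < 12) &&
        let a := t2 e.2.1; let b := t3 e.2.2
        allPts fun x => pget e.1 (pget r.1 x) == pget a (pget b x)) = true ∧
    ((trans3.zip schreier3).all fun r => r.2.length == strong3.length && (strong3.zip r.2).all fun e =>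
      decide (e.2 < 12) && let a := t3 e.2
      allPts fun x => pget e.1 (pget r.1 x) == pget a x) = true := by
  decide +kernel

/-- a word evaluated at a point -/
def wordAt (S : List ℕ) (w : List ℕ) (x : ℕ) : ℕ := w.foldr (fun j y => pget (S.getD j 0) y) x

theorem word_check :
    (word1.length == 2 && word2.length == 2 && word3.length == 2 &&
      (strong1.zip word1).all (fun e => e.2.all (fun j => decide (j < 4)) &&
        allPts fun x => pget e.1 x == wordAt strong0 e.2 x) &&
      (strong2.zip word2).all (fun e => e.2.all (fun j => decide (j < 2)) &&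
        allPts fun x => pget e.1 x == wordAt strong1 e.2 x) &&
      (strong3.zip word3).all (fun e => e.2.all (fun j => decide (j < 2)) &&
        allPts fun x => pget e.1 x == wordAt strong2 e.2 x)) = true := by
  decide +kernel

/-- one of the six suborbit representatives -/
def isRoot (i : ℕ) : Bool := cosetReps.any fun c => pget (t0 c) 0 == i

theorem suborbit_check :
    ((List.range 315).all fun i => suborbitTree.any fun e => e.1 == i) = true ∧ cosetReps.length = 6 ∧
    cosetReps.all (fun c => decide (c < 315)) = true ∧
    ((List.range suborbitTree.length).zip suborbitTree).all (fun e =>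
      (e.2.2.2 == 9 && e.2.2.1 == e.2.1 && isRoot e.2.1) ||
        (decide (e.2.2.2 < 2) && pget (strong1.getD e.2.2.2 0) e.2.2.1 == e.2.1 &&
          (suborbitTree.take e.1).any fun q => q.1 == e.2.2.1)) = true := by
  decide +kernel

def isOrder (n : ℕ) : Bool :=
  n == 1 || n == 2 || n == 3 || n == 4 || n == 5 || n == 6 || n == 7 || n == 8 || n == 10 || n == 12 || n == 15

/-- iterates up to the first return of the base -/
def scanPow (q : ℕ → ℕ) : ℕ → ℕ → ℕ → ℕ → ℕ → ℕ → Bool
  | 0, _, _, _, _, _ => false
  | fuel + 1, n, a, b, c, d =>
    bif a == 0 && b == 1 && c == 2 && d == 3 then isOrder n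
    else scanPow q fuel (n + 1) (q a) (q b) (q c) (q d)

def scanElt (t a b c : ℕ) : Bool :=
  let q := fun x => pget t (pget a (pget b (pget c x)))
  scanPow q 15 1 (q 0) (q 1) (q 2) (q 3)

def scanCoset (k : ℕ) : Bool :=
  let t := t0 (cosetReps.getD k 0)
  trans1.all fun a => trans2.all fun b => trans3.all fun c => scanElt t a b c

theorem scan_check0 : scanCoset 0 = true := by decide +kernel
theorem scan_check1 : scanCoset 1 = true := by decide +kernel
theorem scan_check2 : scanCoset 2 = true := by decide +kernel
theorem scan_check3 : scanCoset 3 = true := by decide +kernel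
theorem scan_check4 : scanCoset 4 = true := by decide +kernel
theorem scan_check5 : scanCoset 5 = true := by decide +kernel

/-- an element of the chain at a point -/
def elemAt (e : ℕ × ℕ × ℕ × ℕ) (x : ℕ) : ℕ := pget (t0 e.1) (pget (t1 e.2.1) (pget (t2 e.2.2.1) (pget (t3 e.2.2.2) x)))

def idxOK (e : ℕ × ℕ × ℕ × ℕ) : Bool :=
  decide (e.1 < 315) && decide (e.2.1 < 32) && decide (e.2.2.1 < 5) && decide (e.2.2.2 < 12)

def iterAt (q : ℕ → ℕ) : ℕ → ℕ → ℕ
  | 0, x => x
  | n + 1, x => q (iterAt q n x)

theorem witness_check :
    (orderWitness.map fun e => e.1) = [1, 2, 3, 4, 5, 6, 7, 8, 10, 12, 15] ∧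
    (orderWitness.all fun e => idxOK e.2 && basePts (fun x => iterAt (elemAt e.2) e.1 x == x) &&
      (List.range e.1).all fun k => k == 0 || !(basePts fun x => iterAt (elemAt e.2) k x == x)) = true := by
  decide +kernel

theorem normal_check : (cosetReps.all fun c => pget (t0 c) 0 == 0 || normalWitness.any fun e => e.1 == c) = true ∧
    (normalWitness.all fun e =>
      let t := t0 e.1
      let ti := e.2.1
      let g := e.2.2.1
      let gi := e.2.2.2.1
      let j := t0 e.2.2.2.2.1
      let r := strong0.getD 0 0
      let x := fun v => pget r (pget t (pget r (elemAt ti v)))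
      let z := fun v => x (elemAt g (x (elemAt gi v)))
      idxOK ti && idxOK g && idxOK gi && decide (e.1 < 315) && decide (e.2.2.2.2.1 < 315) &&
        basePts (fun v => pget t (elemAt ti v) == v) && basePts (fun v => elemAt g (elemAt gi v) == v) &&
        basePts (fun v => iterAt z e.2.2.2.2.2 (pget j v) == pget j (pget r v))) = true := by
  decide +kernel

end CfsgLib.Recog.JankoTwo
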