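import Cfsg.Agent.Lib.Recog.JankoTwo.Chain

/-!
# Element orders and simplicity of the permutation group
-/

set_option autoImplicit false
set_option maxRecDepth 20000

namespace CfsgLib.Recog.JankoTwo

attribute [local irreducible] pget t0 t1 t2 t3

theorem basePts_iff {f : ℕ → Bool} : basePts f = true ↔ ∀ x : Fin 315, x.1 < 4 → f x.1 = true := by
  simp only [basePts, Bool.and_eq_true]
  constructor
  · rintro ⟨⟨⟨h0, h1⟩, h2⟩, h3⟩ x hx
    interval_cases h : x.1 <;> assumption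
  · intro h
    exact ⟨⟨⟨h 0 (by norm_num), h 1 (by norm_num)⟩, h 2 (by norm_num)⟩, h 3 (by norm_num)⟩

theorem eq_one_of_base {g : S315} (hg : g ∈ P) (h : ∀ x : Fin 315, x.1 < 4 → (g x).1 = x.1) : g = 1 :=
  ext_base hg (one_mem _) fun x hx => Fin.ext (h x hx)

theorem exists_elem (e : ℕ × ℕ × ℕ × ℕ) (h : idxOK e = true) :
    ∃ g ∈ P, ∀ x : Fin 315, elemAt e x.1 = (g x).1 := by
  simp only [idxOK, Bool.and_eq_true, decide_eq_true_eq] at h
  obtain ⟨⟨⟨ha, hb⟩, hc⟩, hd⟩ := h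
  refine ⟨_, coords_mem ⟨_, ha⟩ ⟨_, hb⟩ ⟨_, hc⟩ ⟨_, hd⟩, fun x => ?_⟩
  unfold elemAt
  rw [show t3 e.2.2.2 = t3 (⟨_, hd⟩ : Fin 12).1 from rfl, U3_rep ⟨_, hd⟩ x,
    show t2 e.2.2.1 = t2 (⟨_, hc⟩ : Fin 5).1 from rfl, U2_rep ⟨_, hc⟩ _,
    show t1 e.2.1 = t1 (⟨_, hb⟩ : Fin 32).1 from rfl, U1_rep ⟨_, hb⟩ _,
    show t0 e.1 = t0 (⟨_, ha⟩ : Fin 315).1 from rfl, U0_rep ⟨_, ha⟩ _]
  rfl

theorem iterAt_pow {q : ℕ → ℕ} {g : S315} (h : ∀ x : Fin 315, q x.1 = (g x).1) :
    ∀ (n : ℕ) (x : Fin 315), iterAt q n x.1 = ((g ^ n) x).1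
  | 0, x => rfl
  | n + 1, x => by
    show q (iterAt q n x.1) = _
    rw [iterAt_pow h n x, h, pow_succ']; rfl

/-- the orders of the elements -/
def orderList : List ℕ := [1, 2, 3, 4, 5, 6, 7, 8, 10, 12, 15]

theorem exists_orderOf_P : ∀ n ∈ orderList, ∃ g ∈ P, orderOf g = n := by
  intro n hn
  obtain ⟨hmap, hall⟩ := witness_check
  have hm : n ∈ orderWitness.map fun e => e.1 := hmap ▸ hn
  obtain ⟨e, he, rfl⟩ := List.mem_map.mp hm
  simp only [List.all_eq_true, Bool.and_eq_true, Bool.or_eq_true, beq_iff_eq, List.mem_range,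
    Bool.not_eq_true'] at hall
  obtain ⟨⟨hidx, hb⟩, hmin⟩ := hall e he
  obtain ⟨g, hg, hx⟩ := exists_elem e.2 hidx
  refine ⟨g, hg, (orderOf_eq_iff ?_).mpr ⟨eq_one_of_base (pow_mem hg _) fun x hx' => ?_, fun m hm hm0 h => ?_⟩⟩
  · simp only [orderList, List.mem_cons, List.not_mem_nil, or_false] at hn
    omega
  · have h := basePts_iff.mp hb x hx'
    rw [iterAt_pow hx] at h
    exact beq_iff_eq.mp h
  · rcases hmin m hm with h' | h'
    · omega
    · rw [← Bool.not_eq_true, basePts_iff] at h'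
      refine h' fun x _ => beq_iff_eq.mpr ?_
      rw [iterAt_pow hx, h]; rfl

theorem scanPow_spec {q : ℕ → ℕ} {g : S315} (hg : g ∈ P) (h : ∀ x : Fin 315, q x.1 = (g x).1) :
    ∀ fuel n : ℕ, 0 < n → (∀ m, 0 < m → m < n → g ^ m ≠ 1) →
      scanPow q fuel n ((g ^ n) 0).1 ((g ^ n) 1).1 ((g ^ n) 2).1 ((g ^ n) 3).1 = true → orderOf g ∈ orderList := by
  intro fuel
  induction fuel with
  | zero => intro n _ _ hs; simp [scanPow] at hs
  | succ fuel ih =>
    intro n hn hmin hs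
    rw [scanPow] at hs
    by_cases hfix : ((g ^ n) 0).1 = 0 ∧ ((g ^ n) 1).1 = 1 ∧ ((g ^ n) 2).1 = 2 ∧ ((g ^ n) 3).1 = 3
    · have h1 : g ^ n = 1 := by
        refine eq_one_of_base (pow_mem hg n) fun x hx => ?_
        obtain ⟨x, hx'⟩ := x
        simp only at hx
        interval_cases x
        exacts [hfix.1, hfix.2.1, hfix.2.2.1, hfix.2.2.2]
      rw [(orderOf_eq_iff hn).mpr ⟨h1, fun m hm hm0 => hmin m hm0 hm⟩]
      simp only [hfix, beq_self_eq_true, Bool.and_self, cond_true, isOrder, Bool.or_eq_true, beq_iff_eq] at hs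
      simp only [orderList, List.mem_cons, List.not_mem_nil, or_false]
      omega
    · have hc : (((g ^ n) 0).1 == 0 && ((g ^ n) 1).1 == 1 && ((g ^ n) 2).1 == 2 && ((g ^ n) 3).1 == 3) = false := by
        rw [Bool.eq_false_iff]
        intro h'
        simp only [Bool.and_eq_true, beq_iff_eq] at h'
        exact hfix ⟨h'.1.1.1, h'.1.1.2, h'.1.2, h'.2⟩
      rw [hc, cond_false] at hs
      refine ih (n + 1) n.succ_pos (fun m hm0 hm => ?_) ?_
      · rcases Nat.lt_succ_iff_lt_or_eq.mp hm with hm' | rfl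
        · exact hmin m hm0 hm'
        · intro h'
          rw [h'] at hfix
          exact hfix ⟨rfl, rfl, rfl, rfl⟩
      · simp only [h] at hs
        simpa only [pow_succ', Equiv.Perm.mul_apply] using hs

/-- the stabiliser of the first line -/
noncomputable def stab : Subgroup S315 := P ⊓ MulAction.stabilizer S315 (0 : Fin 315)

theorem exists_root (i : Fin 315) : ∃ h ∈ stab, ∃ r : Fin 315,
    (∃ c ∈ cosetReps, pget (t0 c) 0 = r.1) ∧ h r = i := by
  obtain ⟨hcov, -, hlt, htree⟩ := suborbit_check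
  simp only [List.all_eq_true, List.mem_range, List.any_eq_true, beq_iff_eq] at hcov
  simp only [List.all_eq_true, Bool.or_eq_true, Bool.and_eq_true, beq_iff_eq, decide_eq_true_eq,
    List.any_eq_true, isRoot] at htree
  have key : ∀ k, ∀ (hk : k < suborbitTree.length) (hi : (suborbitTree[k]).1 < 315), ∃ h ∈ stab, ∃ r : Fin 315,
      (∃ c ∈ cosetReps, pget (t0 c) 0 = r.1) ∧ h r = ⟨_, hi⟩ := by
    intro k
    induction k using Nat.strong_induction_on with
    | _ k ih =>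
      intro hk hi
      have hl : k < ((List.range suborbitTree.length).zip suborbitTree).length := by simp [hk]
      have hx := htree _ (List.getElem_mem hl)
      simp only [List.getElem_zip, List.getElem_range] at hx
      rcases hx with ⟨-, c, hc, hc'⟩ | ⟨⟨hs, he⟩, q, hq, hq'⟩
      · exact ⟨1, one_mem _, ⟨_, hi⟩, ⟨c, hc, hc'⟩, rfl⟩
      · obtain ⟨l, hl', rfl⟩ := List.getElem_of_mem hq
        simp only [List.length_take] at hl'
        rw [List.getElem_take] at hq'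
        have hpar : (suborbitTree[l]).1 < 315 := by
          have hb : suborbitTree.all (fun e => decide (e.1 < 315)) = true := by decide +kernel
          simp only [List.all_eq_true, decide_eq_true_eq] at hb
          exact hb _ (List.getElem_mem _)
        obtain ⟨h, hh, r, hr, hhr⟩ := ih l (by omega) (by omega) hpar
        obtain ⟨σ, hσ, rσ⟩ := inside_strong.1 _ (by rw [gens_check.1.2.1]; exact hs)
        have hσ0 : σ 0 = 0 := by
          have hb := base_check.2.2.2.2.2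
          simp only [List.all_eq_true, beq_iff_eq] at hb
          have hm : strong1.getD (suborbitTree[k]).2.2 0 ∈ strong1 := by
            rw [List.getD_eq_getElem _ _ (by rw [gens_check.1.2.1]; exact hs)]; exact List.getElem_mem _
          exact Fin.ext ((rσ 0).symm.trans (hb _ hm))
        refine ⟨σ * h, mul_mem ⟨hσ, hσ0⟩ hh, r, hr, Fin.ext ?_⟩
        rw [Equiv.Perm.mul_apply, hhr, ← rσ]
        simp only
        rw [hq', he]
  obtain ⟨e, he, hei⟩ := hcov i.1 i.2
  obtain ⟨k, hk, rfl⟩ := List.getElem_of_mem he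
  obtain ⟨h, hh, r, hr, e'⟩ := key k hk (by omega)
  exact ⟨h, hh, r, hr, e'.trans (Fin.ext hei)⟩

theorem orderOf_P {g : S315} (hg : g ∈ P) : orderOf g ∈ orderList := by
  obtain ⟨h, hh, r, ⟨c, hc, hcr⟩, hhr⟩ := exists_root (g 0)
  have hh0 : h 0 = 0 := hh.2
  set g' := h⁻¹ * g * h with hg'
  have hg'P : g' ∈ P := mul_mem (mul_mem (inv_mem hh.1) hg) hh.1
  have hord : orderOf g' = orderOf g := by
    have := orderOf_injective (MulAut.conj h⁻¹).toMonoidHom (MulAut.conj h⁻¹).injective g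
    simpa [hg'] using this
  rw [← hord]
  have hr : g' 0 = r := by
    rw [hg', Equiv.Perm.mul_apply, Equiv.Perm.mul_apply, hh0, ← hhr]
    simp
  obtain ⟨a, b, cc, d, e⟩ := exists_coords hg'P
  have hc315 : c < 315 := by
    have := suborbit_check.2.2.1
    simp only [List.all_eq_true, decide_eq_true_eq] at this
    exact this c hc
  have ha : a = ⟨c, hc315⟩ := by
    refine U_inj.1 ?_
    show U0 a 0 = U0 ⟨c, hc315⟩ 0
    have e1 : g' 0 = U0 a 0 := by
      rw [e]
      simp only [Equiv.Perm.mul_apply, show U3 d 0 = 0 from Fin.ext (U_fix.2.2 d).1,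
        show U2 cc 0 = 0 from Fin.ext (U_fix.2.1 cc).1, show U1 b 0 = 0 from Fin.ext (U_fix.1 b)]
    rw [← e1, hr]
    exact Fin.ext (hcr.symm.trans (U0_rep ⟨c, hc315⟩ 0))
  obtain ⟨k, hk, hkc⟩ := List.getElem_of_mem hc
  have hscan : scanCoset k = true := by
    have : k < 6 := by rw [← suborbit_check.2.1]; exact hk
    interval_cases k
    exacts [scan_check0, scan_check1, scan_check2, scan_check3, scan_check4, scan_check5]
  simp only [scanCoset, List.getD_eq_getElem _ _ hk, hkc, List.all_eq_true] at hscan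
  obtain ⟨l0, l1, l2, l3⟩ := base_check.2.2.2.2.1
  have hs := hscan (trans1.getD b.1 0)
    (by rw [List.getD_eq_getElem _ _ (by rw [l1]; exact b.2)]; exact List.getElem_mem _) (trans2.getD cc.1 0)
    (by rw [List.getD_eq_getElem _ _ (by rw [l2]; exact cc.2)]; exact List.getElem_mem _) (trans3.getD d.1 0)
    (by rw [List.getD_eq_getElem _ _ (by rw [l3]; exact d.2)]; exact List.getElem_mem _)
  have hq : ∀ x : Fin 315, pget (t0 c) (pget (trans1.getD b.1 0) (pget (trans2.getD cc.1 0) (pget (trans3.getD d.1 0) x.1))) =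
      (g' x).1 := fun x => by
    have r1 := U1_rep b; have r2 := U2_rep cc; have r3 := U3_rep d
    unfold t1 at r1; unfold t2 at r2; unfold t3 at r3
    rw [r3 x, r2 _, r1 _, show c = (⟨c, hc315⟩ : Fin 315).1 from rfl, U0_rep ⟨c, hc315⟩ _, e, ha]
    rfl
  simp only [scanElt] at hs
  refine scanPow_spec (q := fun x => pget (t0 c) (pget (trans1.getD b.1 0) (pget (trans2.getD cc.1 0) (pget (trans3.getD d.1 0) x))))
    hg'P hq 15 1 Nat.one_pos (fun m h1 h2 => by omega) ?_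
  rw [pow_one, ← hq 0, ← hq 1, ← hq 2, ← hq 3]
  exact hs

/-- the first generator fixes no more than its own kind: it fixes line `0` and commutes with the stabiliser -/
theorem rep_gen_zero : Rep (gen 0) (strong0.getD 0 0) := gen_rep 0

theorem normal_contains {N : Subgroup S315} (hNP : N ≤ P) (hnorm : ∀ g ∈ P, ∀ n ∈ N, g * n * g⁻¹ ∈ N)
    (hcent : ∀ h ∈ stab, Commute h (gen 0)) {x : S315} (hx : x ∈ N) (hx0 : x 0 ≠ 0) :
    ∃ j ∈ P, j * gen 0 * j⁻¹ ∈ N := by
  obtain ⟨h, hh, r, ⟨c, hc, hcr⟩, hhr⟩ := exists_root (x 0)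
  have hh0 : h 0 = 0 := hh.2
  set y := h⁻¹ * x * h with hy
  have hyN : y ∈ N := by
    have := hnorm _ (inv_mem hh.1) _ hx
    rwa [inv_inv] at this
  have hyr : y 0 = r := by
    rw [hy, Equiv.Perm.mul_apply, Equiv.Perm.mul_apply, hh0, ← hhr]; simp
  have hr0 : r.1 ≠ 0 := fun e => hx0 (by rw [← hhr, show r = 0 from Fin.ext e, hh0])
  obtain ⟨h1, h2⟩ := normal_check
  simp only [List.all_eq_true, Bool.or_eq_true, beq_iff_eq, List.any_eq_true] at h1
  obtain ⟨w, hw, hwc⟩ : ∃ w ∈ normalWitness, w.1 = c := by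
    rcases h1 c hc with h' | h'
    · exact absurd (hcr.symm.trans h') hr0
    · exact h'
  simp only [List.all_eq_true, Bool.and_eq_true, decide_eq_true_eq] at h2
  obtain ⟨⟨⟨⟨⟨⟨⟨iT, iG⟩, iGi⟩, hlt⟩, hjlt⟩, eT⟩, eG⟩, eZ⟩ := h2 w hw
  obtain ⟨ti, hti, rti⟩ := exists_elem _ iT
  obtain ⟨g, hg, rg⟩ := exists_elem _ iG
  obtain ⟨gi, hgi, rgi⟩ := exists_elem _ iGi
  set t := U0 ⟨_, hlt⟩ with ht
  set j := U0 ⟨_, hjlt⟩ with hj
  have rt : Rep t (t0 w.1) := U0_rep ⟨_, hlt⟩
  have rj : Rep j (t0 w.2.2.2.2.1) := U0_rep ⟨_, hjlt⟩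
  have e1 : ti = t⁻¹ := by
    refine eq_inv_of_mul_eq_one_right (eq_one_of_base (mul_mem (U0_mem _) hti) fun v hv => ?_)
    have := basePts_iff.mp eT v hv
    rw [beq_iff_eq, rti, rt] at this
    exact this
  have e2 : gi = g⁻¹ := by
    refine eq_inv_of_mul_eq_one_right (eq_one_of_base (mul_mem hg hgi) fun v hv => ?_)
    have := basePts_iff.mp eG v hv
    rw [beq_iff_eq, rgi, rg] at this
    exact this
  -- the product of the two reflections lies in the subgroup
  have hgen : gen 0 ∈ P := Subgroup.subset_closure ⟨0, rfl⟩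
  have hR : y * gen 0 * y⁻¹ = t * gen 0 * t⁻¹ := by
    have hty : t 0 = r := by
      apply Fin.ext; rw [← rt 0, hwc]; exact hcr
    have hmem : t⁻¹ * y ∈ stab := ⟨(show t⁻¹ * y ∈ P from mul_mem (inv_mem (U0_mem _)) (hNP hyN)), by
      show (t⁻¹ * y) 0 = 0
      rw [Equiv.Perm.mul_apply, hyr, ← hty]; simp⟩
    have hc' := (hcent _ hmem).eq
    calc y * gen 0 * y⁻¹ = t * (t⁻¹ * y * gen 0) * y⁻¹ := by group
      _ = t * (gen 0 * (t⁻¹ * y)) * y⁻¹ := by rw [hc']
      _ = t * gen 0 * t⁻¹ := by group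
  have hX : gen 0 * (t * (gen 0 * t⁻¹)) ∈ N := by
    have e : gen 0 * (t * (gen 0 * t⁻¹)) = (gen 0 * y * (gen 0)⁻¹) * y⁻¹ := by
      rw [show gen 0 * y * (gen 0)⁻¹ * y⁻¹ = gen 0 * (y * gen 0 * y⁻¹)⁻¹ by group, hR]
      have hinv : (gen 0)⁻¹ = gen 0 := by
        refine inv_eq_of_mul_eq_one_left (Equiv.ext fun i => Fin.ext ?_)
        have hk : ((List.range 315).all fun i => (icoPerm 0).getD ((icoPerm 0).getD i 0) 0 == i) = true := by decide +kernel
        simp only [List.all_eq_true, List.mem_range, beq_iff_eq] at hk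
        show ((gen 0) ((gen 0) i)).1 = i.1
        rw [gen_apply, gen_apply]; exact hk i.1 i.2
      rw [_root_.mul_inv_rev, _root_.mul_inv_rev, inv_inv, hinv]
    rw [e]
    exact mul_mem (hnorm _ hgen _ hyN) (inv_mem hyN)
  set X := gen 0 * (t * (gen 0 * t⁻¹)) with hXdef
  have hZ : (X * (g * (X * g⁻¹))) ^ w.2.2.2.2.2 = j * gen 0 * j⁻¹ := by
    rw [eq_mul_inv_iff_mul_eq]
    refine ext_base (mul_mem (pow_mem (mul_mem (hNP hX) (mul_mem hg (mul_mem (hNP hX) (inv_mem hg)))) _) (U0_mem _))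
      (mul_mem (U0_mem _) hgen) fun v hv => Fin.ext ?_
    have h' := basePts_iff.mp eZ v hv
    rw [beq_iff_eq, rep_gen_zero v, rj] at h'
    rw [iterAt_pow (g := X * (g * (X * g⁻¹))) (fun u => ?_) _ (j v)] at h'
    · exact h'.trans (rj (gen 0 v))
    · have hXe : ∀ u : Fin 315, pget (strong0.getD 0 0) (pget (t0 w.1) (pget (strong0.getD 0 0)
          (elemAt w.2.1 u.1))) = (X u).1 := fun u => by
        rw [rti, rep_gen_zero, rt, rep_gen_zero, hXdef, e1]
        rfl
      rw [rgi, hXe, rg, hXe, e2]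
      rfl
  refine ⟨j, U0_mem _, ?_⟩
  rw [← hZ]
  refine pow_mem (mul_mem hX ?_) _
  have := hnorm g hg X hX
  rwa [mul_assoc] at this

end CfsgLib.Recog.JankoTwo
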