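import Cfsg.Agent.Lib.Recog.Icosian.Action
import Cfsg.Agent.Lib.Recog.JankoTwo.Properties

/-!
# The Hall-Janko group as a permutation group on 315 lines
-/

set_option autoImplicit false
set_option maxRecDepth 20000

namespace CfsgLib.Recog.JankoTwo

open Quaternion Cfsg.Spor Icosian

attribute [local irreducible] pget t0 t1 t2 t3 permTab unitTab rootOf lineOf unitAt repsAt smallAt qmul nrm

theorem genFun_val (k : Fin 4) (i : Fin 315) : (genFun k i).1 = (icoPerm k.1).getD i.1 0 % 315 := by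
  show (permTab k.1).getD i.1 0 % 315 = _
  unfold permTab icoPerm
  rfl

theorem gen_eq (k : Fin 4) : lineHom (genElt k) = gen k := by
  refine Equiv.ext fun i => Fin.ext ?_
  rw [lineHom_genElt, genFun_val, gen_apply]
  exact Nat.mod_eq_of_lt (by rw [← gen_apply]; exact (gen k i).2)

theorem lineHom_range : lineHom.range = P := by
  rw [MonoidHom.range_eq_map, ← genElt_closure, MonoidHom.map_closure, P, ← Set.range_comp]
  congr 1
  ext σ
  simp [gen_eq]

theorem stab_commute {h : S315} (hh : h ∈ stab) : Commute h (gen 0) := by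
  obtain ⟨f, rfl⟩ : h ∈ lineHom.range := lineHom_range ▸ hh.1
  have h0 : lineMap f (genIdx 0) = genIdx 0 := by
    have : genIdx 0 = (0 : Fin 315) := Fin.ext (by
      show rootOf 0 = 0
      exact tree_check.2.1)
    rw [this]; exact hh.2
  have e : f * genElt 0 = genElt 0 * f := by
    obtain ⟨g, hg, hgx⟩ := exists_linIso (twoJ2_eq ▸ f.2 : (f : Equiv.Perm icoLeech) ∈ genGroup)
    obtain ⟨a, ha⟩ := lineMap_spec f (genIdx 0)
    rw [h0, hgx] at ha
    refine Subtype.ext (Equiv.ext fun x => Subtype.ext ?_)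
    show ((f : Equiv.Perm icoLeech) (genPerm 0 x) : W) = qrefl (vev (root (genIdx 0))) ((f : Equiv.Perm icoLeech) x)
    rw [hgx, hgx]
    show g (qrefl (vev (root (genIdx 0))) x) = _
    rw [← hg.map_qrefl, show g (vev (root (genIdx 0))) = unitRoot a (genIdx 0) from ha, unitRoot,
      qrefl_unit (unit_star a).2.1]
  show lineHom f * gen 0 = gen 0 * lineHom f
  rw [← gen_eq, ← map_mul, ← map_mul, e]

theorem gen_conj (k : Fin 4) : ∃ g ∈ P, gen k = g * gen 0 * g⁻¹ := by
  obtain ⟨-, g, hg, e⟩ := reflection_in_genGroup (genPerm_isRefl k)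
  have hg' : g ∈ twoJ2 := twoJ2_eq ▸ hg
  refine ⟨lineHom ⟨g, hg'⟩, lineHom_range ▸ ⟨_, rfl⟩, ?_⟩
  rw [← gen_eq, ← gen_eq, show genElt k = ⟨g, hg'⟩ * genElt 0 * (⟨g, hg'⟩ : twoJ2)⁻¹ from Subtype.ext e, map_mul,
    map_mul, map_inv]

theorem isSimple_P : IsSimpleGroup P := by
  haveI : Finite P := Nat.finite_of_card_ne_zero (by rw [card_P]; norm_num)
  haveI : Nontrivial P := Finite.one_lt_card_iff_nontrivial.mp (by rw [card_P]; norm_num)
  refine { eq_bot_or_eq_top_of_normal := fun N hN => ?_ }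
  by_cases hbot : N = ⊥
  · exact Or.inl hbot
  right
  obtain ⟨x, hx, hx1⟩ := (Subgroup.bot_or_exists_ne_one N).resolve_left hbot
  obtain ⟨i, hi⟩ : ∃ i, (x : S315) i ≠ i := by
    by_contra h
    push Not at h
    exact hx1 (Subtype.ext (Equiv.ext h))
  set N' := N.map P.subtype with hN'
  have hle : N' ≤ P := Subgroup.map_subtype_le N
  have hnorm : ∀ g ∈ P, ∀ n ∈ N', g * n * g⁻¹ ∈ N' := by
    rintro g hg _ ⟨n, hn, rfl⟩
    exact ⟨⟨g, hg⟩ * n * (⟨g, hg⟩ : P)⁻¹, hN.conj_mem n hn ⟨g, hg⟩, rfl⟩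
  -- move to the first line
  have hu : U0 ⟨0, by norm_num⟩ = 1 := U_one.1
  obtain ⟨b, hb⟩ : ∃ b, U0 b 0 = i := by
    have hsurj : Function.Surjective fun a => U0 a 0 := Finite.surjective_of_injective U_inj.1
    exact hsurj i
  have hxN : (U0 b)⁻¹ * (x : S315) * U0 b ∈ N' := by
    have := hnorm _ (inv_mem (U0_mem b)) _ ⟨x, hx, rfl⟩
    rwa [inv_inv] at this
  obtain ⟨j, hj, hjN⟩ := normal_contains hle hnorm (fun h hh => stab_commute hh) hxN (by
    rw [Equiv.Perm.mul_apply, Equiv.Perm.mul_apply, hb, ne_eq, Equiv.Perm.inv_def, Equiv.symm_apply_eq, hb]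
    exact hi)
  have h0 : gen 0 ∈ N' := by
    have := hnorm _ (inv_mem hj) _ hjN
    rwa [show j⁻¹ * (j * gen 0 * j⁻¹) * j⁻¹⁻¹ = gen 0 by group] at this
  have hall : P ≤ N' := by
    refine (Subgroup.closure_le _).mpr ?_
    rintro _ ⟨k, rfl⟩
    obtain ⟨g, hg, e⟩ := gen_conj k
    exact e ▸ hnorm g hg _ h0
  refine (Subgroup.eq_top_iff' N).mpr fun y => ?_
  obtain ⟨n, hn, e⟩ := hall y.2
  rwa [show y = n from Subtype.ext e.symm]

theorem not_comm_P : ∃ a b : P, a * b ≠ b * a := by
  by_contra h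
  push Not at h
  haveI := isSimple_P
  haveI : Finite P := Nat.finite_of_card_ne_zero (by rw [card_P]; norm_num)
  letI : CommGroup P := { (inferInstance : Group P) with mul_comm := h }
  have hp := IsSimpleGroup.prime_card (α := P)
  rw [card_P] at hp
  norm_num at hp

theorem center_P : Subgroup.center P = ⊥ := by
  haveI := isSimple_P
  refine (IsSimpleGroup.eq_bot_or_eq_top_of_normal (Subgroup.center P) inferInstance).resolve_right fun h => ?_
  obtain ⟨a, b, hab⟩ := not_comm_P
  exact hab ((Subgroup.mem_center_iff.mp (h ▸ Subgroup.mem_top b : b ∈ Subgroup.center P)) a)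

/-- `-1` in the reflection group -/
theorem exists_neg_one : ∃ z : twoJ2, ∀ x : icoLeech, (((z : Equiv.Perm icoLeech) x : icoLeech) : W) = -(x : W) := by
  have hperm : ∀ v : V, inLam v = true → zadd (zadd (nrm v.1) (nrm v.2.1)) (nrm v.2.2) = (16, 0) →
      ∃ f : twoJ2, ∀ x : icoLeech, (((f : Equiv.Perm icoLeech) x : icoLeech) : W) = qrefl (vev v) x := by
    intro v hv hn
    obtain ⟨a, i, e⟩ := exists_unitRoot (mem_icoLeech_iff.mpr ⟨v, hv, rfl⟩) ((qip_self v).mpr hn)
    obtain ⟨f, hf, hfx, -⟩ := exists_refl_perm i.1 i.2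
    refine ⟨⟨f, twoJ2_eq ▸ hf⟩, fun x => ?_⟩
    rw [hfx, e, unitRoot, qrefl_unit (unit_star a).2.1]
  obtain ⟨f, hf⟩ := hperm (qadd qone qone, qzero, qzero) (by decide +kernel) (by decide +kernel)
  obtain ⟨f', hf'⟩ := hperm (qzero, qadd qone qone, qzero) (by decide +kernel) (by decide +kernel)
  obtain ⟨f'', hf''⟩ := hperm (qzero, qzero, qadd qone qone) (by decide +kernel) (by decide +kernel)
  refine ⟨f * f' * f'', fun x => ?_⟩
  rw [Subgroup.coe_mul, Subgroup.coe_mul, Equiv.Perm.mul_apply, Equiv.Perm.mul_apply, hf, hf', hf'']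
  have key : ∀ z : ℍ[ℝ], z - (2⁻¹ : ℝ) • (z * 2 * 2) = -z := fun z => by
    rw [mul_two (z * 2), show (2⁻¹ : ℝ) = 1 / 2 by norm_num, smul_add, two_half, mul_two]; abel
  funext t
  fin_cases t <;>
    simp [qrefl, qip, Fin.sum_univ_three, vev, qev_qadd, qev_one, qev_zero, one_add_one_eq_two] <;>
    exact key _

theorem ker_card : Nat.card lineHom.ker = 2 := by
  obtain ⟨z, hz⟩ := exists_neg_one
  have hzk : lineHom z = 1 := by
    refine Equiv.ext fun i => ?_
    obtain ⟨a, ha⟩ : ∃ a : Fin 120, qev (unitQ a) = -1 := by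
      have : ((List.range 120).any fun m => qeq (unitAt m) (qneg qone)) = true := by decide +kernel
      simp only [List.any_eq_true, List.mem_range, qeq_iff] at this
      obtain ⟨m, hm, e⟩ := this
      exact ⟨⟨m, hm⟩, by rw [unitQ, e, qev_qneg, qev_one]⟩
    refine lineMap_eq z (a := a) ?_
    rw [hz, unitRoot, ha]
    funext k; simp [lsmul]
  have hz1 : z ≠ 1 := fun e => by
    have h0 := hz ⟨vev basisThree, mem_icoLeech_iff.mpr ⟨_, basis_mem.2.2, rfl⟩⟩
    rw [e] at h0
    have h2 := congrArg QuaternionAlgebra.re (congrFun h0 2)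
    simp [vev, basisThree, qev_qadd, qev_one] at h2
    linarith
  have hset : (lineHom.ker : Set twoJ2) = {1, z} := by
    ext f
    refine ⟨fun hf => ?_, ?_⟩
    · rcases kernel_sign f hf with h | h
      · exact Or.inl (Subtype.ext (Equiv.ext fun x => Subtype.ext (h x)))
      · exact Or.inr (Subtype.ext (Equiv.ext fun x => Subtype.ext ((h x).trans (hz x).symm)))
    · rintro (rfl | rfl)
      · exact map_one lineHom
      · exact hzk
  rw [← Set.ncard_pair hz1.symm, ← hset, ← Nat.card_coe_set_eq]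
  rfl

theorem card_twoJ2 : Nat.card twoJ2 = 1209600 := by
  rw [Subgroup.card_eq_card_quotient_mul_card_subgroup lineHom.ker, ker_card,
    Nat.card_congr (QuotientGroup.quotientKerEquivRange lineHom).toEquiv, lineHom_range, card_P]

theorem center_eq : Subgroup.center twoJ2 = lineHom.ker := by
  refine le_antisymm (fun z hz => ?_) (fun z hz => ?_)
  · have hmem : lineHom z ∈ P := lineHom_range ▸ ⟨z, rfl⟩
    have hc : (⟨lineHom z, hmem⟩ : P) ∈ Subgroup.center P := by
      rw [Subgroup.mem_center_iff]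
      rintro ⟨g, hg⟩
      obtain ⟨f, rfl⟩ : g ∈ lineHom.range := lineHom_range ▸ hg
      refine Subtype.ext ?_
      show lineHom f * lineHom z = lineHom z * lineHom f
      rw [← map_mul, ← map_mul, Subgroup.mem_center_iff.mp hz f]
    rw [center_P, Subgroup.mem_bot] at hc
    exact MonoidHom.mem_ker.mpr (congrArg Subtype.val hc)
  · rw [Subgroup.mem_center_iff]
    intro f
    obtain ⟨g, hg, hgx⟩ := exists_linIso (twoJ2_eq ▸ f.2 : (f : Equiv.Perm icoLeech) ∈ genGroup)
    refine Subtype.ext (Equiv.ext fun x => Subtype.ext ?_)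
    rw [Subgroup.coe_mul, Subgroup.coe_mul, Equiv.Perm.mul_apply, Equiv.Perm.mul_apply]
    rcases kernel_sign z hz with h | h
    · rw [h, hgx, hgx, h]
    · rw [h, hgx, hgx, h]
      have : g (-(x : W)) = -g (x : W) := by
        have h0 : g 0 = 0 := by simpa using hg.sub 0 0
        have := hg.sub 0 (x : W)
        rwa [h0, zero_sub, zero_sub] at this
      exact this

/-- the Hall-Janko group is the permutation group -/
noncomputable def equivP : J2 ≃* P :=
  ((QuotientGroup.quotientMulEquivOfEq center_eq).trans (QuotientGroup.quotientKerEquivRange lineHom)).trans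
    (MulEquiv.subgroupCongr lineHom_range)

theorem card_J2 : Nat.card J2 = 604800 := by rw [Nat.card_congr equivP.toEquiv, card_P]

theorem range_orderOf_J2 : Set.range (orderOf : J2 → ℕ) = {n | n ∈ orderList} := by
  ext n
  constructor
  · rintro ⟨x, rfl⟩
    show orderOf x ∈ orderList
    rw [← MulEquiv.orderOf_eq equivP x, ← Subgroup.orderOf_coe]
    exact orderOf_P (equivP x).2
  · intro hn
    obtain ⟨g, hg, e⟩ := exists_orderOf_P n hn
    exact ⟨equivP.symm ⟨g, hg⟩, by rw [MulEquiv.orderOf_eq, Subgroup.orderOf_mk, e]⟩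

theorem isSimple_J2 : IsSimpleGroup J2 := by
  have := isSimple_P
  have : Finite J2 := Nat.finite_of_card_ne_zero (by rw [card_J2]; norm_num)
  have : Nontrivial J2 := Finite.one_lt_card_iff_nontrivial.mp (by rw [card_J2]; norm_num)
  exact IsSimpleGroup.isSimpleGroup_of_surjective equivP.symm.toMonoidHom equivP.symm.surjective

end CfsgLib.Recog.JankoTwo
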