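import Mathlib
import Cfsg.Agent.Lib.Known.SL2Multiplier
import Cfsg.Agent.Lib.Recog.JankoTwo.Properties

/-!
# Odd parts of the multiplier of the Hall-Janko group
-/

set_option autoImplicit false
set_option maxRecDepth 20000

namespace CfsgLib.Recog.JankoTwo

open scoped commutatorElement

section Central

variable {Γ Q : Type*} [Group Γ] [Group Q] (σ : Γ →* Q)

/-- commutators in a central extension only depend on the images -/
theorem comm_congr (hc : σ.ker ≤ Subgroup.center Γ) {u u' v v' : Γ} (h1 : σ u = σ u') (h2 : σ v = σ v') :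
    ⁅u, v⁆ = ⁅u', v'⁆ := by
  obtain ⟨a, ha, rfl⟩ : ∃ a ∈ σ.ker, u = u' * a := ⟨u'⁻¹ * u, by simp [h1], by group⟩
  obtain ⟨b, hb, rfl⟩ : ∃ b ∈ σ.ker, v = v' * b := ⟨v'⁻¹ * v, by simp [h2], by group⟩
  have ca := Subgroup.mem_center_iff.mp (hc ha)
  have cb := Subgroup.mem_center_iff.mp (hc hb)
  simp only [commutatorElement_def, mul_inv_rev]
  calc u' * a * (v' * b) * (a⁻¹ * u'⁻¹) * (b⁻¹ * v'⁻¹)
      = u' * (a * (v' * b)) * a⁻¹ * u'⁻¹ * (b⁻¹ * v'⁻¹) := by group
    _ = u' * v' * (b * u'⁻¹) * b⁻¹ * v'⁻¹ := by rw [← ca (v' * b)]; group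
    _ = u' * v' * u'⁻¹ * v'⁻¹ := by rw [← cb u'⁻¹]; group

theorem comm_pow {u v : Γ} (h : Commute ⁅u, v⁆ u) (n : ℕ) : ⁅u ^ n, v⁆ = ⁅u, v⁆ ^ n := by
  induction n with
  | zero => simp
  | succ n ih =>
    have e : ⁅u ^ (n + 1), v⁆ = u * ⁅u ^ n, v⁆ * u⁻¹ * ⁅u, v⁆ := by
      rw [pow_succ']; simp only [commutatorElement_def]; group
    rw [e, ih, ← (h.pow_left n).eq, mul_inv_cancel_right, pow_succ]

/-- commuting elements of odd order have commuting lifts if some element fixes one and inverts the other -/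
theorem lifts_commute (hc : σ.ker ≤ Subgroup.center Γ) {u v x : Γ} (hx : σ (x * u * x⁻¹) = σ u⁻¹)
    (hy : σ (x * v * x⁻¹) = σ v) {n : ℕ} (hn : Odd n) (hu : σ u ^ n = 1) (huv : Commute (σ u) (σ v)) :
    Commute u v := by
  rw [← commutatorElement_eq_one_iff_commute]
  have hd : ⁅u, v⁆ ∈ Subgroup.center Γ := hc (by
    rw [MonoidHom.mem_ker, map_commutatorElement, commutatorElement_eq_one_iff_commute]; exact huv)
  have hd' := Subgroup.mem_center_iff.mp hd
  have h1 : ⁅u, v⁆ = ⁅u⁻¹, v⁆ := by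
    rw [← comm_congr σ hc hx hy, ← conjugate_commutatorElement, hd', mul_inv_cancel_right]
  have h2 : ⁅u⁻¹, v⁆ = ⁅u, v⁆⁻¹ := by
    have e : ⁅u⁻¹, v⁆ = u⁻¹ * ⁅u, v⁆⁻¹ * u := by simp only [commutatorElement_def]; group
    rw [e, Subgroup.mem_center_iff.mp (inv_mem hd) u⁻¹, inv_mul_cancel_right]
  have h3 : ⁅u, v⁆ ^ n = 1 := by
    rw [← comm_pow (u := u) (v := v) (hd' u).symm,
      comm_congr σ hc (u' := (1 : Γ)) (v' := v) (by rw [map_pow, hu, map_one]) rfl, commutatorElement_one_left]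
  have h4 : ⁅u, v⁆ ^ 2 = 1 := by
    rw [sq]; nth_rw 2 [h1]; rw [h2, mul_inv_cancel]
  obtain ⟨k, rfl⟩ := hn
  rwa [pow_succ, pow_mul, h4, one_pow, one_mul] at h3

/-- the commutator of a subgroup with central generators' commutators -/
theorem commutator_closure_le {S : Set Γ} {Z : Subgroup Γ} (hZ : ∀ z ∈ Z, ∀ s ∈ S, Commute z s)
    (h : ∀ s ∈ S, ∀ t ∈ S, ⁅s, t⁆ ∈ Z) : ⁅Subgroup.closure S, Subgroup.closure S⁆ ≤ Z := by
  have hZ' : ∀ z ∈ Z, ∀ g ∈ Subgroup.closure S, Commute z g := fun z hz g hg => by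
    induction hg using Subgroup.closure_induction with
    | mem y hy => exact hZ z hz y hy
    | one => exact Commute.one_right z
    | mul a b _ _ ha hb => exact ha.mul_right hb
    | inv a _ ha => exact ha.inv_right
  have h1 : ∀ t ∈ S, ∀ g ∈ Subgroup.closure S, ⁅g, t⁆ ∈ Z := fun t ht g hg => by
    induction hg using Subgroup.closure_induction with
    | mem y hy => exact h y hy t ht
    | one => rw [commutatorElement_one_left]; exact one_mem _
    | mul a b ha _ ia ib =>
      have e : ⁅a * b, t⁆ = a * ⁅b, t⁆ * a⁻¹ * ⁅a, t⁆ := by simp only [commutatorElement_def]; group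
      rw [e, ← (hZ' _ ib a ha).eq, mul_inv_cancel_right]
      exact mul_mem ib ia
    | inv a ha ia =>
      have e : ⁅a⁻¹, t⁆ = a⁻¹ * ⁅a, t⁆⁻¹ * a := by simp only [commutatorElement_def]; group
      rw [e, ← (hZ' _ (inv_mem ia) a⁻¹ (inv_mem ha)).eq, inv_mul_cancel_right]
      exact inv_mem ia
  rw [Subgroup.commutator_le]
  intro g hg k hk
  induction hk using Subgroup.closure_induction with
  | mem y hy => exact h1 y hy g hg
  | one => rw [commutatorElement_one_right]; exact one_mem _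
  | mul a b ha _ ia ib =>
    have e : ⁅g, a * b⁆ = ⁅g, a⁆ * (a * ⁅g, b⁆ * a⁻¹) := by simp only [commutatorElement_def]; group
    rw [e, ← (hZ' _ ib a ha).eq, mul_inv_cancel_right]
    exact mul_mem ia ib
  | inv a ha ia =>
    have e : ⁅g, a⁻¹⁆ = a⁻¹ * ⁅g, a⁆⁻¹ * a := by simp only [commutatorElement_def]; group
    rw [e, ← (hZ' _ (inv_mem ia) a⁻¹ (inv_mem ha)).eq, inv_mul_cancel_right]
    exact inv_mem ia

theorem comap_closure_pair {a b : Q} {a' b' : Γ} (ha : σ a' = a) (hb : σ b' = b) :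
    (Subgroup.closure {a, b}).comap σ = Subgroup.closure ({a', b'} ∪ (σ.ker : Set Γ)) := by
  rw [← ha, ← hb, show ({σ a', σ b'} : Set Q) = σ '' {a', b'} from (Set.image_pair _ _ _).symm,
    ← MonoidHom.map_closure, Subgroup.comap_map_eq, Subgroup.closure_union, Subgroup.closure_eq]

theorem mem_commutator_comap {U : Subgroup Q} {z : Γ} {h : z ∈ U.comap σ}
    (hcom : (⟨z, h⟩ : U.comap σ) ∈ commutator (U.comap σ)) : z ∈ ⁅U.comap σ, U.comap σ⁆ := by
  rw [← Subgroup.map_subtype_commutator]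
  exact Subgroup.mem_map_of_mem _ hcom

end Central

section Group

attribute [local irreducible] pget t0 t1 t2 t3 elemAt

/-- a function on points gives a permutation in the group -/
def Acts (g : P) (q : ℕ → ℕ) : Prop := ∀ x : Fin 315, q x.1 = ((g : S315) x).1

theorem Acts.mul {g h : P} {q r : ℕ → ℕ} (hg : Acts g q) (hh : Acts h r) : Acts (g * h) fun x => q (r x) :=
  fun x => by show q (r x.1) = _; rw [hh x, hg]; rfl

theorem Acts.one : Acts 1 fun x => x := fun _ => rfl

theorem Acts.pow {g : P} {q : ℕ → ℕ} (hg : Acts g q) (n : ℕ) : Acts (g ^ n) (iterAt q n) :=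
  fun x => by rw [iterAt_pow hg n x, Subgroup.coe_pow]

theorem Acts.eq_iff {g h : P} {q r : ℕ → ℕ} (hg : Acts g q) (hh : Acts h r) :
    g = h ↔ basePts (fun x => q x == r x) = true := by
  rw [basePts_iff]
  refine ⟨fun e x _ => beq_iff_eq.mpr (by rw [hg, hh, e]), fun e => Subtype.ext (ext_base g.2 h.2 fun x hx => Fin.ext ?_)⟩
  have h' := beq_iff_eq.mp (e x hx)
  rwa [hg, hh] at h'

theorem exists_acts (e : ℕ × ℕ × ℕ × ℕ) (h : idxOK e = true) : ∃ g : P, Acts g (elemAt e) := by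
  obtain ⟨g, hg, hx⟩ := exists_elem e h
  exact ⟨⟨g, hg⟩, hx⟩

/-- an involution -/
def oddX : ℕ × ℕ × ℕ × ℕ := (22, 1, 0, 9)
/-- generators of a group of order 25 -/
def fiveA : ℕ × ℕ × ℕ × ℕ := (64, 5, 2, 3)
/-- generators of a group of order 25 -/
def fiveB : ℕ × ℕ × ℕ × ℕ := (105, 5, 4, 0)
/-- generators of a group of order 27 -/
def threeA : ℕ × ℕ × ℕ × ℕ := (108, 21, 4, 6)
/-- generators of a group of order 27 -/
def threeB : ℕ × ℕ × ℕ × ℕ := (30, 20, 2, 9)

/-- the relations of the group of order 25 -/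
def fiveOK : Bool :=
  let x := elemAt oddX
  let a := elemAt fiveA
  let b := elemAt fiveB
  idxOK oddX && idxOK fiveA && idxOK fiveB && basePts (fun p => x (x p) == p) && basePts (fun p => x (a (x p)) == a p) &&
    basePts (fun p => x (b (x (b p))) == p) && basePts (fun p => a (b p) == b (a p)) &&
    basePts (fun p => iterAt a 5 p == p) && basePts (fun p => iterAt b 5 p == p) &&
    (!basePts fun p => a p == p) && (List.range 5).all fun k => !basePts fun p => iterAt a k p == b p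

/-- the relations of the group of order 27 -/
def threeOK : Bool :=
  let x := elemAt oddX
  let a := elemAt threeA
  let b := elemAt threeB
  let c := fun p => a (b (iterAt a 2 (iterAt b 2 p)))
  idxOK oddX && idxOK threeA && idxOK threeB && basePts (fun p => x (x p) == p) &&
    basePts (fun p => x (a (x (a p))) == p) &&
    basePts (fun p => x (b (x (b p))) == p) && basePts (fun p => c (a p) == a (c p)) && basePts (fun p => c (b p) == b (c p)) &&
    basePts (fun p => iterAt a 3 p == p) && basePts (fun p => iterAt b 3 p == p) &&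
    !basePts fun p => a (b p) == b (a p)

theorem five_check : fiveOK = true := by decide +kernel
theorem three_check : threeOK = true := by decide +kernel

theorem exists_five : ∃ x a b : P, x * a * x⁻¹ = a ∧ x * b * x⁻¹ = b⁻¹ ∧ Commute a b ∧ a ^ 5 = 1 ∧ b ^ 5 = 1 ∧
    a ≠ 1 ∧ b ∉ Subgroup.zpowers a := by
  have h := five_check
  simp only [fiveOK, Bool.and_eq_true, List.all_eq_true, List.mem_range, Bool.not_eq_true'] at h
  obtain ⟨⟨⟨⟨⟨⟨⟨⟨⟨⟨ix, ia⟩, ib⟩, h1⟩, h2⟩, h3⟩, h4⟩, h5⟩, h6⟩, h0⟩, h7⟩ := h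
  obtain ⟨x, hx⟩ := exists_acts _ ix
  obtain ⟨a, ha⟩ := exists_acts _ ia
  obtain ⟨b, hb⟩ := exists_acts _ ib
  have e1 : x * x = 1 := ((hx.mul hx).eq_iff Acts.one).mpr h1
  have hxi : x⁻¹ = x := inv_eq_of_mul_eq_one_right e1
  have e2 : x * (a * x) = a := ((hx.mul (ha.mul hx)).eq_iff ha).mpr h2
  have e3 : x * (b * (x * b)) = 1 := ((hx.mul (hb.mul (hx.mul hb))).eq_iff Acts.one).mpr h3
  have e5 : a ^ 5 = 1 := ((ha.pow 5).eq_iff Acts.one).mpr h5
  refine ⟨x, a, b, by rw [hxi, mul_assoc, e2], ?_, ((ha.mul hb).eq_iff (hb.mul ha)).mpr h4, e5,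
    ((hb.pow 5).eq_iff Acts.one).mpr h6, fun e => ?_, fun hm => ?_⟩
  · rw [hxi]
    refine eq_inv_of_mul_eq_one_left ?_
    simpa only [mul_assoc] using e3
  · rw [(ha.eq_iff Acts.one).mp e] at h0
    exact absurd h0 (by simp)
  · obtain ⟨k, rfl⟩ := mem_powers_iff_mem_zpowers.mpr hm
    have hk := h7 (k % 5) (Nat.mod_lt _ (by norm_num))
    rw [((ha.pow _).eq_iff hb).mp (pow_eq_pow_mod k e5).symm] at hk
    exact absurd hk (by simp)

theorem exists_three : ∃ x a b : P, x * a * x⁻¹ = a⁻¹ ∧ x * b * x⁻¹ = b⁻¹ ∧ Commute ⁅a, b⁆ a ∧ Commute ⁅a, b⁆ b ∧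
    a ^ 3 = 1 ∧ b ^ 3 = 1 ∧ ¬ Commute a b := by
  have h := three_check
  simp only [threeOK, Bool.and_eq_true, Bool.not_eq_true'] at h
  obtain ⟨⟨⟨⟨⟨⟨⟨⟨⟨⟨ix, ia⟩, ib⟩, h1⟩, h2⟩, h3⟩, h4⟩, h5⟩, h6⟩, h7⟩, h8⟩ := h
  obtain ⟨x, hx⟩ := exists_acts _ ix
  obtain ⟨a, ha⟩ := exists_acts _ ia
  obtain ⟨b, hb⟩ := exists_acts _ ib
  have hxi : x⁻¹ = x := inv_eq_of_mul_eq_one_right (((hx.mul hx).eq_iff Acts.one).mpr h1)
  have ea : a ^ 3 = 1 := ((ha.pow 3).eq_iff Acts.one).mpr h6
  have eb : b ^ 3 = 1 := ((hb.pow 3).eq_iff Acts.one).mpr h7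
  have hc : ⁅a, b⁆ = a * (b * (a ^ 2 * b ^ 2)) := by
    rw [commutatorElement_def, show a⁻¹ = a ^ 2 from inv_eq_of_mul_eq_one_right (by rw [← pow_succ']; exact ea),
      show b⁻¹ = b ^ 2 from inv_eq_of_mul_eq_one_right (by rw [← pow_succ']; exact eb), mul_assoc, mul_assoc]
  have hcA := ha.mul (hb.mul ((ha.pow 2).mul (hb.pow 2)))
  have e2 : x * (a * (x * a)) = 1 := ((hx.mul (ha.mul (hx.mul ha))).eq_iff Acts.one).mpr h2
  have e3 : x * (b * (x * b)) = 1 := ((hx.mul (hb.mul (hx.mul hb))).eq_iff Acts.one).mpr h3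
  refine ⟨x, a, b, ?_, ?_, hc ▸ ((hcA.mul ha).eq_iff (ha.mul hcA)).mpr h4,
    hc ▸ ((hcA.mul hb).eq_iff (hb.mul hcA)).mpr h5, ea, eb, fun hab => ?_⟩
  · rw [hxi]; refine eq_inv_of_mul_eq_one_left ?_; simpa only [mul_assoc] using e2
  · rw [hxi]; refine eq_inv_of_mul_eq_one_left ?_; simpa only [mul_assoc] using e3
  · rw [((ha.mul hb).eq_iff (hb.mul ha)).mp hab.eq] at h8
    exact absurd h8 (by simp)

theorem exists_U_five : ∃ U : Subgroup P, Nat.card U = 25 ∧ ∀ {Γ : Type*} [Group Γ] (σ : Γ →* P),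
    Function.Surjective σ → σ.ker ≤ Subgroup.center Γ →
      ∀ (z : Γ) (h : z ∈ U.comap σ), z ∈ σ.ker → (⟨z, h⟩ : U.comap σ) ∈ commutator (U.comap σ) → z = 1 := by
  obtain ⟨x, a, b, hxa, hxb, hab, ha, hb, hone, hnot⟩ := exists_five
  refine ⟨Subgroup.closure {a, b}, ?_, ?_⟩
  · have hcomm : ∀ g ∈ Subgroup.closure {a, b}, ∀ h ∈ Subgroup.closure {a, b}, g * h = h * g := fun g hg h hh => by
      have := commutator_closure_le (S := {a, b}) (Z := ⊥) (fun z hz s _ => by
          rw [Subgroup.mem_bot.mp hz]; exact Commute.one_left s) (by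
          rintro s (rfl | rfl) t (rfl | rfl) <;> rw [Subgroup.mem_bot, commutatorElement_eq_one_iff_commute]
          exacts [Commute.refl _, hab, hab.symm, Commute.refl _])
      exact (commutatorElement_eq_one_iff_commute.mp (Subgroup.mem_bot.mp (this (Subgroup.commutator_mem_commutator hg hh)))).eq
    have hp : IsPGroup 5 (Subgroup.closure {a, b}) := fun g => ⟨1, Subtype.ext (by
      rw [Subgroup.coe_pow, pow_one, Subgroup.coe_one]
      obtain ⟨g, hg⟩ := g
      show g ^ 5 = 1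
      induction hg using Subgroup.closure_induction with
      | mem y hy => rcases hy with rfl | rfl <;> assumption
      | one => exact one_pow 5
      | mul u v hu hv iu iv => rw [Commute.mul_pow (hcomm u hu v hv), iu, iv, one_mul]
      | inv u _ iu => rw [inv_pow, iu, inv_one])⟩
    have : Fact (Nat.Prime 5) := ⟨by norm_num⟩
    obtain ⟨k, hk⟩ := IsPGroup.iff_card.mp hp
    have hdvd := Subgroup.card_subgroup_dvd_card (Subgroup.closure ({a, b} : Set P))
    rw [hk, card_P] at hdvd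
    have hk2 : k ≤ 2 := by
      by_contra hlt
      exact absurd ((pow_dvd_pow 5 (show 3 ≤ k by omega)).trans hdvd) (by norm_num)
    interval_cases k
    · exfalso
      have := Subgroup.card_le_one_iff_eq_bot _ |>.mp hk.le
      have hb' : b ∈ (⊥ : Subgroup P) := this ▸ Subgroup.subset_closure (Or.inr rfl)
      exact hnot (Subgroup.mem_bot.mp hb' ▸ one_mem _)
    · exfalso
      have hle : Subgroup.zpowers a ≤ Subgroup.closure {a, b} :=
        Subgroup.zpowers_le.mpr (Subgroup.subset_closure (Or.inl rfl))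
      refine hnot ((Subgroup.eq_of_le_of_card_ge hle ?_).symm ▸ Subgroup.subset_closure (Or.inr rfl))
      rw [hk, Nat.card_zpowers, orderOf_eq_prime ha hone]; rfl
    · exact hk
  · intro Γ _ σ hs hc z h _ hcom
    obtain ⟨a', ha'⟩ := hs a
    obtain ⟨b', hb'⟩ := hs b
    obtain ⟨x', hx'⟩ := hs x
    have hcm : Commute b' a' := lifts_commute σ hc (x := x') (by simp [map_mul, map_inv, hx', hb', hxb])
      (by simp [map_mul, map_inv, hx', ha', hxa]) (n := 5) ⟨2, rfl⟩ (by rw [hb']; exact hb) (by rw [hb', ha']; exact hab.symm)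
    have hcen : ∀ k ∈ σ.ker, ∀ y, Commute k y := fun k hk y => (Subgroup.mem_center_iff.mp (hc hk) y).symm
    have := mem_commutator_comap σ hcom
    rw [comap_closure_pair σ ha' hb'] at this
    refine Subgroup.mem_bot.mp (commutator_closure_le (Z := ⊥) (fun z hz s _ => by
      rw [Subgroup.mem_bot.mp hz]; exact Commute.one_left s) (fun s hs' t ht' => ?_) this)
    rw [Subgroup.mem_bot, commutatorElement_eq_one_iff_commute]
    rcases hs' with (rfl | rfl) | hs' <;> rcases ht' with (rfl | rfl) | ht'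
    all_goals first
      | exact Commute.refl _
      | exact hcm
      | exact hcm.symm
      | exact hcen _ hs' _
      | exact (hcen _ ht' _).symm

theorem exists_U_three : ∃ U : Subgroup P, Nat.card U = 27 ∧ ∀ {Γ : Type*} [Group Γ] (σ : Γ →* P),
    Function.Surjective σ → σ.ker ≤ Subgroup.center Γ →
      ∀ (z : Γ) (h : z ∈ U.comap σ), z ∈ σ.ker → (⟨z, h⟩ : U.comap σ) ∈ commutator (U.comap σ) → z = 1 := by
  obtain ⟨x, a, b, hxa, hxb, hca, hcb, ha, hb, hnab⟩ := exists_three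
  have hc3 : ⁅a, b⁆ ^ 3 = 1 := by rw [← comm_pow hca, ha, commutatorElement_one_left]
  have hc1 : ⁅a, b⁆ ≠ 1 := fun e => hnab (commutatorElement_eq_one_iff_commute.mp e)
  refine ⟨Subgroup.closure {a, b}, ?_, ?_⟩
  · have hZ : ∀ z ∈ Subgroup.zpowers ⁅a, b⁆, ∀ s ∈ ({a, b} : Set P), Commute z s := fun z hz s hs => by
      obtain ⟨n, rfl⟩ := hz
      rcases hs with rfl | rfl
      exacts [hca.zpow_left n, hcb.zpow_left n]
    have hle := commutator_closure_le hZ (by
      rintro s (rfl | rfl) t (rfl | rfl)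
      · rw [commutatorElement_self]; exact one_mem _
      · exact Subgroup.mem_zpowers _
      · rw [← commutatorElement_inv]; exact inv_mem (Subgroup.mem_zpowers _)
      · rw [commutatorElement_self]; exact one_mem _)
    have hZ' : ∀ z ∈ Subgroup.zpowers ⁅a, b⁆, ∀ g ∈ Subgroup.closure {a, b}, Commute z g := fun z hz g hg => by
      induction hg using Subgroup.closure_induction with
      | mem y hy => exact hZ z hz y hy
      | one => exact Commute.one_right z
      | mul u v _ _ iu iv => exact iu.mul_right iv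
      | inv u _ iu => exact iu.inv_right
    have hp : IsPGroup 3 (Subgroup.closure {a, b}) := fun g => ⟨1, Subtype.ext (by
      rw [Subgroup.coe_pow, pow_one, Subgroup.coe_one]
      obtain ⟨g, hg⟩ := g
      show g ^ 3 = 1
      induction hg using Subgroup.closure_induction with
      | mem y hy => rcases hy with rfl | rfl <;> assumption
      | one => exact one_pow 3
      | mul u v hu hv iu iv =>
        have hz : ⁅v, u⁆ ∈ Subgroup.zpowers ⁅a, b⁆ := hle (Subgroup.commutator_mem_commutator hv hu)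
        have zu : u * ⁅v, u⁆ = ⁅v, u⁆ * u := ((hZ' _ hz u hu).eq).symm
        have zv : v * ⁅v, u⁆ = ⁅v, u⁆ * v := ((hZ' _ hz v hv).eq).symm
        have z3 : ⁅v, u⁆ ^ 3 = 1 := by
          obtain ⟨n, hn⟩ := hz
          rw [← hn, ← zpow_natCast, zpow_comm, zpow_natCast, hc3, one_zpow]
        have hvu : v * u = ⁅v, u⁆ * u * v := by rw [commutatorElement_def]; group
        have key : (u * v) ^ 3 = ⁅v, u⁆ ^ 3 * (u ^ 3 * v ^ 3) := by
          generalize ⁅v, u⁆ = z at zu zv hvu
          have zu' : ∀ w, w * u * z = w * z * u := fun w => by rw [mul_assoc, zu, mul_assoc]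
          have zv' : ∀ w, w * v * z = w * z * v := fun w => by rw [mul_assoc, zv, mul_assoc]
          have vu' : ∀ w, w * v * u = w * z * u * v := fun w => by rw [mul_assoc, hvu, ← mul_assoc, ← mul_assoc]
          simp only [pow_succ, pow_zero, one_mul, ← mul_assoc, zu, zu', zv', vu']
        rw [key, z3, iu, iv, one_mul, one_mul]
      | inv u _ iu => rw [inv_pow, iu, inv_one])⟩
    have : Fact (Nat.Prime 3) := ⟨by norm_num⟩
    obtain ⟨k, hk⟩ := IsPGroup.iff_card.mp hp
    have hdvd := Subgroup.card_subgroup_dvd_card (Subgroup.closure ({a, b} : Set P))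
    rw [hk, card_P] at hdvd
    have hk3 : k ≤ 3 := by
      by_contra hlt
      exact absurd ((pow_dvd_pow 3 (show 4 ≤ k by omega)).trans hdvd) (by norm_num)
    have hne : ¬ ∀ u v : Subgroup.closure ({a, b} : Set P), u * v = v * u := fun hcomm =>
      hnab (congrArg Subtype.val (hcomm ⟨a, Subgroup.subset_closure (Or.inl rfl)⟩ ⟨b, Subgroup.subset_closure (Or.inr rfl)⟩))
    interval_cases k
    · have : Subsingleton (Subgroup.closure ({a, b} : Set P)) := (Nat.card_eq_one_iff_unique.mp hk).1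
      exact absurd (fun u v => Subsingleton.elim _ _) hne
    · have : IsCyclic (Subgroup.closure ({a, b} : Set P)) := isCyclic_of_prime_card (p := 3) (by simpa using hk)
      exact absurd (fun u v => (IsCyclic.commGroup).mul_comm u v) hne
    · exact absurd (fun u v => (IsPGroup.isMulCommutative_of_card_eq_prime_sq (p := 3) hk).is_comm.comm u v) hne
    · exact hk
  · intro Γ _ σ hs hc z h hz hcom
    obtain ⟨a', ha'⟩ := hs a
    obtain ⟨b', hb'⟩ := hs b
    obtain ⟨x', hx'⟩ := hs x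
    have hσγ : σ ⁅a', b'⁆ = ⁅a, b⁆ := by rw [map_commutatorElement, ha', hb']
    have hxc : σ (x' * ⁅a', b'⁆ * x'⁻¹) = σ ⁅a', b'⁆ := by
      have e : ⁅a⁻¹, b⁻¹⁆ = (b * a)⁻¹ * ⁅a, b⁆ * (b * a) := by simp only [commutatorElement_def]; group
      rw [map_mul, map_mul, map_inv, hx', hσγ, conjugate_commutatorElement, hxa, hxb, e,
        mul_assoc, (hcb.mul_right hca).eq, inv_mul_cancel_left]
    have hA : Commute a' ⁅a', b'⁆ := lifts_commute σ hc (x := x') (by simp [map_mul, map_inv, hx', ha', hxa]) hxc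
      (n := 3) ⟨1, rfl⟩ (by rw [ha']; exact ha) (by rw [ha', hσγ]; exact hca.symm)
    have hB : Commute b' ⁅a', b'⁆ := lifts_commute σ hc (x := x') (by simp [map_mul, map_inv, hx', hb', hxb]) hxc
      (n := 3) ⟨1, rfl⟩ (by rw [hb']; exact hb) (by rw [hb', hσγ]; exact hcb.symm)
    have hcen : ∀ k ∈ σ.ker, ∀ y, Commute k y := fun k hk y => (Subgroup.mem_center_iff.mp (hc hk) y).symm
    have hγ3 : ⁅a', b'⁆ ^ 3 = 1 := by
      rw [← comm_pow hA.symm, comm_congr σ hc (u' := (1 : Γ)) (v' := b') (by rw [map_pow, ha', ha, map_one]) rfl,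
        commutatorElement_one_left]
    have hle := commutator_closure_le (S := {a', b'} ∪ (σ.ker : Set Γ)) (Z := Subgroup.zpowers ⁅a', b'⁆)
      (fun z hz s hs' => by
        obtain ⟨n, rfl⟩ := hz
        rcases hs' with (rfl | rfl) | hs'
        exacts [hA.symm.zpow_left n, hB.symm.zpow_left n, (hcen _ hs' _).symm])
      (fun s hs' t ht' => by
        have key : ∀ u v : Γ, Commute u v → ⁅u, v⁆ ∈ Subgroup.zpowers ⁅a', b'⁆ := fun u v huv => by
          rw [commutatorElement_eq_one_iff_commute.mpr huv]; exact one_mem _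
        rcases hs' with (rfl | rfl) | hs' <;> rcases ht' with (rfl | rfl) | ht'
        · rw [commutatorElement_self]; exact one_mem _
        · exact Subgroup.mem_zpowers _
        · exact key _ _ (hcen _ ht' _).symm
        · exact (commutatorElement_inv t s) ▸ Subgroup.inv_mem _ (Subgroup.mem_zpowers ⁅t, s⁆)
        · rw [commutatorElement_self]; exact one_mem _
        · exact key _ _ (hcen _ ht' _).symm
        all_goals exact key _ _ (hcen _ hs' _))
    have hm := mem_commutator_comap σ hcom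
    rw [comap_closure_pair σ ha' hb'] at hm
    obtain ⟨n, rfl⟩ := hle hm
    rw [MonoidHom.mem_ker, map_zpow, hσγ, ← orderOf_dvd_iff_zpow_eq_one] at hz
    have : Fact (Nat.Prime 3) := ⟨by norm_num⟩
    rw [orderOf_eq_prime hc3 hc1] at hz
    obtain ⟨m, rfl⟩ := hz
    show ⁅a', b'⁆ ^ ((3 : ℕ) * m : ℤ) = 1
    rw [zpow_mul, zpow_natCast, hγ3, one_zpow]

end Group

end CfsgLib.Recog.JankoTwo
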