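import Mathlib

/-!
# The multiplier of a reflection centraliser in the Hall-Janko group: data
-/

set_option autoImplicit false
set_option maxRecDepth 100000

namespace CfsgLib.Recog.JankoTwo

/-- data -/
def mNextPart0 : List (ℕ × ℕ × ℕ × ℕ) :=
  [(1, 2, 12, 9), (3, 4, 0, 16), (5, 6, 25, 0), (7, 8, 1, 28), (9, 10, 36, 1), (11, 12, 2, 40), (13, 14, 48, 2), (12, 15, 3, 42),
    (16, 17, 56, 3), (18, 0, 4, 27), (19, 20, 65, 4), (21, 22, 5, 67), (0, 23, 7, 5), (24, 25, 6, 76), (26, 27, 84, 6), (28, 29, 88, 7),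
    (30, 1, 8, 38), (31, 32, 97, 8), (33, 34, 9, 99), (35, 36, 10, 104), (37, 38, 112, 10), (25, 39, 11, 78), (40, 41, 119, 11), (42, 43, 125, 12),
    (44, 45, 13, 127), (2, 46, 21, 13), (47, 48, 14, 136), (49, 9, 34, 14), (50, 3, 15, 58), (51, 52, 149, 15), (53, 54, 16, 151), (55, 56, 17, 156),
    (57, 58, 164, 17), (36, 59, 18, 106), (27, 60, 140, 18), (61, 62, 19, 171), (4, 63, 33, 19), (64, 65, 20, 180), (66, 16, 54, 20), (67, 68, 190, 21),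
    (69, 5, 22, 74), (70, 71, 199, 22), (72, 7, 23, 90), (73, 74, 207, 23), (48, 75, 24, 138), (76, 77, 214, 24), (78, 79, 220, 25), (80, 81, 26, 222),
    (6, 82, 44, 26), (83, 84, 27, 230), (85, 86, 28, 234), (87, 88, 29, 239), (89, 90, 246, 29), (56, 91, 30, 158), (38, 92, 184, 30), (93, 94, 31, 253),
    (8, 95, 53, 31), (96, 97, 32, 262), (98, 28, 86, 32), (99, 100, 272, 33), (101, 102, 278, 34), (65, 103, 35, 182), (104, 105, 286, 35), (106, 107, 292, 36)]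

/-- data -/
def mNextPart1 : List (ℕ × ℕ × ℕ × ℕ) :=
  [(108, 109, 37, 294), (10, 110, 61, 37), (111, 112, 38, 302), (113, 11, 39, 121), (114, 115, 312, 39), (116, 117, 40, 314), (118, 119, 41, 319), (120, 121, 327, 41),
    (122, 123, 42, 328), (124, 125, 43, 333), (126, 40, 117, 43), (127, 128, 342, 44), (129, 13, 45, 134), (130, 131, 351, 45), (132, 21, 46, 192), (133, 134, 359, 46),
    (84, 135, 47, 232), (136, 137, 260, 47), (138, 139, 370, 48), (140, 141, 49, 372), (14, 142, 80, 49), (88, 143, 50, 241), (58, 144, 266, 50), (145, 146, 51, 385),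
    (15, 147, 85, 51), (148, 149, 52, 358), (150, 42, 123, 52), (151, 152, 401, 53), (153, 154, 406, 54), (97, 155, 55, 264), (156, 157, 413, 55), (158, 159, 418, 56),
    (160, 161, 57, 419), (17, 162, 93, 57), (163, 164, 58, 427), (165, 18, 59, 170), (166, 167, 437, 59), (168, 140, 60, 440), (169, 170, 446, 60), (171, 172, 449, 61),
    (173, 19, 62, 178), (174, 175, 457, 62), (176, 33, 63, 274), (177, 178, 465, 63), (112, 179, 64, 304), (180, 181, 392, 64), (182, 183, 476, 65), (184, 185, 66, 478),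
    (20, 186, 108, 66), (187, 188, 67, 485), (189, 190, 68, 489), (191, 192, 495, 68), (119, 193, 69, 321), (74, 194, 337, 69), (195, 196, 70, 502), (22, 197, 116, 70),
    (198, 199, 71, 508), (200, 67, 188, 71), (125, 201, 72, 335), (90, 202, 396, 72), (203, 204, 73, 521), (23, 205, 122, 73), (206, 207, 74, 464), (208, 24, 75, 216)]

/-- data -/
def mNextPart2 : List (ℕ × ℕ × ℕ × ℕ) :=
  [(209, 210, 536, 75), (211, 212, 76, 538), (213, 214, 77, 435), (215, 216, 547, 77), (217, 218, 78, 548), (219, 220, 79, 553), (221, 76, 212, 79), (222, 223, 560, 80),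
    (224, 26, 81, 228), (159, 225, 566, 81), (226, 44, 82, 344), (227, 228, 574, 82), (34, 229, 83, 101), (230, 231, 409, 83), (232, 233, 584, 84), (234, 235, 589, 85),
    (236, 237, 593, 86), (149, 238, 87, 394), (239, 240, 598, 87), (241, 242, 602, 88), (243, 221, 89, 603), (29, 244, 145, 89), (245, 246, 90, 533), (247, 30, 91, 252),
    (248, 249, 617, 91), (250, 184, 92, 619), (251, 252, 625, 92), (253, 254, 319, 93), (255, 31, 94, 260), (256, 257, 633, 94), (258, 53, 95, 347), (259, 260, 137, 95),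
    (164, 261, 96, 429), (262, 263, 527, 96), (264, 265, 646, 97), (266, 267, 98, 356), (32, 268, 160, 98), (269, 270, 99, 654), (271, 272, 100, 349), (273, 274, 661, 100),
    (275, 276, 101, 662), (277, 278, 102, 666), (279, 99, 270, 102), (280, 35, 103, 288), (281, 282, 496, 103), (283, 284, 104, 308), (285, 286, 105, 615), (287, 288, 683, 105),
    (289, 290, 106, 684), (291, 292, 107, 688), (293, 104, 284, 107), (294, 295, 695, 108), (296, 37, 109, 300), (242, 297, 701, 109), (298, 61, 110, 451), (299, 300, 709, 110),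
    (54, 301, 111, 153), (302, 303, 577, 111), (304, 305, 719, 112), (190, 306, 113, 491), (121, 307, 512, 113), (308, 309, 114, 283), (39, 310, 187, 114), (311, 312, 115, 573)]

/-- data -/
def mNextPart3 : List (ℕ × ℕ × ℕ × ℕ) :=
  [(313, 78, 218, 115), (314, 315, 281, 116), (316, 317, 742, 117), (199, 318, 118, 510), (319, 320, 408, 118), (321, 322, 750, 119), (323, 324, 120, 751), (41, 325, 195, 120),
    (326, 327, 121, 759), (328, 329, 764, 122), (330, 331, 768, 123), (207, 332, 124, 529), (333, 334, 731, 124), (335, 336, 776, 125), (337, 293, 126, 777), (43, 338, 203, 126),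
    (339, 340, 127, 782), (341, 342, 128, 648), (343, 344, 789, 128), (214, 345, 129, 543), (134, 346, 556, 129), (347, 348, 130, 258), (45, 349, 211, 130), (350, 351, 131, 799),
    (352, 127, 340, 131), (220, 353, 132, 554), (192, 354, 388, 132), (355, 356, 133, 650), (46, 357, 217, 133), (358, 359, 134, 148), (360, 47, 135, 366), (361, 362, 822, 135),
    (363, 364, 136, 823), (365, 366, 829, 137), (367, 368, 138, 830), (369, 370, 139, 835), (371, 136, 364, 139), (372, 373, 841, 140), (374, 49, 141, 378), (322, 375, 844, 141),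
    (376, 80, 142, 562), (377, 378, 851, 142), (379, 50, 143, 384), (380, 381, 858, 143), (382, 266, 144, 342), (383, 384, 863, 144), (385, 386, 440, 145), (387, 51, 146, 392),
    (388, 389, 313, 146), (390, 85, 147, 453), (391, 392, 181, 147), (246, 393, 148, 609), (394, 395, 874, 149), (396, 341, 150, 462), (52, 397, 243, 150), (398, 399, 151, 879),
    (400, 401, 152, 455), (402, 347, 545, 152), (403, 404, 153, 886), (405, 406, 154, 890), (407, 151, 399, 154), (408, 55, 155, 415), (409, 410, 374, 155), (411, 363, 156, 433)]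

/-- data -/
def mNextPart4 : List (ℕ × ℕ × ℕ × ℕ) :=
  [(412, 413, 157, 856), (414, 415, 903, 157), (416, 213, 158, 904), (417, 418, 159, 505), (81, 156, 363, 159), (419, 420, 804, 160), (421, 57, 161, 425), (336, 422, 915, 161),
    (423, 93, 162, 628), (424, 425, 923, 162), (86, 426, 163, 236), (427, 428, 712, 163), (429, 430, 929, 164), (272, 431, 165, 318), (170, 432, 670, 165), (433, 434, 166, 411),
    (59, 435, 269, 166), (436, 437, 167, 708), (438, 106, 290, 167), (278, 439, 168, 668), (440, 441, 595, 168), (442, 443, 169, 945), (60, 444, 275, 169), (445, 446, 170, 821),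
    (447, 448, 171, 955), (193, 449, 172, 497), (450, 451, 960, 172), (286, 189, 173, 679), (178, 452, 691, 173), (453, 454, 174, 390), (62, 455, 283, 174), (456, 457, 175, 966),
    (458, 171, 448, 175), (292, 459, 176, 689), (274, 460, 492, 176), (461, 462, 177, 786), (63, 463, 289, 177), (464, 465, 178, 206), (466, 64, 179, 472), (467, 468, 987, 179),
    (469, 470, 180, 988), (471, 472, 994, 181), (473, 474, 182, 995), (475, 476, 183, 1000), (477, 180, 470, 183), (478, 479, 1006, 184), (480, 66, 185, 484), (373, 481, 1009, 185),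
    (482, 108, 186, 697), (483, 484, 1016, 186), (485, 486, 1020, 187), (487, 488, 1024, 188), (312, 173, 189, 733), (489, 490, 1027, 189), (491, 492, 460, 190), (493, 371, 191, 1029),
    (68, 494, 308, 191), (240, 495, 192, 599), (496, 69, 193, 501), (497, 498, 1039, 193), (499, 337, 194, 1041), (500, 501, 1047, 194), (502, 269, 435, 195), (155, 70, 196, 409)]

/-- data -/
def mNextPart5 : List (ℕ × ℕ × ℕ × ℕ) :=
  [(503, 504, 1052, 196), (505, 116, 197, 417), (506, 409, 231, 197), (327, 507, 198, 760), (508, 509, 815, 198), (510, 511, 1065, 199), (512, 513, 200, 571), (71, 514, 323, 200),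
    (515, 72, 201, 520), (516, 517, 790, 201), (518, 396, 202, 449), (519, 520, 1076, 202), (521, 522, 619, 203), (523, 73, 204, 527), (492, 524, 438, 204), (525, 122, 205, 629),
    (526, 527, 263, 205), (117, 528, 206, 316), (529, 530, 1087, 207), (342, 531, 208, 382), (216, 532, 802, 208), (533, 534, 209, 245), (75, 236, 339, 209), (535, 536, 210, 850),
    (537, 138, 368, 210), (538, 539, 516, 211), (540, 541, 1104, 212), (351, 158, 213, 249), (435, 542, 744, 213), (543, 166, 434, 214), (420, 544, 215, 910), (77, 545, 347, 215),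
    (546, 547, 216, 1114), (548, 549, 1117, 217), (550, 551, 1121, 218), (359, 552, 219, 817), (553, 163, 426, 219), (554, 555, 1126, 220), (556, 89, 221, 607), (79, 557, 355, 221),
    (558, 559, 222, 1130), (389, 560, 223, 867), (561, 562, 977, 223), (260, 563, 224, 255), (228, 564, 838, 224), (565, 566, 225, 1139), (567, 222, 559, 225), (370, 568, 226, 836),
    (344, 569, 728, 226), (570, 571, 227, 900), (82, 572, 367, 227), (573, 574, 228, 311), (575, 83, 229, 580), (576, 577, 303, 229), (254, 578, 230, 627), (579, 580, 993, 231),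
    (581, 582, 232, 1159), (583, 584, 233, 1164), (585, 230, 578, 233), (586, 587, 234, 1169), (588, 589, 235, 631), (590, 453, 681, 235), (591, 339, 236, 1119), (592, 593, 237, 1177)]

/-- data -/
def mNextPart6 : List (ℕ × ℕ × ℕ × ℕ) :=
  [(594, 234, 587, 237), (595, 87, 238, 600), (577, 596, 480, 238), (597, 469, 239, 613), (218, 598, 240, 550), (599, 600, 361, 240), (601, 285, 241, 1186), (580, 602, 242, 575),
    (109, 239, 469, 242), (603, 604, 971, 243), (605, 145, 244, 866), (606, 607, 1150, 244), (123, 608, 245, 330), (609, 610, 1199, 246), (401, 611, 247, 439), (252, 612, 894, 247),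
    (613, 614, 248, 597), (91, 615, 398, 248), (616, 617, 249, 922), (406, 618, 250, 892), (619, 620, 770, 250), (621, 622, 251, 1214), (92, 623, 403, 251), (624, 625, 252, 986),
    (196, 626, 253, 503), (141, 319, 254, 322), (627, 628, 1144, 254), (413, 271, 255, 899), (629, 630, 256, 525), (94, 631, 411, 256), (632, 633, 257, 1226), (634, 253, 626, 257),
    (418, 635, 258, 906), (566, 321, 259, 498), (95, 636, 416, 259), (637, 96, 261, 642), (547, 638, 350, 261), (639, 640, 262, 1238), (641, 642, 1244, 263), (643, 644, 264, 1245),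
    (645, 646, 265, 1148), (647, 262, 640, 265), (356, 648, 1124, 266), (649, 98, 267, 653), (479, 650, 1253, 267), (651, 160, 268, 911), (652, 653, 1259, 268), (654, 655, 1262, 269),
    (656, 657, 1265, 270), (437, 255, 271, 938), (349, 658, 1108, 271), (318, 130, 348, 272), (659, 477, 273, 1067), (100, 660, 433, 273), (334, 661, 274, 773), (662, 398, 615, 275),
    (238, 101, 276, 577), (663, 664, 1274, 276), (446, 665, 277, 953), (666, 667, 980, 277), (668, 669, 1283, 278), (670, 561, 279, 706), (102, 671, 442, 279), (449, 672, 280, 518)]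

/-- data -/
def mNextPart7 : List (ℕ × ℕ × ℕ × ℕ) :=
  [(288, 673, 969, 280), (103, 330, 447, 281), (674, 496, 282, 1015), (675, 182, 474, 282), (676, 677, 1297, 284), (457, 241, 285, 381), (615, 678, 941, 285), (679, 248, 614, 286),
    (604, 680, 287, 1191), (105, 681, 453, 287), (682, 683, 288, 1305), (684, 685, 1308, 289), (310, 686, 1028, 290), (465, 687, 291, 982), (688, 245, 608, 291), (689, 690, 820, 292),
    (691, 126, 293, 781), (107, 692, 461, 293), (693, 694, 294, 1317), (524, 695, 295, 1080), (696, 697, 1141, 295), (392, 698, 296, 387), (300, 699, 1003, 296), (700, 701, 297, 1325),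
    (702, 294, 694, 297), (476, 703, 298, 1001), (451, 704, 936, 298), (705, 706, 299, 1134), (110, 707, 473, 299), (708, 709, 300, 436), (710, 111, 301, 715), (711, 712, 428, 301),
    (386, 713, 302, 865), (714, 715, 1243, 303), (716, 717, 304, 1344), (718, 719, 305, 1349), (720, 302, 713, 305), (721, 113, 306, 726), (722, 723, 1359, 306), (724, 512, 307, 560),
    (725, 726, 1363, 307), (727, 114, 309, 731), (728, 729, 537, 309), (730, 187, 310, 766), (290, 731, 334, 310), (495, 732, 311, 1034), (733, 734, 1368, 312), (115, 735, 493, 313),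
    (172, 736, 314, 450), (737, 281, 315, 608), (738, 417, 828, 315), (739, 740, 316, 1374), (741, 742, 317, 1378), (743, 314, 736, 317), (744, 118, 318, 747), (745, 408, 320, 1357),
    (746, 747, 1387, 320), (748, 259, 321, 1234), (749, 750, 322, 798), (751, 752, 1142, 323), (753, 120, 324, 757), (555, 754, 1316, 324), (755, 195, 325, 655), (756, 757, 1347, 325)]

/-- data -/
def mNextPart8 : List (ℕ × ℕ × ℕ × ℕ) :=
  [(188, 758, 326, 487), (759, 632, 1084, 326), (760, 761, 1403, 327), (762, 763, 328, 1404), (345, 764, 329, 791), (765, 629, 901, 329), (766, 447, 330, 730), (767, 768, 331, 1409),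
    (769, 328, 763, 331), (770, 124, 332, 774), (712, 771, 649, 332), (772, 639, 333, 854), (773, 774, 467, 334), (775, 412, 335, 1415), (715, 776, 336, 710), (161, 333, 639, 336),
    (777, 778, 1229, 337), (779, 203, 338, 1079), (780, 781, 1336, 338), (782, 783, 1426, 339), (784, 785, 1170, 340), (536, 150, 341, 878), (648, 786, 1429, 341), (787, 585, 343, 1430),
    (128, 788, 533, 343), (490, 789, 344, 1009), (790, 129, 345, 795), (791, 792, 1437, 345), (793, 556, 346, 1439), (794, 795, 1349, 346), (796, 797, 1444, 348), (798, 211, 349, 749),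
    (799, 800, 1151, 350), (249, 801, 884, 351), (802, 803, 352, 848), (131, 804, 420, 352), (805, 132, 353, 810), (806, 807, 1135, 353), (808, 388, 354, 764), (809, 810, 1453, 354),
    (650, 811, 1041, 355), (812, 133, 356, 815), (813, 217, 357, 1049), (814, 815, 509, 357), (212, 816, 358, 540), (817, 818, 1460, 359), (560, 819, 360, 724), (366, 820, 690, 360),
    (135, 487, 558, 361), (821, 822, 362, 445), (687, 232, 582, 362), (823, 824, 806, 363), (825, 826, 1467, 364), (752, 827, 365, 1392), (137, 828, 417, 365), (667, 829, 366, 1279),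
    (830, 831, 1472, 367), (832, 833, 1304, 368), (574, 834, 369, 921), (835, 326, 758, 369), (836, 837, 1477, 370), (838, 191, 371, 1033), (139, 839, 570, 371), (840, 391, 372, 1480)]

/-- data -/
def mNextPart9 : List (ℕ × ℕ × ℕ × ℕ) :=
  [(729, 841, 373, 965), (185, 440, 386, 373), (378, 842, 1167, 374), (843, 844, 375, 1483), (701, 372, 391, 375), (584, 845, 376, 1165), (562, 846, 1094, 376), (847, 848, 377, 1384),
    (142, 849, 581, 377), (850, 851, 378, 535), (589, 852, 379, 618), (384, 853, 1181, 379), (854, 855, 380, 772), (143, 856, 586, 380), (857, 858, 381, 1196), (593, 808, 382, 1179),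
    (859, 860, 383, 1503), (144, 861, 591, 383), (862, 863, 384, 1237), (276, 864, 385, 663), (865, 866, 1330, 386), (598, 400, 387, 1099), (146, 791, 597, 388), (822, 313, 389, 1371),
    (867, 385, 864, 389), (602, 868, 390, 1187), (147, 869, 601, 391), (870, 148, 393, 818), (683, 871, 456, 393), (872, 873, 394, 1516), (800, 874, 395, 1334), (875, 358, 816, 395),
    (462, 497, 1038, 396), (876, 243, 397, 1192), (877, 878, 1526, 397), (879, 880, 1528, 398), (881, 882, 1531, 399), (617, 387, 400, 1208), (455, 883, 1300, 400), (439, 174, 454, 401),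
    (884, 647, 402, 1284), (152, 885, 613, 402), (886, 586, 856, 403), (332, 153, 404, 712), (887, 888, 1538, 404), (625, 889, 405, 1221), (890, 891, 1234, 405), (892, 893, 1544, 406),
    (894, 696, 407, 920), (154, 895, 621, 407), (415, 722, 1228, 408), (896, 374, 410, 1258), (897, 264, 644, 410), (633, 335, 412, 517), (856, 898, 1210, 412), (899, 380, 855, 413),
    (778, 900, 414, 513), (157, 901, 629, 414), (902, 903, 415, 1466), (904, 905, 1554, 416), (906, 907, 985, 418), (908, 909, 419, 1556), (910, 911, 1327, 420), (527, 912, 421, 523)]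

/-- data -/
def mNextPart10 : List (ℕ × ℕ × ℕ × ℕ) :=
  [(425, 913, 1251, 421), (914, 915, 422, 1368), (916, 419, 909, 422), (646, 917, 423, 1250), (628, 918, 1206, 423), (919, 920, 424, 1320), (162, 921, 643, 424), (922, 923, 425, 616),
    (924, 209, 534, 426), (522, 925, 427, 1078), (926, 219, 552, 428), (927, 843, 429, 1573), (928, 929, 430, 1367), (930, 427, 925, 430), (931, 165, 431, 935), (932, 510, 1063, 431),
    (933, 670, 432, 695), (934, 935, 1585, 432), (936, 937, 675, 434), (661, 760, 436, 1057), (938, 939, 1454, 437), (167, 940, 659, 438), (941, 168, 439, 944), (942, 595, 441, 1582),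
    (943, 944, 1591, 441), (945, 946, 1328, 442), (947, 169, 443, 951), (690, 948, 567, 443), (949, 275, 444, 880), (950, 951, 1484, 444), (270, 952, 445, 656), (953, 954, 1599, 446),
    (955, 956, 1603, 447), (957, 958, 1405, 448), (959, 720, 450, 1606), (658, 960, 451, 1253), (961, 691, 452, 1609), (962, 733, 1367, 452), (963, 964, 1614, 454), (965, 283, 455, 729),
    (966, 967, 1337, 456), (381, 968, 1174, 457), (969, 970, 458, 1013), (175, 971, 604, 458), (972, 176, 459, 976), (973, 974, 1321, 459), (975, 976, 1618, 460), (786, 977, 562, 461),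
    (978, 177, 462, 980), (979, 289, 463, 1271), (559, 980, 667, 463), (284, 981, 464, 676), (982, 983, 1623, 465), (695, 984, 466, 933), (472, 985, 907, 466), (179, 656, 693, 467),
    (986, 987, 468, 624), (828, 304, 717, 468), (988, 989, 973, 469), (990, 991, 1425, 470), (946, 992, 471, 1446), (181, 993, 580, 471), (891, 994, 472, 1494), (995, 996, 1630, 473)]

/-- data -/
def mNextPart11 : List (ℕ × ℕ × ℕ × ℕ) :=
  [(997, 998, 1551, 474), (709, 999, 475, 1195), (1000, 445, 952, 475), (1001, 1002, 1634, 476), (1003, 273, 477, 1268), (183, 1004, 705, 477), (1005, 526, 478, 1637), (937, 1006, 479, 1225),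
    (267, 619, 522, 479), (484, 1007, 1352, 480), (1008, 1009, 481, 1434), (915, 478, 526, 481), (719, 1010, 482, 1350), (697, 1011, 738, 482), (1012, 1013, 483, 1589), (186, 1014, 716, 483),
    (1015, 1016, 484, 674), (1017, 1018, 485, 1650), (1019, 1020, 486, 626), (1021, 766, 1074, 486), (1022, 558, 487, 1474), (1023, 1024, 488, 1306), (1025, 485, 1018, 488), (1026, 772, 489, 1037),
    (368, 1027, 490, 832), (1009, 679, 576, 490), (1028, 518, 491, 1289), (204, 489, 772, 492), (1029, 1030, 1413, 493), (1031, 308, 494, 677), (1032, 1033, 1492, 494), (1034, 1035, 1248, 495),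
    (501, 1036, 1382, 496), (1037, 1038, 497, 1026), (717, 1039, 498, 1346), (742, 1040, 499, 1380), (1041, 1042, 926, 499), (1043, 1044, 500, 1666), (194, 1045, 739, 500), (1046, 1047, 501, 1414),
    (348, 1048, 502, 796), (1049, 1050, 503, 813), (1051, 1052, 504, 1535), (1053, 502, 1048, 504), (750, 1054, 505, 1389), (844, 543, 506, 792), (197, 1055, 748, 506), (1056, 198, 507, 1061),
    (829, 1057, 565, 507), (1058, 1059, 508, 1638), (1060, 1061, 1674, 509), (1062, 1063, 510, 1675), (1064, 1065, 511, 1490), (1011, 508, 1059, 511), (571, 867, 1323, 512), (1066, 200, 513, 1069),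
    (1067, 323, 514, 659), (1068, 1069, 1580, 514), (764, 1070, 515, 808), (520, 1071, 1412, 515), (201, 550, 762, 516), (1072, 790, 517, 1422), (768, 491, 518, 723), (1030, 1073, 519, 1661)]

/-- data -/
def mNextPart12 : List (ℕ × ℕ × ℕ × ℕ) :=
  [(202, 1074, 766, 519), (1075, 1076, 520, 1515), (404, 1077, 521, 887), (1078, 1079, 1485, 522), (731, 588, 523, 727), (987, 438, 524, 1587), (1080, 521, 1077, 524), (776, 1081, 525, 1416),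
    (205, 1082, 775, 526), (1083, 206, 528, 983), (903, 1084, 632, 528), (1085, 1086, 529, 1689), (967, 1087, 530, 1569), (1088, 464, 981, 530), (1089, 208, 531, 1093), (1090, 1091, 990, 531),
    (1092, 802, 532, 841), (852, 1093, 1574, 532), (1094, 291, 687, 534), (789, 1095, 535, 1193), (878, 1096, 1697, 536), (210, 1097, 787, 537), (329, 1098, 538, 765), (1099, 516, 539, 598),
    (1100, 749, 1158, 539), (1101, 1102, 540, 984), (1103, 1104, 541, 1549), (1105, 538, 1098, 541), (1106, 744, 542, 1695), (1107, 904, 1553, 542), (1108, 506, 543, 1626), (1109, 215, 544, 1112),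
    (837, 1110, 606, 544), (1111, 1112, 1691, 545), (340, 1113, 546, 784), (1114, 1051, 1457, 546), (261, 881, 908, 547), (1115, 1116, 548, 1702), (563, 1117, 549, 1136), (1118, 1049, 1385, 549),
    (1119, 762, 550, 591), (1120, 1121, 551, 1590), (1122, 548, 1116, 551), (1084, 1123, 1066, 552), (1124, 1058, 553, 1356), (1125, 745, 554, 1710), (983, 1126, 555, 1083), (324, 553, 1058, 555),
    (607, 1127, 1520, 556), (1128, 355, 557, 1454), (1129, 603, 1190, 557), (1130, 1131, 1232, 558), (463, 1132, 1313, 559), (1133, 279, 561, 1286), (223, 1134, 599, 561), (1135, 224, 563, 1138),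
    (1136, 938, 1586, 563), (888, 838, 564, 1539), (1137, 1138, 1569, 564), (1139, 1140, 1493, 565), (498, 1141, 697, 566), (225, 1142, 752, 567), (1143, 226, 568, 1147), (1144, 1145, 896, 568)]

/-- data -/
def mNextPart13 : List (ℕ × ℕ × ℕ × ℕ) :=
  [(1146, 728, 569, 1117), (968, 1147, 1723, 569), (900, 1148, 1439, 570), (991, 227, 571, 1151), (1149, 367, 572, 1442), (1150, 1151, 800, 572), (364, 1152, 573, 825), (921, 1153, 1727, 574),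
    (841, 1154, 575, 1092), (229, 784, 840, 576), (1155, 1156, 1507, 578), (911, 1157, 579, 651), (231, 1158, 749, 579), (1159, 1160, 1582, 581), (1161, 1162, 1686, 582), (851, 1163, 583, 1399),
    (1164, 546, 1113, 583), (1165, 1166, 1734, 584), (1167, 343, 585, 1433), (233, 1168, 847, 585), (1169, 1170, 785, 586), (1171, 1172, 1738, 587), (858, 523, 588, 1501), (631, 1173, 1549, 588),
    (618, 256, 630, 589), (1174, 875, 590, 1545), (235, 1175, 854, 590), (863, 1176, 592, 1509), (1177, 1178, 1480, 592), (1179, 1180, 1745, 593), (1181, 910, 594, 1110), (237, 1182, 859, 594),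
    (600, 932, 1511, 595), (1183, 480, 596, 1525), (1184, 394, 873, 596), (1185, 361, 600, 758), (1186, 1101, 1441, 601), (1187, 1188, 1236, 602), (1189, 1190, 603, 1449), (1191, 1192, 1563, 604),
    (874, 1193, 605, 1519), (866, 1194, 1500, 605), (244, 1195, 872, 606), (1196, 1150, 607, 857), (1197, 1008, 609, 1672), (1198, 1199, 610, 1586), (1200, 533, 788, 610), (1201, 247, 611, 1205),
    (1202, 668, 1282, 611), (1203, 894, 612, 804), (1204, 1205, 1762, 612), (1206, 1207, 897, 614), (545, 953, 616, 1111), (1208, 1209, 1619, 617), (1210, 250, 618, 1213), (1211, 770, 620, 1759),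
    (1212, 1213, 825, 620), (1214, 1215, 1564, 621), (1216, 251, 622, 1220), (907, 1217, 702, 622), (1218, 403, 623, 1170), (1219, 1220, 1640, 623), (399, 1114, 624, 881), (1221, 1222, 1495, 625)]

/-- data -/
def mNextPart14 : List (ℕ × ℕ × ℕ × ℕ) :=
  [(831, 930, 627, 1473), (883, 1144, 628, 1429), (1223, 1224, 1768, 630), (1225, 411, 631, 937), (1226, 369, 834, 632), (517, 1227, 1408, 633), (1228, 1137, 634, 1256), (257, 1229, 778, 634),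
    (1230, 258, 635, 797), (1231, 1232, 1131, 635), (1233, 416, 636, 1536), (694, 1234, 891, 636), (804, 1235, 637, 1203), (642, 1236, 1188, 637), (1237, 350, 638, 862), (993, 429, 843, 638),
    (1238, 1239, 1231, 639), (1240, 1241, 1602, 640), (1215, 1242, 641, 1615), (263, 1243, 715, 641), (1178, 1244, 642, 1648), (1245, 1246, 1730, 643), (1247, 1248, 1035, 644), (923, 1249, 645, 1421),
    (1148, 624, 1114, 645), (1250, 570, 839, 646), (1251, 402, 647, 1534), (265, 1252, 919, 647), (1207, 1124, 648, 1436), (653, 1064, 1578, 649), (740, 1253, 650, 1375), (929, 1254, 651, 1576),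
    (1255, 1256, 652, 1718), (268, 1257, 927, 652), (1258, 1259, 653, 896), (1160, 1260, 654, 1731), (1261, 1262, 655, 864), (1263, 693, 656, 1440), (1264, 1265, 657, 1552), (1266, 654, 1260, 657),
    (474, 1108, 658, 997), (1253, 899, 711, 658), (1267, 433, 660, 824), (1123, 1268, 1647, 660), (1057, 1269, 1518, 661), (454, 1270, 662, 963), (1271, 1272, 663, 979), (1273, 1274, 664, 1451),
    (1275, 662, 1270, 664), (1276, 277, 665, 1280), (994, 1111, 700, 665), (1277, 1278, 666, 1393), (1279, 1280, 1726, 667), (1281, 1282, 668, 1786), (1096, 1283, 669, 1645), (1157, 666, 1278, 669),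
    (706, 1080, 1560, 670), (1284, 442, 671, 884), (1285, 1286, 1758, 671), (1287, 280, 672, 1291), (1288, 1289, 1240, 672), (1290, 969, 673, 1006), (1070, 1291, 1756, 673), (960, 1292, 674, 1419)]

/-- data -/
def mNextPart15 : List (ℕ × ℕ × ℕ × ℕ) :=
  [(282, 1293, 959, 675), (1294, 1295, 676, 1235), (1296, 1297, 677, 1437), (1298, 941, 678, 1792), (1299, 1186, 1749, 678), (1300, 576, 679, 1113), (1301, 287, 680, 1304), (1002, 1302, 780, 680),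
    (1303, 1304, 833, 681), (448, 1103, 682, 957), (1305, 1273, 1620, 682), (393, 1171, 1189, 683), (1306, 1307, 684, 1023), (698, 1308, 685, 1322), (1309, 1271, 1590, 685), (1310, 1028, 686, 1715),
    (1311, 684, 1307, 686), (362, 1312, 1133, 687), (1038, 1277, 688, 1581), (1313, 942, 689, 1667), (443, 688, 1277, 690), (781, 1314, 1693, 691), (1315, 461, 692, 1619), (1316, 777, 814, 692),
    (1317, 793, 1438, 693), (636, 1318, 1555, 694), (1319, 407, 696, 1546), (295, 1320, 773, 696), (1321, 296, 698, 1324), (1322, 1208, 1378, 698), (783, 1003, 699, 1427), (1323, 1324, 835, 699),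
    (1325, 1326, 1105, 700), (375, 1327, 911, 701), (297, 1328, 946, 702), (1329, 298, 703, 1333), (1330, 1331, 1183, 703), (1332, 936, 704, 1308), (1227, 1333, 1805, 704), (1134, 1334, 1609, 705),
    (1241, 299, 706, 1337), (1335, 473, 707, 1612), (1336, 1337, 967, 707), (470, 1338, 708, 990), (1195, 1339, 1809, 709), (1006, 1340, 710, 1290), (301, 957, 1005, 711), (1341, 1342, 1685, 713),
    (1192, 1343, 714, 876), (303, 537, 729, 714), (1344, 1345, 1759, 716), (1346, 1347, 757, 717), (1016, 1348, 718, 1596), (1349, 682, 1103, 718), (1350, 1351, 1812, 719), (1352, 450, 720, 1373),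
    (305, 1353, 1012, 720), (1020, 1354, 721, 1040), (726, 1355, 1657, 721), (1356, 1228, 722, 1124), (306, 1357, 1017, 722), (1358, 1359, 723, 1662), (1024, 1146, 724, 1656), (1360, 972, 725, 1816)]

/-- data -/
def mNextPart16 : List (ℕ × ℕ × ℕ × ℕ) :=
  [(307, 1361, 1022, 725), (1362, 1363, 726, 1673), (1027, 737, 727, 1465), (309, 1136, 1026, 728), (460, 1364, 730, 975), (1365, 311, 732, 1153), (1076, 1366, 767, 732), (1242, 1367, 733, 1577),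
    (1140, 1368, 734, 1563), (1369, 573, 1152, 734), (1370, 493, 735, 1621), (918, 1371, 1610, 735), (1372, 1373, 1219, 736), (1039, 727, 737, 1173), (608, 1261, 978, 737), (315, 1184, 1037, 738),
    (1374, 1017, 1357, 739), (552, 316, 740, 1084), (1375, 1376, 1508, 740), (1047, 1377, 741, 1598), (1378, 1379, 1626, 741), (1380, 1381, 1824, 742), (1382, 1078, 743, 1398), (317, 1285, 1043, 743),
    (747, 1090, 1671, 744), (1052, 554, 745, 807), (1357, 1383, 1665, 745), (1127, 1384, 746, 803), (320, 1385, 1049, 746), (1386, 1387, 747, 1728), (1234, 1388, 1216, 748), (1389, 1390, 1202, 750),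
    (1391, 1311, 751, 1827), (1392, 659, 940, 752), (815, 1393, 753, 812), (757, 1290, 1643, 753), (1342, 1316, 754, 1697), (1394, 751, 1311, 754), (1065, 1395, 755, 1677), (655, 1396, 1581, 755),
    (1397, 1398, 756, 925), (325, 1399, 1062, 756), (811, 1400, 759, 1326), (1401, 436, 760, 1339), (1402, 1403, 761, 1526), (1260, 759, 1400, 761), (1404, 1405, 958, 762), (1406, 1407, 1703, 763),
    (1408, 1088, 765, 1746), (1409, 1410, 1637, 767), (723, 1411, 1653, 768), (1412, 1191, 769, 1302), (331, 1413, 1030, 769), (774, 1202, 1390, 770), (1414, 649, 771, 1046), (1158, 529, 1086, 771),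
    (1379, 467, 774, 952), (1415, 1294, 1611, 775), (1416, 1417, 1514, 776), (1418, 814, 777, 1617), (513, 1041, 811, 778), (1087, 1419, 779, 1692), (1079, 1420, 1100, 779), (338, 1421, 1085, 780)]

/-- data -/
def mNextPart17 : List (ℕ × ℕ × ℕ × ℕ) :=
  [(1422, 1336, 781, 1072), (1423, 1424, 782, 1513), (1425, 1426, 783, 1048), (1427, 1119, 1451, 783), (1428, 840, 784, 1732), (1254, 782, 1424, 785), (582, 1429, 786, 1161), (1430, 1431, 1709, 787),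
    (1432, 1433, 950, 788), (1193, 1434, 1676, 789), (795, 1435, 1325, 790), (1436, 597, 791, 1207), (1086, 1437, 792, 1690), (1104, 1438, 793, 868), (1439, 1440, 1226, 793), (1013, 1225, 794, 969),
    (346, 1441, 1101, 794), (992, 1349, 795, 1351), (1442, 1443, 796, 1149), (1280, 1444, 797, 1276), (434, 1322, 798, 936), (1324, 1445, 799, 1321), (1334, 862, 1305, 800), (1446, 884, 801, 946),
    (1420, 799, 1445, 801), (848, 965, 1559, 802), (920, 352, 803, 894), (1117, 1447, 805, 1146), (810, 1448, 1708, 805), (353, 832, 1115, 806), (1449, 1135, 807, 1189), (1121, 382, 808, 1091),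
    (1431, 1450, 809, 1755), (354, 1451, 1119, 809), (1452, 1453, 810, 1820), (1326, 1454, 939, 811), (426, 1019, 812, 924), (1126, 1455, 813, 1711), (357, 1456, 1125, 814), (1387, 1457, 1051, 816),
    (1458, 1459, 817, 1769), (1410, 1460, 818, 1782), (1461, 360, 819, 1462), (905, 1301, 1238, 819), (1354, 1462, 1831, 820), (977, 1463, 821, 1562), (1371, 475, 999, 822), (549, 1464, 823, 1118),
    (1465, 806, 824, 1027), (1466, 1467, 826, 902), (1249, 823, 1464, 826), (1175, 365, 827, 1469), (1166, 1468, 1032, 827), (468, 1469, 1319, 828), (507, 1372, 1391, 829), (1470, 1471, 830, 1850),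
    (410, 1472, 831, 897), (1473, 1442, 1700, 831), (1474, 1115, 832, 1022), (1475, 830, 1471, 833), (1457, 424, 920, 834), (1476, 1106, 836, 1856), (395, 1477, 837, 875), (544, 835, 1324, 837)]

/-- data -/
def mNextPart18 : List (ℕ × ℕ × ℕ × ℕ) :=
  [(1033, 1478, 1770, 838), (1479, 1029, 1660, 839), (1480, 1481, 1504, 840), (1376, 1167, 842, 1328), (1482, 1258, 1782, 842), (1483, 1484, 951, 843), (792, 1485, 1079, 844), (1486, 376, 845, 1489),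
    (1262, 1487, 931, 845), (1488, 1094, 846, 1472), (1411, 1489, 1341, 846), (1384, 1490, 1539, 847), (1239, 377, 848, 1493), (1491, 581, 849, 1555), (1492, 1493, 1140, 849), (578, 1494, 850, 1155),
    (1399, 1495, 1222, 851), (1496, 379, 852, 1499), (532, 892, 1428, 852), (1497, 1181, 853, 971), (1498, 1499, 1862, 853), (1500, 1037, 1184, 855), (681, 1221, 857, 1303), (1501, 1502, 1139, 858),
    (1503, 1458, 1714, 859), (1504, 383, 860, 1508), (1188, 1505, 916, 860), (1506, 591, 861, 1405), (1507, 1508, 1376, 861), (587, 1305, 862, 1171), (1509, 1510, 1649, 863), (996, 1200, 865, 1631),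
    (1173, 1330, 866, 1039), (1511, 1323, 867, 1523), (1512, 390, 868, 964), (1513, 601, 869, 1423), (909, 1480, 1178, 869), (971, 1118, 870, 1497), (818, 1514, 1417, 870), (1515, 456, 871, 1075),
    (1243, 609, 1008, 871), (1516, 787, 1097, 872), (1517, 1518, 1269, 873), (1519, 705, 1004, 874), (1520, 590, 875, 1740), (1199, 1521, 876, 1455), (1522, 1523, 877, 1671), (397, 1524, 1197, 877),
    (1525, 1526, 878, 1183), (1345, 1527, 879, 1810), (1055, 1528, 880, 1077), (1529, 908, 881, 1610), (1530, 1531, 882, 1748), (1532, 879, 1527, 882), (644, 1300, 883, 1247), (1429, 1099, 924, 883),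
    (1533, 613, 885, 989), (1312, 1534, 1781, 885), (630, 1535, 886, 1223), (1536, 1537, 887, 1233), (1467, 1538, 888, 1364), (1539, 886, 1535, 888), (1540, 405, 889, 1542), (1244, 1303, 914, 889)]

/-- data -/
def mNextPart19 : List (ℕ × ℕ × ℕ × ℕ) :=
  [(1054, 1541, 890, 1593), (1494, 1542, 1808, 891), (1543, 1428, 892, 1851), (1036, 1544, 893, 1664), (1343, 890, 1541, 893), (1545, 621, 895, 1174), (1168, 1546, 1830, 895), (1547, 1210, 898, 1385),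
    (1548, 1415, 1835, 898), (1549, 711, 899, 1103), (1102, 414, 900, 1551), (1550, 1551, 998, 901), (626, 1296, 902, 1019), (528, 1406, 1418, 903), (1552, 1553, 904, 1264), (912, 1554, 905, 1559),
    (819, 1536, 1715, 905), (1555, 1211, 906, 1491), (622, 505, 1054, 907), (1556, 961, 1608, 908), (869, 1557, 1750, 909), (1558, 594, 910, 1747), (1131, 421, 912, 1561), (1559, 1501, 1164, 912),
    (956, 1251, 913, 1604), (1560, 1561, 1000, 913), (1368, 1562, 1031, 914), (481, 1563, 1192, 915), (422, 1564, 1215, 916), (1565, 423, 917, 1568), (1485, 1566, 1414, 917), (1567, 1206, 918, 1554),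
    (735, 1568, 1663, 918), (1320, 1569, 1138, 919), (1570, 643, 921, 1767), (640, 1571, 922, 1240), (1421, 1572, 1876, 923), (428, 675, 937, 926), (1573, 1574, 1093, 927), (1259, 1575, 928, 1765),
    (1367, 902, 1296, 928), (1576, 1577, 1879, 929), (1578, 627, 930, 1156), (430, 1579, 1255, 930), (935, 1580, 1069, 931), (1581, 1511, 932, 1038), (431, 1582, 1160, 932), (1265, 1332, 933, 1361),
    (1583, 1230, 934, 1855), (432, 1584, 1263, 934), (1400, 1585, 935, 1701), (1459, 1586, 938, 1757), (1395, 708, 1338, 939), (1194, 1587, 1717, 940), (944, 1288, 1666, 941), (1274, 689, 942, 974),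
    (1582, 1588, 1486, 942), (1314, 1589, 943, 970), (441, 1590, 1271, 943), (1377, 1591, 944, 1674), (1592, 1107, 945, 1665), (980, 1593, 947, 978), (951, 1356, 1654, 947), (1398, 567, 948, 1382)]

/-- data -/
def mNextPart20 : List (ℕ × ℕ × ℕ × ℕ) :=
  [(1478, 945, 1107, 948), (1283, 1594, 949, 1788), (880, 1595, 1389, 949), (444, 1596, 1281, 950), (1597, 616, 953, 1572), (1598, 1599, 954, 1047), (1527, 821, 1463, 954), (1600, 1601, 955, 1688),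
    (1602, 1603, 956, 1270), (1604, 730, 1364, 956), (1605, 1005, 957, 1059), (1521, 955, 1601, 958), (1606, 1607, 1798, 959), (1419, 1375, 1787, 960), (1297, 1608, 961, 1081), (1609, 1610, 1371, 961),
    (1256, 1436, 962, 1228), (452, 1611, 1294, 962), (1612, 1613, 963, 1335), (1542, 1614, 964, 1540), (614, 1559, 965, 1206), (1561, 1474, 966, 1131), (1569, 1075, 1466, 967), (1615, 1174, 968, 1215),
    (569, 966, 1474, 968), (1110, 458, 970, 1181), (1308, 725, 972, 1332), (976, 1616, 1394, 972), (459, 997, 1306, 973), (1617, 1321, 974, 1418), (1607, 1461, 975, 1840), (1061, 1618, 976, 1056),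
    (1562, 1619, 1209, 977), (820, 1380, 979, 1354), (1591, 1620, 1273, 981), (1621, 1622, 982, 1370), (509, 1623, 983, 1060), (1443, 466, 984, 1624), (1487, 1624, 1885, 985), (1141, 1625, 986, 1713),
    (1587, 645, 1249, 987), (685, 1109, 988, 1309), (1626, 973, 989, 1108), (758, 1425, 991, 1185), (1151, 988, 1109, 991), (1098, 471, 992, 1627), (1351, 1066, 1123, 992), (638, 1627, 1558, 993),
    (665, 1155, 1592, 994), (1628, 1629, 995, 1889), (596, 1630, 996, 1184), (1631, 1612, 1795, 996), (1440, 1306, 997, 1263), (1632, 995, 1629, 998), (1620, 606, 1110, 999), (1633, 1298, 1001, 1895),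
    (530, 1634, 1002, 1088), (680, 1000, 1561, 1002), (1268, 1635, 1828, 1003), (1636, 1067, 1678, 1004), (1637, 1638, 1683, 1005), (1162, 1352, 1007, 1564), (1639, 1525, 1060, 1007), (1434, 1640, 1220, 1008)]

/-- data -/
def mNextPart21 : List (ℕ × ℕ × ℕ × ℕ) :=
  [(1641, 482, 1010, 1644), (1528, 1642, 1201, 1010), (1643, 738, 1011, 1630), (511, 1644, 1397, 1011), (1589, 1645, 1427, 1012), (541, 483, 1013, 1105), (1646, 716, 1014, 1750), (1647, 1105, 1326, 1014),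
    (713, 1648, 1015, 1341), (1596, 1649, 1510, 1016), (1650, 1313, 1132, 1017), (1651, 1652, 1870, 1018), (1359, 812, 1019, 1278), (1040, 503, 1050, 1020), (1653, 1369, 1021, 1790), (486, 1654, 1356, 1021),
    (1363, 1655, 1023, 1818), (1656, 1263, 1584, 1024), (1657, 1392, 1025, 1468), (488, 1658, 1360, 1025), (1289, 1212, 1718, 1028), (1659, 1660, 1029, 1721), (1661, 1621, 1800, 1030), (677, 652, 1256, 1031),
    (494, 641, 1242, 1032), (1662, 1492, 1033, 1358), (1663, 1315, 1034, 1772), (1295, 599, 1134, 1035), (1640, 1382, 1036, 1142), (1664, 1015, 1648, 1036), (1665, 499, 1040, 1592), (1595, 926, 1042, 1293),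
    (1180, 1592, 1155, 1042), (1666, 1639, 1275, 1043), (989, 500, 1044, 1533), (1390, 1560, 1080, 1044), (1667, 739, 1045, 1313), (1668, 1533, 1799, 1045), (736, 1279, 1046, 1372), (1669, 1670, 1903, 1050),
    (1535, 583, 1163, 1051), (807, 1223, 1706, 1052), (1671, 1482, 1053, 1522), (504, 1520, 1127, 1053), (1593, 1504, 1481, 1054), (1282, 748, 1055, 1742), (1077, 1626, 1379, 1055), (1142, 1672, 1056, 1640),
    (1673, 565, 1057, 1362), (1638, 947, 1593, 1058), (1307, 1674, 1061, 1796), (1675, 1647, 1268, 1062), (1541, 1676, 1434, 1063), (1347, 1578, 1064, 1714), (1490, 1046, 1279, 1064), (1677, 847, 1168, 1065),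
    (1069, 1446, 1266, 1066), (1403, 1678, 1067, 1803), (1679, 1522, 1068, 1745), (514, 1631, 1401, 1068), (1680, 515, 1070, 1682), (673, 1179, 1605, 1070), (1681, 1412, 1071, 1229), (1447, 1682, 1901, 1071)]

/-- data -/
def mNextPart22 : List (ℕ × ℕ × ℕ × ℕ) :=
  [(901, 1509, 1072, 1550), (1683, 519, 1073, 1686), (1417, 1684, 1129, 1073), (1685, 1686, 1162, 1074), (763, 1466, 1075, 1406), (732, 1651, 1659, 1076), (1246, 743, 1078, 1775), (1687, 525, 1081, 1224),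
    (1688, 775, 1082, 1600), (1190, 1637, 1410, 1082), (1229, 1309, 1083, 1681), (1689, 959, 1293, 1085), (1690, 1691, 1112, 1086), (1692, 919, 1252, 1087), (1693, 765, 1088, 1698), (1426, 1187, 1089, 1438),
    (1093, 1694, 1778, 1089), (699, 1671, 1090, 1323), (531, 1695, 1423, 1090), (1348, 990, 1091, 1808), (1170, 1488, 1092, 1218), (534, 897, 1207, 1094), (1696, 535, 1095, 1495), (1453, 1519, 1120, 1095),
    (1484, 1697, 1096, 1800), (1645, 850, 1494, 1096), (1396, 714, 1343, 1097), (1627, 1698, 1668, 1098), (1437, 924, 1099, 1296), (539, 962, 1436, 1100), (984, 1423, 1695, 1101), (834, 540, 1102, 1457),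
    (1551, 933, 1332, 1102), (868, 1517, 1748, 1104), (1444, 836, 1106, 1145), (1695, 1699, 1317, 1106), (542, 1700, 1442, 1107), (1112, 1681, 1838, 1109), (1701, 700, 1111, 1400), (1702, 1703, 1407, 1115),
    (1704, 1705, 1851, 1116), (1706, 870, 1118, 1864), (1590, 1707, 1617, 1120), (1091, 943, 1589, 1121), (1708, 1661, 1122, 1684), (551, 1709, 1431, 1122), (660, 817, 1459, 1123), (1710, 1197, 1524, 1125),
    (1711, 1712, 1819, 1126), (803, 1439, 1148, 1127), (1460, 1550, 1128, 1176), (1454, 1713, 1267, 1128), (557, 1714, 1458, 1129), (1715, 1716, 1130, 1310), (1678, 1130, 1716, 1132), (1286, 1615, 1532, 1133),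
    (1138, 1717, 1587, 1135), (1523, 1026, 1136, 1511), (1302, 634, 1137, 1412), (564, 1718, 1212, 1137), (1563, 1362, 1515, 1140), (1713, 1139, 1502, 1141), (1472, 1719, 1143, 1488), (1147, 1720, 1855, 1143)]

/-- data -/
def mNextPart23 : List (ℕ × ℕ × ℕ × ℕ) :=
  [(568, 1161, 1470, 1144), (1721, 896, 1145, 1659), (1304, 724, 1146, 1301), (1722, 1723, 1147, 1809), (1477, 1724, 1149, 1857), (572, 1725, 1476, 1150), (1553, 1726, 1280, 1152), (1707, 1727, 1153, 1585),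
    (860, 575, 1154, 1188), (1388, 1683, 1638, 1154), (1728, 1507, 1156, 1386), (1654, 579, 1157, 1730), (669, 1729, 1432, 1157), (771, 1730, 1246, 1158), (1272, 1540, 1159, 1784), (1731, 1555, 1318, 1160),
    (1732, 1470, 1161, 1428), (1564, 1159, 1540, 1162), (1726, 756, 1398, 1163), (1733, 1233, 1165, 1869), (734, 1734, 1166, 1369), (827, 1164, 1501, 1166), (1433, 702, 1217, 1167), (895, 1430, 1766, 1168),
    (1574, 1735, 1169, 1877), (1736, 1189, 1171, 1717), (1737, 1738, 1172, 1834), (1739, 1169, 1735, 1172), (873, 1549, 1173, 1517), (1493, 854, 1175, 1239), (1469, 1740, 1866, 1175), (1741, 592, 1176, 1743),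
    (1154, 1742, 1177, 1388), (1648, 1743, 1822, 1178), (1744, 1605, 1179, 1890), (842, 1745, 1180, 1482), (1042, 1177, 1742, 1180), (1746, 859, 1182, 1408), (1353, 1747, 1884, 1182), (864, 1465, 1185, 1261),
    (1748, 1749, 1186, 1530), (1750, 1089, 1187, 1646), (1082, 1751, 1836, 1190), (1468, 769, 1191, 1657), (1752, 605, 1193, 1754), (1753, 1500, 1194, 1441), (940, 1754, 1673, 1194), (1755, 872, 1195, 1431),
    (816, 1704, 1196, 1387), (1672, 1756, 1291, 1197), (1526, 1386, 1198, 1402), (1586, 1185, 1465, 1198), (1455, 1757, 1905, 1199), (1697, 865, 1200, 1342), (610, 1068, 1522, 1200), (1205, 1758, 1286, 1201),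
    (611, 1759, 1345, 1202), (1531, 1567, 1203, 1584), (1760, 1512, 1204, 1894), (612, 1761, 1529, 1204), (1463, 1762, 1205, 1723), (1622, 1378, 1208, 1381), (1594, 922, 1571, 1209), (1213, 746, 1384, 1210)]

/-- data -/
def mNextPart24 : List (ℕ × ℕ × ℕ × ℕ) :=
  [(1538, 906, 1211, 1232), (1759, 1763, 1641, 1211), (620, 1715, 1536, 1212), (1163, 825, 1213, 1726), (1489, 1299, 1214, 1486), (1220, 1581, 1396, 1216), (1635, 1214, 1299, 1217), (1544, 1764, 1218, 1870),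
    (623, 1765, 1543, 1219), (1766, 857, 1221, 1725), (1735, 986, 1625, 1222), (1767, 1706, 1223, 1570), (1743, 1768, 1224, 1741), (855, 794, 1225, 1500), (1769, 1408, 1227, 1458), (704, 1226, 1440, 1227),
    (1554, 934, 1230, 1567), (797, 1770, 1478, 1230), (635, 1247, 1552, 1231), (985, 1165, 1233, 1487), (1613, 637, 1235, 1771), (1642, 1771, 1911, 1236), (1327, 1772, 1237, 1799), (1113, 1231, 1239, 1300),
    (952, 1602, 1241, 1379), (1337, 1238, 1301, 1241), (1577, 1133, 1312, 1242), (871, 1032, 1468, 1243), (889, 1341, 1489, 1244), (1773, 1774, 1245, 1902), (1775, 1767, 1872, 1246), (1610, 1552, 1247, 1529),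
    (1724, 1245, 1774, 1248), (826, 780, 1302, 1249), (1727, 1547, 1250, 1655), (1534, 1776, 1882, 1251), (1777, 1284, 1789, 1252), (1778, 651, 1254, 1729), (785, 1779, 1496, 1254), (1718, 1664, 1604, 1255),
    (1780, 927, 1257, 1836), (1781, 1031, 1562, 1257), (925, 1782, 1258, 1397), (1765, 1659, 1651, 1259), (761, 1783, 1679, 1260), (1063, 978, 1261, 1541), (845, 663, 1272, 1262), (1585, 1722, 1264, 1707),
    (1361, 1529, 1761, 1265), (657, 1479, 1583, 1266), (824, 877, 1523, 1267), (1464, 773, 1320, 1269), (1784, 1785, 1853, 1272), (1451, 718, 1348, 1273), (974, 809, 1450, 1274), (664, 1693, 1314, 1275),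
    (1328, 1374, 1276, 1376), (1393, 1216, 1388, 1277), (1786, 1781, 1534, 1281), (1742, 1787, 1375, 1282), (1788, 1012, 1353, 1283), (1599, 1789, 1284, 1875), (1790, 1043, 1285, 1653), (671, 1775, 1597, 1285)]

/-- data -/
def mNextPart25 : List (ℕ × ℕ × ℕ × ℕ) :=
  [(1603, 1416, 1287, 1608), (1291, 1791, 1827, 1287), (913, 1666, 1288, 1560), (672, 1792, 1600, 1288), (1575, 1240, 1289, 1822), (1405, 1643, 1290, 1506), (1793, 674, 1292, 1649), (1618, 1692, 1310, 1292),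
    (1235, 1600, 1792, 1294), (999, 676, 1295, 1620), (1035, 1203, 1567, 1295), (1081, 1690, 1834, 1297), (1614, 1001, 1298, 1331), (1792, 1794, 1556, 1298), (678, 1795, 1612, 1299), (1723, 914, 1303, 1463),
    (1796, 1797, 1890, 1307), (1450, 1083, 1309, 1712), (686, 1798, 1607, 1311), (885, 982, 1622, 1312), (970, 1609, 1334, 1314), (1623, 1034, 1315, 1366), (1619, 1799, 1533, 1315), (692, 1800, 1621, 1316),
    (1789, 1317, 1699, 1318), (1546, 1769, 1739, 1319), (1044, 798, 1322, 1390), (1799, 1325, 1435, 1327), (1630, 1801, 1329, 1643), (1333, 1802, 1894, 1329), (703, 1346, 1628, 1330), (1803, 1183, 1331, 1403),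
    (1804, 1805, 1333, 1876), (1634, 1806, 1335, 1658), (707, 1807, 1633, 1336), (1749, 1808, 1542, 1338), (1716, 1809, 1339, 1762), (1073, 710, 1340, 1417), (1481, 753, 1393, 1340), (1674, 1685, 1342, 1377),
    (893, 1391, 1372, 1343), (1537, 1741, 1344, 1868), (1810, 1750, 1557, 1345), (1059, 1628, 1346, 1605), (1714, 1344, 1741, 1347), (1808, 950, 1433, 1348), (1811, 1513, 1350, 1842), (939, 1812, 1351, 1395),
    (1373, 916, 1505, 1352), (1182, 1606, 1863, 1353), (1813, 721, 1354, 1815), (1579, 1657, 1355, 1413), (1814, 1815, 1868, 1355), (1074, 1598, 1358, 1685), (1278, 1773, 1483, 1359), (1816, 1570, 1858, 1360),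
    (1817, 1022, 1361, 1703), (1018, 1515, 1362, 1651), (1818, 1633, 1807, 1363), (1413, 1473, 1365, 1579), (1153, 1819, 1712, 1365), (1820, 767, 1366, 1452), (1770, 1021, 1369, 1873), (1248, 1821, 1370, 1724)]

/-- data -/
def mNextPart26 : List (ℕ × ℕ × ℕ × ℕ) :=
  [(1822, 1219, 1373, 1575), (1050, 1276, 1374, 1669), (1270, 741, 1377, 1602), (1823, 979, 1380, 1785), (1435, 1824, 1381, 1844), (1825, 1665, 1383, 1700), (1826, 1710, 1889, 1383), (1048, 1198, 1386, 1425),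
    (1827, 876, 1521, 1391), (1518, 1025, 1392, 1806), (754, 1275, 1639, 1394), (1828, 755, 1395, 1829), (1097, 1829, 1752, 1396), (1830, 1062, 1399, 1898), (1339, 1831, 1462, 1401), (1580, 1744, 1402, 1880),
    (1756, 1832, 1404, 1849), (1833, 1418, 1406, 1445), (1821, 1404, 1832, 1407), (1340, 1732, 1409, 1481), (1782, 1452, 1728, 1410), (1007, 1653, 1411, 1639), (846, 1409, 1732, 1411), (1834, 1835, 1415, 1737),
    (1836, 1287, 1416, 1780), (1837, 779, 1419, 1839), (1838, 1100, 1420, 1611), (801, 1839, 1701, 1420), (1840, 1085, 1421, 1607), (981, 1796, 1422, 1591), (1841, 1842, 1913, 1424), (1438, 796, 1443, 1426),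
    (1843, 1766, 1430, 1859), (788, 1060, 1525, 1432), (1844, 1422, 1796, 1435), (1624, 1845, 1777, 1443), (1145, 1669, 1854, 1444), (1691, 1266, 1446, 1858), (1846, 805, 1447, 1847), (1071, 1656, 1833, 1447),
    (1740, 1708, 1448, 1520), (1719, 1847, 1910, 1448), (1385, 1818, 1449, 1547), (1712, 1583, 1479, 1450), (1116, 1728, 1452, 1704), (1095, 1841, 1843, 1453), (1848, 813, 1455, 1670), (1849, 1125, 1456, 1756),
    (1660, 1617, 1707, 1456), (1757, 1319, 1469, 1459), (1176, 1397, 1644, 1460), (1232, 975, 1461, 1538), (1462, 1760, 1636, 1461), (1269, 1497, 1753, 1464), (1364, 928, 1575, 1467), (1850, 1851, 1705, 1470),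
    (1852, 1853, 1785, 1471), (1854, 1365, 1473, 1914), (1855, 1755, 1475, 1583), (833, 1532, 1615, 1475), (1856, 1663, 1568, 1476), (1857, 1545, 1871, 1477), (948, 1539, 1490, 1478), (839, 1858, 1570, 1479)]

/-- data -/
def mNextPart27 : List (ℕ × ℕ × ℕ × ℕ) :=
  [(1684, 1053, 1482, 1708), (1800, 1573, 1820, 1484), (917, 1483, 1773, 1485), (1859, 931, 1487, 1843), (1686, 1092, 1488, 1683), (1734, 1860, 1491, 1908), (849, 1861, 1733, 1492), (1499, 1830, 1546, 1496),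
    (1738, 1753, 1497, 1761), (1845, 1687, 1498, 1907), (853, 1817, 1736, 1498), (1625, 1862, 1499, 1805), (1764, 1196, 1704, 1502), (1644, 1548, 1503, 1641), (1508, 1389, 1595, 1504), (1776, 1503, 1548, 1505),
    (1745, 1844, 1506, 1679), (861, 1402, 1744, 1507), (1863, 1072, 1509, 1807), (1832, 1237, 1772, 1510), (1441, 1204, 1512, 1753), (964, 1828, 1635, 1512), (1236, 1350, 1513, 1642), (1779, 1864, 1917, 1514),
    (1676, 1865, 1516, 1860), (1717, 1748, 1517, 1736), (1806, 1516, 1865, 1518), (1809, 1120, 1519, 1722), (958, 1711, 1680, 1521), (1866, 1267, 1713, 1524), (954, 1867, 1790, 1527), (1010, 887, 1537, 1528),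
    (1762, 1804, 1530, 1716), (1584, 1736, 1817, 1531), (882, 1636, 1760, 1532), (1868, 1869, 1892, 1537), (1851, 1866, 1740, 1543), (1870, 1255, 1579, 1544), (1495, 1871, 1545, 1696), (1768, 1250, 1547, 1566),
    (898, 1872, 1767, 1548), (1805, 1128, 1550, 1625), (1152, 1852, 1662, 1553), (1871, 1556, 1794, 1557), (1747, 1370, 1821, 1558), (1730, 1873, 1565, 1654), (1568, 1874, 1907, 1565), (1875, 1414, 1566, 1599),
    (1835, 1822, 1743, 1571), (1699, 1876, 1572, 1862), (1424, 1820, 1573, 1841), (1877, 1836, 1751, 1574), (1878, 1688, 1576, 1887), (1209, 1879, 1577, 1594), (1156, 1129, 1684, 1578), (1880, 1843, 1841, 1580),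
    (1881, 1486, 1588, 1795), (1720, 1667, 1902, 1588), (1882, 949, 1594, 1883), (1293, 1883, 1837, 1595), (1884, 1281, 1596, 1915), (1572, 1885, 1624, 1597), (1758, 1358, 1598, 1861), (1886, 1887, 1908, 1601)]

/-- data -/
def mNextPart28 : List (ℕ × ℕ × ℕ × ℕ) :=
  [(1608, 963, 1613, 1603), (1888, 1863, 1606, 1896), (1771, 1846, 1857, 1613), (1331, 1784, 1893, 1614), (1698, 1394, 1616, 1693), (1801, 1816, 1826, 1616), (1292, 1886, 1888, 1618), (1381, 1558, 1627, 1622),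
    (1366, 1432, 1729, 1623), (1889, 1890, 1797, 1628), (1891, 1892, 1869, 1629), (1893, 1401, 1631, 1906), (1894, 1840, 1632, 1760), (998, 1739, 1769, 1632), (1895, 1673, 1754, 1633), (1658, 1746, 1909, 1634),
    (1217, 1427, 1645, 1635), (1004, 1475, 1755, 1636), (1896, 1201, 1642, 1888), (1812, 1897, 1646, 1903), (1014, 1898, 1811, 1647), (1831, 1875, 1650, 1916), (1892, 1870, 1652, 1905), (1872, 1650, 1875, 1652),
    (1899, 1023, 1655, 1797), (1761, 1833, 1656, 1738), (1864, 1360, 1658, 1706), (1456, 1900, 1906, 1660), (1729, 1122, 1661, 1778), (1772, 1901, 1682, 1663), (1505, 1604, 1664, 1776), (1824, 1902, 1667, 1913),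
    (1045, 1880, 1823, 1668), (1898, 1854, 1669, 1830), (1797, 1903, 1670, 1899), (1601, 1056, 1672, 1886), (1338, 1891, 1675, 1749), (1860, 1675, 1891, 1676), (1222, 1825, 1677, 1735), (1132, 1904, 1813, 1678),
    (1682, 1884, 1747, 1680), (1703, 1838, 1681, 1817), (1611, 1498, 1687, 1838), (1224, 1882, 1776, 1687), (1514, 1576, 1688, 1779), (1787, 1899, 1689, 1897), (1445, 1834, 1690, 1833), (1858, 1689, 1899, 1691),
    (1876, 1310, 1692, 1804), (1783, 1778, 1694, 1709), (1874, 1646, 1897, 1694), (1709, 1731, 1696, 1783), (1890, 1668, 1698, 1744), (1862, 1856, 1737, 1699), (1901, 1895, 1702, 1794), (1865, 1702, 1895, 1705),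
    (1905, 1889, 1710, 1892), (1906, 1680, 1711, 1893), (1887, 1143, 1719, 1878), (1448, 1218, 1764, 1719), (1873, 1855, 1720, 1770), (1588, 1878, 1915, 1720), (1700, 1877, 1721, 1825), (1471, 1264, 1722, 1852)]

/-- data -/
def mNextPart29 : List (ℕ × ℕ × ℕ × ℕ) :=
  [(1907, 1149, 1724, 1845), (1794, 1476, 1725, 1901), (1655, 1701, 1839, 1727), (1885, 1696, 1731, 1918), (1869, 1752, 1829, 1733), (1908, 1790, 1867, 1734), (1172, 1777, 1845, 1739), (1649, 1909, 1746, 1793),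
    (1909, 1449, 1818, 1751), (1754, 1910, 1847, 1752), (1502, 1905, 1757, 1764), (1861, 1888, 1886, 1758), (1652, 1641, 1763, 1872), (1802, 1491, 1860, 1763), (1355, 1543, 1765, 1814), (1725, 1911, 1771, 1766),
    (1566, 1868, 1815, 1768), (1902, 1662, 1852, 1773), (1912, 1913, 1842, 1774), (1815, 1597, 1775, 1813), (1252, 1632, 1840, 1777), (1914, 1496, 1779, 1854), (1879, 1850, 1780, 1853), (1257, 1915, 1878, 1781),
    (1913, 1679, 1783, 1824), (1915, 1893, 1784, 1884), (1571, 1912, 1786, 1835), (1897, 1786, 1912, 1787), (1510, 1881, 1788, 1832), (1318, 1916, 1859, 1789), (1867, 1827, 1791, 1798), (1910, 1780, 1850, 1791),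
    (1798, 1810, 1793, 1867), (1670, 1329, 1801, 1848), (1616, 1506, 1844, 1801), (1829, 1894, 1802, 1828), (1763, 1848, 1814, 1802), (1795, 1849, 1803, 1881), (1629, 1530, 1804, 1891), (1847, 1335, 1806, 1846),
    (1911, 1793, 1810, 1919), (1842, 1837, 1883, 1811), (1903, 1677, 1825, 1812), (1839, 1826, 1816, 1837), (1904, 1914, 1919, 1819), (1407, 1857, 1846, 1821), (1785, 1565, 1873, 1823), (1383, 1811, 1898, 1826),
    (1916, 1906, 1900, 1831), (1524, 1814, 1848, 1866), (1819, 1803, 1849, 1904), (1774, 1737, 1856, 1912), (1791, 1733, 1861, 1910), (1807, 1917, 1864, 1863), (1705, 1908, 1887, 1865), (1557, 1918, 1896, 1871),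
    (1883, 1907, 1874, 1882), (1694, 1823, 1880, 1874), (1917, 1721, 1877, 1900), (1853, 1788, 1881, 1879), (1918, 1813, 1904, 1885), (1751, 1919, 1914, 1909), (1919, 1859, 1916, 1911), (1900, 1896, 1918, 1917)]

/-- data -/
def mNext : List (List (ℕ × ℕ × ℕ × ℕ)) :=
  [mNextPart0, mNextPart1, mNextPart2, mNextPart3, mNextPart4, mNextPart5, mNextPart6, mNextPart7, mNextPart8, mNextPart9, mNextPart10, mNextPart11, mNextPart12, mNextPart13, mNextPart14, mNextPart15, mNextPart16, mNextPart17, mNextPart18, mNextPart19, mNextPart20, mNextPart21, mNextPart22, mNextPart23, mNextPart24, mNextPart25, mNextPart26, mNextPart27, mNextPart28, mNextPart29]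

/-- data -/
def mTreePart0 : List (ℕ × Bool) :=
  [(0, false), (0, false), (0, true), (1, false), (1, true), (2, false), (2, true), (3, false),
    (3, true), (4, false), (4, true), (5, false), (5, true), (6, false), (6, true), (7, true),
    (8, false), (8, true), (9, false), (10, false), (10, true), (11, false), (11, true), (12, true),
    (13, false), (13, true), (14, false), (14, true), (15, false), (15, true), (16, false), (17, false),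
    (17, true), (18, false), (18, true), (19, false), (19, true), (20, false), (20, true), (21, true),
    (22, false), (22, true), (23, false), (23, true), (24, false), (24, true), (25, true), (26, false),
    (26, true), (27, false), (28, false), (29, false), (29, true), (30, false), (30, true), (31, false),
    (31, true), (32, false), (32, true), (33, true), (34, true), (35, false), (35, true), (36, true)]

/-- data -/
def mTreePart1 : List (ℕ × Bool) :=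
  [(37, false), (37, true), (38, false), (39, false), (39, true), (40, false), (41, false), (41, true),
    (42, false), (43, false), (43, true), (44, true), (45, false), (45, true), (46, false), (46, true),
    (47, false), (47, true), (48, true), (49, false), (49, true), (50, false), (50, true), (51, false),
    (51, true), (52, false), (52, true), (53, true), (54, true), (55, false), (55, true), (56, true),
    (57, false), (57, true), (58, false), (59, false), (59, true), (60, false), (60, true), (61, true),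
    (62, false), (62, true), (63, false), (63, true), (64, false), (64, true), (65, true), (66, false),
    (66, true), (67, false), (68, false), (68, true), (69, false), (69, true), (70, false), (70, true),
    (71, false), (71, true), (72, false), (72, true), (73, false), (73, true), (74, false), (75, false)]

/-- data -/
def mTreePart2 : List (ℕ × Bool) :=
  [(75, true), (76, false), (77, false), (77, true), (78, false), (79, false), (79, true), (80, true),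
    (81, false), (81, true), (82, false), (82, true), (83, false), (83, true), (84, true), (85, true),
    (86, true), (87, false), (87, true), (88, true), (89, false), (89, true), (90, false), (91, false),
    (91, true), (92, false), (92, true), (93, true), (94, false), (94, true), (95, false), (95, true),
    (96, false), (96, true), (97, true), (98, false), (98, true), (99, false), (100, false), (100, true),
    (101, false), (102, false), (102, true), (103, false), (103, true), (104, false), (105, false), (105, true),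
    (106, false), (107, false), (107, true), (108, true), (109, false), (109, true), (110, false), (110, true),
    (111, false), (111, true), (112, true), (113, false), (113, true), (114, false), (114, true), (115, false)]

/-- data -/
def mTreePart3 : List (ℕ × Bool) :=
  [(115, true), (116, true), (117, true), (118, false), (118, true), (119, true), (120, false), (120, true),
    (121, false), (122, true), (123, true), (124, false), (124, true), (125, true), (126, false), (126, true),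
    (127, false), (128, false), (128, true), (129, false), (129, true), (130, false), (130, true), (131, false),
    (131, true), (132, false), (132, true), (133, false), (133, true), (134, false), (135, false), (135, true),
    (136, false), (137, true), (138, false), (139, false), (139, true), (140, true), (141, false), (141, true),
    (142, false), (142, true), (143, false), (143, true), (144, false), (144, true), (145, true), (146, false),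
    (146, true), (147, false), (147, true), (148, false), (149, true), (150, false), (150, true), (151, false),
    (152, false), (152, true), (153, false), (154, false), (154, true), (155, false), (155, true), (156, false)]

/-- data -/
def mTreePart4 : List (ℕ × Bool) :=
  [(157, false), (157, true), (158, false), (159, false), (159, true), (160, true), (161, false), (161, true),
    (162, false), (162, true), (163, false), (163, true), (164, true), (165, false), (165, true), (166, false),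
    (166, true), (167, false), (167, true), (168, false), (168, true), (169, false), (169, true), (170, false),
    (171, false), (172, false), (172, true), (173, false), (173, true), (174, false), (174, true), (175, false),
    (175, true), (176, false), (176, true), (177, false), (177, true), (178, false), (179, false), (179, true),
    (180, false), (181, true), (182, false), (183, false), (183, true), (184, true), (185, false), (185, true),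
    (186, false), (186, true), (187, true), (188, true), (189, false), (189, true), (190, true), (191, false),
    (191, true), (192, false), (193, false), (193, true), (194, false), (194, true), (195, true), (196, false)]

/-- data -/
def mTreePart5 : List (ℕ × Bool) :=
  [(196, true), (197, false), (197, true), (198, false), (198, true), (199, true), (200, false), (200, true),
    (201, false), (201, true), (202, false), (202, true), (203, true), (204, false), (204, true), (205, false),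
    (205, true), (206, false), (207, true), (208, false), (208, true), (209, false), (209, true), (210, false),
    (210, true), (211, true), (212, true), (213, false), (213, true), (214, true), (215, false), (215, true),
    (216, false), (217, true), (218, true), (219, false), (219, true), (220, true), (221, false), (221, true),
    (222, false), (223, false), (223, true), (224, false), (224, true), (225, false), (225, true), (226, false),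
    (226, true), (227, false), (227, true), (228, false), (229, false), (229, true), (230, false), (231, true),
    (232, false), (233, false), (233, true), (234, false), (235, false), (235, true), (236, false), (237, false)]

/-- data -/
def mTreePart6 : List (ℕ × Bool) :=
  [(237, true), (238, false), (238, true), (239, false), (240, false), (240, true), (241, false), (242, false),
    (242, true), (243, true), (244, false), (244, true), (245, false), (246, true), (247, false), (247, true),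
    (248, false), (248, true), (249, false), (250, false), (250, true), (251, false), (251, true), (252, false),
    (253, false), (254, false), (254, true), (255, false), (256, false), (256, true), (257, false), (257, true),
    (258, false), (259, false), (259, true), (261, false), (261, true), (262, false), (263, true), (264, false),
    (265, false), (265, true), (266, true), (267, false), (267, true), (268, false), (268, true), (269, true),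
    (270, true), (271, false), (271, true), (272, true), (273, false), (273, true), (274, false), (275, true),
    (276, false), (276, true), (277, false), (277, true), (278, true), (279, false), (279, true), (280, false)]

/-- data -/
def mTreePart7 : List (ℕ × Bool) :=
  [(280, true), (281, true), (282, false), (282, true), (284, true), (285, false), (285, true), (286, true),
    (287, false), (287, true), (288, false), (289, true), (290, true), (291, false), (291, true), (292, true),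
    (293, false), (293, true), (294, false), (295, false), (295, true), (296, false), (296, true), (297, false),
    (297, true), (298, false), (298, true), (299, false), (299, true), (300, false), (301, false), (301, true),
    (302, false), (303, true), (304, false), (305, false), (305, true), (306, false), (306, true), (307, false),
    (307, true), (309, false), (309, true), (310, false), (310, true), (311, false), (312, true), (313, true),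
    (314, false), (315, false), (315, true), (316, false), (317, false), (317, true), (318, false), (320, false),
    (320, true), (321, false), (322, false), (323, true), (324, false), (324, true), (325, false), (325, true)]

/-- data -/
def mTreePart8 : List (ℕ × Bool) :=
  [(326, false), (326, true), (327, true), (328, false), (329, false), (329, true), (330, false), (331, false),
    (331, true), (332, false), (332, true), (333, false), (334, true), (335, false), (336, false), (336, true),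
    (337, true), (338, false), (338, true), (339, true), (340, true), (341, false), (341, true), (343, false),
    (343, true), (344, false), (345, false), (345, true), (346, false), (346, true), (348, true), (349, false),
    (350, true), (351, true), (352, false), (352, true), (353, false), (353, true), (354, false), (354, true),
    (355, true), (356, false), (357, false), (357, true), (358, false), (359, true), (360, false), (360, true),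
    (361, true), (362, false), (362, true), (363, true), (364, true), (365, false), (365, true), (366, false),
    (367, true), (368, true), (369, false), (369, true), (370, true), (371, false), (371, true), (372, false)]

/-- data -/
def mTreePart9 : List (ℕ × Bool) :=
  [(373, false), (373, true), (374, true), (375, false), (375, true), (376, false), (376, true), (377, false),
    (377, true), (378, false), (379, false), (379, true), (380, false), (380, true), (381, false), (382, false),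
    (383, false), (383, true), (384, false), (385, false), (386, true), (387, false), (388, true), (389, false),
    (389, true), (390, false), (391, true), (393, false), (393, true), (394, false), (395, false), (395, true),
    (396, true), (397, false), (397, true), (398, true), (399, true), (400, false), (400, true), (401, true),
    (402, false), (402, true), (403, true), (404, false), (404, true), (405, false), (405, true), (406, true),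
    (407, false), (407, true), (408, true), (410, false), (410, true), (412, false), (412, true), (413, true),
    (414, false), (414, true), (415, false), (416, true), (418, true), (419, false), (420, true), (421, false)]

/-- data -/
def mTreePart10 : List (ℕ × Bool) :=
  [(421, true), (422, false), (422, true), (423, false), (423, true), (424, false), (424, true), (425, false),
    (426, true), (427, false), (428, true), (429, false), (430, false), (430, true), (431, false), (431, true),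
    (432, false), (432, true), (434, true), (436, false), (437, true), (438, true), (439, false), (441, false),
    (441, true), (442, true), (443, false), (443, true), (444, false), (444, true), (445, false), (446, true),
    (447, true), (448, true), (450, false), (451, false), (452, false), (452, true), (454, true), (455, false),
    (456, true), (457, true), (458, false), (458, true), (459, false), (459, true), (460, true), (461, true),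
    (462, false), (463, false), (463, true), (464, false), (465, true), (466, false), (466, true), (467, true),
    (468, false), (468, true), (469, true), (470, true), (471, false), (471, true), (472, false), (473, true)]

/-- data -/
def mTreePart11 : List (ℕ × Bool) :=
  [(474, true), (475, false), (475, true), (476, true), (477, false), (477, true), (478, false), (479, false),
    (479, true), (480, true), (481, false), (481, true), (482, false), (482, true), (483, false), (483, true),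
    (484, false), (485, false), (486, false), (486, true), (487, false), (488, false), (488, true), (489, false),
    (490, false), (490, true), (491, false), (492, true), (493, true), (494, false), (494, true), (495, true),
    (496, true), (497, false), (498, false), (499, false), (499, true), (500, false), (500, true), (501, false),
    (502, false), (503, false), (504, false), (504, true), (505, false), (506, false), (506, true), (507, false),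
    (507, true), (508, false), (509, true), (510, false), (511, false), (511, true), (512, true), (513, false),
    (514, false), (514, true), (515, false), (515, true), (516, true), (517, false), (518, false), (519, false)]

/-- data -/
def mTreePart12 : List (ℕ × Bool) :=
  [(519, true), (520, false), (521, false), (522, true), (523, false), (524, false), (524, true), (525, false),
    (526, true), (528, false), (528, true), (529, false), (530, false), (530, true), (531, false), (531, true),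
    (532, false), (532, true), (534, true), (535, false), (536, true), (537, true), (538, false), (539, false),
    (539, true), (540, false), (541, false), (541, true), (542, false), (542, true), (543, false), (544, false),
    (544, true), (545, true), (546, false), (546, true), (547, true), (548, false), (549, false), (549, true),
    (550, false), (551, false), (551, true), (552, true), (553, false), (554, false), (555, false), (555, true),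
    (556, true), (557, false), (557, true), (558, true), (559, true), (561, false), (561, true), (563, false),
    (563, true), (564, false), (564, true), (565, true), (566, true), (567, true), (568, false), (568, true)]

/-- data -/
def mTreePart13 : List (ℕ × Bool) :=
  [(569, false), (569, true), (570, true), (571, false), (572, false), (572, true), (573, false), (574, true),
    (575, false), (576, true), (578, true), (579, false), (579, true), (581, true), (582, true), (583, false),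
    (583, true), (584, true), (585, false), (585, true), (586, true), (587, true), (588, false), (588, true),
    (589, true), (590, false), (590, true), (592, false), (592, true), (593, true), (594, false), (594, true),
    (595, true), (596, false), (596, true), (600, false), (601, true), (602, true), (603, false), (604, true),
    (605, false), (605, true), (606, true), (607, false), (609, false), (610, false), (610, true), (611, false),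
    (611, true), (612, false), (612, true), (614, true), (616, false), (617, true), (618, false), (620, false),
    (620, true), (621, true), (622, false), (622, true), (623, false), (623, true), (624, false), (625, true)]

/-- data -/
def mTreePart14 : List (ℕ × Bool) :=
  [(627, false), (628, false), (630, true), (631, false), (632, true), (633, true), (634, false), (634, true),
    (635, false), (635, true), (636, false), (636, true), (637, false), (637, true), (638, false), (638, true),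
    (639, true), (640, true), (641, false), (641, true), (642, false), (643, true), (644, true), (645, false),
    (645, true), (646, true), (647, false), (647, true), (648, false), (649, true), (650, false), (651, false),
    (652, false), (652, true), (653, false), (654, false), (655, false), (656, false), (657, false), (657, true),
    (658, false), (658, true), (660, false), (660, true), (661, true), (662, false), (663, false), (664, false),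
    (664, true), (665, false), (665, true), (666, false), (667, true), (668, false), (669, false), (669, true),
    (670, true), (671, false), (671, true), (672, false), (672, true), (673, false), (673, true), (674, false)]

/-- data -/
def mTreePart15 : List (ℕ × Bool) :=
  [(675, true), (676, false), (677, false), (678, false), (678, true), (679, false), (680, false), (680, true),
    (681, true), (682, false), (682, true), (683, true), (684, false), (685, false), (685, true), (686, false),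
    (686, true), (687, true), (688, false), (689, false), (690, true), (691, true), (692, false), (692, true),
    (693, true), (694, true), (696, false), (696, true), (698, false), (698, true), (699, false), (699, true),
    (700, true), (701, true), (702, true), (703, false), (703, true), (704, false), (704, true), (705, true),
    (706, false), (707, false), (707, true), (708, false), (709, true), (710, false), (711, true), (713, true),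
    (714, false), (714, true), (716, true), (717, true), (718, false), (718, true), (719, true), (720, false),
    (720, true), (721, false), (721, true), (722, false), (722, true), (723, false), (724, false), (725, false)]

/-- data -/
def mTreePart16 : List (ℕ × Bool) :=
  [(725, true), (726, false), (727, false), (728, true), (730, false), (732, false), (732, true), (733, false),
    (734, false), (734, true), (735, false), (735, true), (736, true), (737, false), (737, true), (738, true),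
    (739, true), (740, false), (740, true), (741, false), (741, true), (742, true), (743, false), (743, true),
    (744, true), (745, false), (745, true), (746, false), (746, true), (747, false), (748, true), (750, true),
    (751, false), (752, true), (753, false), (753, true), (754, false), (754, true), (755, false), (755, true),
    (756, false), (756, true), (759, false), (760, false), (761, false), (761, true), (762, true), (763, true),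
    (765, false), (767, true), (768, true), (769, false), (769, true), (770, true), (771, false), (771, true),
    (774, false), (775, true), (776, true), (777, false), (778, true), (779, false), (779, true), (780, true)]

/-- data -/
def mTreePart17 : List (ℕ × Bool) :=
  [(781, false), (782, false), (783, false), (783, true), (784, false), (785, true), (786, false), (787, true),
    (788, true), (789, true), (790, true), (791, false), (792, false), (793, false), (793, true), (794, false),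
    (794, true), (795, false), (796, false), (797, false), (798, false), (799, false), (800, true), (801, false),
    (801, true), (802, true), (803, false), (805, false), (805, true), (806, true), (807, false), (808, false),
    (809, false), (809, true), (810, false), (811, true), (812, false), (813, false), (814, true), (816, true),
    (817, false), (818, false), (819, false), (819, true), (820, true), (821, false), (822, true), (823, false),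
    (824, false), (826, false), (826, true), (827, false), (827, true), (828, true), (829, true), (830, false),
    (831, false), (831, true), (832, false), (833, true), (834, true), (836, false), (837, false), (837, true)]

/-- data -/
def mTreePart18 : List (ℕ × Bool) :=
  [(838, true), (839, true), (840, true), (842, false), (842, true), (843, true), (844, true), (845, false),
    (845, true), (846, false), (846, true), (847, true), (848, false), (849, false), (849, true), (850, false),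
    (851, true), (852, false), (852, true), (853, false), (853, true), (855, true), (857, false), (858, true),
    (859, true), (860, false), (860, true), (861, false), (861, true), (862, false), (863, true), (865, false),
    (866, false), (867, false), (868, false), (869, false), (869, true), (870, false), (870, true), (871, false),
    (871, true), (872, true), (873, true), (874, true), (875, false), (876, false), (877, false), (877, true),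
    (878, false), (879, false), (880, false), (881, false), (882, false), (882, true), (883, false), (883, true),
    (885, false), (885, true), (886, false), (887, false), (888, false), (888, true), (889, false), (889, true)]

/-- data -/
def mTreePart19 : List (ℕ × Bool) :=
  [(890, false), (891, true), (892, false), (893, false), (893, true), (895, false), (895, true), (898, false),
    (898, true), (899, false), (900, false), (901, true), (902, false), (903, true), (904, false), (905, false),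
    (905, true), (906, false), (907, true), (908, true), (909, true), (910, false), (912, false), (912, true),
    (913, false), (913, true), (914, true), (915, true), (916, true), (917, false), (917, true), (918, false),
    (918, true), (919, true), (921, false), (922, false), (923, true), (926, true), (927, true), (928, false),
    (928, true), (929, true), (930, false), (930, true), (931, true), (932, false), (932, true), (933, false),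
    (934, false), (934, true), (935, false), (938, false), (939, true), (940, true), (941, true), (942, false),
    (942, true), (943, false), (943, true), (944, false), (945, false), (947, false), (947, true), (948, false)]

/-- data -/
def mTreePart20 : List (ℕ × Bool) :=
  [(948, true), (949, false), (949, true), (950, true), (953, false), (954, false), (954, true), (955, false),
    (956, false), (956, true), (957, false), (958, true), (959, true), (960, true), (961, false), (961, true),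
    (962, false), (962, true), (963, false), (964, false), (965, false), (966, false), (967, true), (968, false),
    (968, true), (970, false), (972, false), (972, true), (973, true), (974, false), (975, false), (976, false),
    (977, true), (979, false), (981, true), (982, false), (983, false), (984, false), (985, true), (986, false),
    (987, true), (988, false), (989, false), (991, false), (991, true), (992, false), (992, true), (993, true),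
    (994, true), (995, false), (996, false), (996, true), (997, false), (998, true), (999, true), (1001, false),
    (1002, false), (1002, true), (1003, true), (1004, true), (1005, true), (1007, false), (1007, true), (1008, true)]

/-- data -/
def mTreePart21 : List (ℕ × Bool) :=
  [(1010, false), (1010, true), (1011, false), (1011, true), (1012, true), (1013, false), (1014, false), (1014, true),
    (1015, false), (1016, true), (1017, true), (1018, true), (1019, false), (1020, true), (1021, false), (1021, true),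
    (1023, false), (1024, true), (1025, false), (1025, true), (1028, true), (1029, false), (1030, true), (1031, true),
    (1032, true), (1033, false), (1034, false), (1035, true), (1036, false), (1036, true), (1040, false), (1042, false),
    (1042, true), (1043, true), (1044, false), (1044, true), (1045, false), (1045, true), (1046, false), (1050, true),
    (1051, true), (1052, true), (1053, false), (1053, true), (1054, true), (1055, false), (1055, true), (1056, false),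
    (1057, false), (1058, true), (1061, false), (1062, true), (1063, true), (1064, false), (1064, true), (1065, true),
    (1066, true), (1067, false), (1068, false), (1068, true), (1070, false), (1070, true), (1071, false), (1071, true)]

/-- data -/
def mTreePart22 : List (ℕ × Bool) :=
  [(1072, false), (1073, false), (1073, true), (1074, true), (1075, false), (1076, true), (1078, false), (1081, false),
    (1082, false), (1082, true), (1083, false), (1085, true), (1086, true), (1087, true), (1088, false), (1089, false),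
    (1089, true), (1090, false), (1090, true), (1091, false), (1092, false), (1094, true), (1095, false), (1095, true),
    (1096, false), (1096, true), (1097, true), (1098, true), (1099, false), (1100, true), (1101, true), (1102, false),
    (1102, true), (1104, true), (1106, false), (1106, true), (1107, true), (1109, true), (1111, false), (1115, true),
    (1116, true), (1118, false), (1120, true), (1121, true), (1122, false), (1122, true), (1123, true), (1125, true),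
    (1126, true), (1127, true), (1128, false), (1128, true), (1129, true), (1130, false), (1132, true), (1133, true),
    (1135, true), (1136, false), (1137, false), (1137, true), (1140, true), (1141, true), (1143, false), (1143, true)]

/-- data -/
def mTreePart23 : List (ℕ × Bool) :=
  [(1144, true), (1145, false), (1146, false), (1147, false), (1149, false), (1150, true), (1152, true), (1153, false),
    (1154, false), (1154, true), (1156, false), (1157, false), (1157, true), (1158, true), (1159, false), (1160, true),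
    (1161, false), (1162, true), (1163, true), (1165, false), (1166, false), (1166, true), (1167, true), (1168, true),
    (1169, false), (1171, false), (1172, false), (1172, true), (1173, false), (1175, false), (1175, true), (1176, false),
    (1177, false), (1178, true), (1179, false), (1180, false), (1180, true), (1182, false), (1182, true), (1185, false),
    (1186, false), (1187, false), (1190, true), (1191, false), (1193, false), (1194, false), (1194, true), (1195, false),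
    (1196, false), (1197, true), (1198, false), (1198, true), (1199, true), (1200, false), (1200, true), (1201, true),
    (1202, true), (1203, false), (1204, false), (1204, true), (1205, false), (1208, false), (1209, true), (1210, true)]

/-- data -/
def mTreePart24 : List (ℕ × Bool) :=
  [(1211, false), (1211, true), (1212, true), (1213, false), (1214, false), (1216, true), (1217, true), (1218, false),
    (1219, true), (1221, false), (1222, true), (1223, false), (1224, false), (1225, false), (1227, false), (1227, true),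
    (1230, false), (1230, true), (1231, true), (1233, false), (1235, false), (1236, true), (1237, false), (1239, false),
    (1241, false), (1241, true), (1242, true), (1243, true), (1244, true), (1245, false), (1246, true), (1247, false),
    (1248, true), (1249, true), (1250, false), (1251, true), (1252, true), (1254, false), (1254, true), (1255, true),
    (1257, false), (1257, true), (1258, false), (1259, true), (1260, true), (1261, false), (1262, true), (1264, false),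
    (1265, true), (1266, true), (1267, true), (1269, true), (1272, true), (1273, true), (1274, true), (1275, true),
    (1276, false), (1277, true), (1281, true), (1282, true), (1283, true), (1284, false), (1285, false), (1285, true)]

/-- data -/
def mTreePart25 : List (ℕ × Bool) :=
  [(1287, false), (1287, true), (1288, false), (1288, true), (1289, false), (1290, false), (1292, false), (1292, true),
    (1294, true), (1295, false), (1295, true), (1297, true), (1298, false), (1298, true), (1299, true), (1303, false),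
    (1307, true), (1309, false), (1311, true), (1312, true), (1314, true), (1315, false), (1315, true), (1316, true),
    (1318, true), (1319, true), (1322, false), (1327, true), (1329, false), (1329, true), (1330, true), (1331, false),
    (1333, false), (1335, false), (1336, true), (1338, true), (1339, false), (1340, false), (1340, true), (1342, false),
    (1343, true), (1344, false), (1345, true), (1346, false), (1347, true), (1348, true), (1350, false), (1351, false),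
    (1352, true), (1353, true), (1354, false), (1355, false), (1355, true), (1358, false), (1359, true), (1360, true),
    (1361, false), (1362, false), (1363, true), (1365, false), (1365, true), (1366, false), (1369, false), (1370, false)]

/-- data -/
def mTreePart26 : List (ℕ × Bool) :=
  [(1373, false), (1374, false), (1377, false), (1380, false), (1381, false), (1383, false), (1383, true), (1386, false),
    (1391, true), (1392, false), (1394, true), (1395, false), (1396, true), (1399, false), (1401, true), (1402, false),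
    (1404, false), (1406, false), (1407, true), (1409, false), (1410, true), (1411, false), (1411, true), (1415, false),
    (1416, false), (1419, false), (1420, false), (1420, true), (1421, false), (1422, false), (1424, true), (1426, true),
    (1430, false), (1432, true), (1435, true), (1443, true), (1444, true), (1446, false), (1447, false), (1447, true),
    (1448, false), (1448, true), (1449, false), (1450, true), (1452, false), (1453, true), (1455, false), (1456, false),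
    (1456, true), (1459, true), (1460, true), (1461, false), (1461, true), (1464, true), (1467, true), (1470, true),
    (1471, true), (1473, false), (1475, false), (1475, true), (1476, true), (1477, true), (1478, true), (1479, true)]

/-- data -/
def mTreePart27 : List (ℕ × Bool) :=
  [(1482, false), (1484, true), (1485, true), (1487, false), (1488, false), (1491, false), (1492, true), (1496, true),
    (1497, false), (1498, false), (1498, true), (1499, false), (1502, true), (1503, false), (1504, true), (1505, true),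
    (1506, false), (1507, true), (1509, false), (1510, true), (1512, false), (1512, true), (1513, false), (1514, true),
    (1516, false), (1517, false), (1518, true), (1519, false), (1521, true), (1524, true), (1527, true), (1528, true),
    (1530, false), (1531, true), (1532, true), (1537, true), (1543, true), (1544, true), (1545, false), (1547, false),
    (1548, true), (1550, false), (1553, true), (1557, true), (1558, true), (1565, false), (1565, true), (1566, false),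
    (1571, true), (1572, false), (1573, false), (1574, true), (1576, false), (1577, false), (1578, true), (1580, true),
    (1588, false), (1588, true), (1594, false), (1595, true), (1596, false), (1597, true), (1598, false), (1601, true)]

/-- data -/
def mTreePart28 : List (ℕ × Bool) :=
  [(1603, true), (1606, false), (1613, true), (1614, true), (1616, false), (1616, true), (1618, true), (1622, true),
    (1623, true), (1628, true), (1629, true), (1631, false), (1632, false), (1632, true), (1633, true), (1634, true),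
    (1635, true), (1636, true), (1642, false), (1646, false), (1647, true), (1650, false), (1652, false), (1652, true),
    (1655, false), (1656, false), (1658, false), (1660, true), (1661, false), (1663, true), (1664, false), (1667, false),
    (1668, true), (1669, false), (1670, false), (1672, false), (1675, false), (1676, true), (1677, false), (1678, true),
    (1680, true), (1681, false), (1687, false), (1687, true), (1688, false), (1689, false), (1690, false), (1691, true),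
    (1692, false), (1694, false), (1694, true), (1696, false), (1698, false), (1699, true), (1702, false), (1705, true),
    (1710, false), (1711, false), (1719, false), (1719, true), (1720, false), (1720, true), (1721, false), (1722, false)]

/-- data -/
def mTreePart29 : List (ℕ × Bool) :=
  [(1724, false), (1725, false), (1727, true), (1731, false), (1733, true), (1734, true), (1739, true), (1746, false),
    (1751, true), (1752, true), (1757, false), (1758, true), (1763, false), (1763, true), (1765, false), (1766, true),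
    (1768, true), (1773, true), (1774, true), (1775, false), (1777, true), (1779, false), (1780, false), (1781, true),
    (1783, false), (1784, false), (1786, false), (1787, true), (1788, false), (1789, true), (1791, false), (1791, true),
    (1793, false), (1801, false), (1801, true), (1802, false), (1802, true), (1803, false), (1804, false), (1806, false),
    (1810, false), (1811, true), (1812, true), (1816, false), (1819, true), (1821, true), (1823, true), (1826, true),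
    (1831, true), (1848, false), (1849, false), (1856, false), (1861, false), (1863, true), (1865, true), (1871, true),
    (1874, false), (1874, true), (1877, false), (1879, true), (1885, true), (1909, true), (1911, true), (1917, true)]

/-- data -/
def mTree : List (List (ℕ × Bool)) :=
  [mTreePart0, mTreePart1, mTreePart2, mTreePart3, mTreePart4, mTreePart5, mTreePart6, mTreePart7, mTreePart8, mTreePart9, mTreePart10, mTreePart11, mTreePart12, mTreePart13, mTreePart14, mTreePart15, mTreePart16, mTreePart17, mTreePart18, mTreePart19, mTreePart20, mTreePart21, mTreePart22, mTreePart23, mTreePart24, mTreePart25, mTreePart26, mTreePart27, mTreePart28, mTreePart29]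

/-- data -/
def mValPart0 : List ((ℤ × ℤ × ℤ × ℤ × ℤ × ℤ) × (ℤ × ℤ × ℤ × ℤ × ℤ × ℤ)) :=
  [((0, 0, 0, 0, 0, 0), (0, 0, 0, 0, 0, 0)), ((0, 0, 0, 0, 0, 0), (0, 0, 0, 0, 0, 0)), ((0, 0, 0, 0, 0, 0), (0, 0, 0, 0, 0, 0)), ((0, 0, 0, 0, 0, 0), (0, 0, 0, 0, 0, 0)), ((0, 0, 0, 0, 0, 0), (0, 0, 0, 0, 0, 0)), ((0, 0, 0, 0, 0, 0), (0, 0, 0, 0, 0, 0)), ((0, 0, 0, 0, 0, 0), (0, 0, 0, 0, 0, 0)), ((1, 0, (-1), 0, 0, 0), (0, 0, 0, 0, 0, 0)),
    ((0, 0, 0, 0, 0, 0), (0, 0, 0, 0, 0, 0)), ((0, 0, 0, 0, 0, 0), (0, 0, 1, 0, 0, 0)), ((0, 0, 0, 0, 0, 0), (0, 0, 0, 0, 0, 0)), ((0, 0, 0, 0, 0, 0), (0, 0, 0, 0, 0, 0)), ((0, 0, 1, 0, 0, 0), (0, 0, 0, 0, 0, 0)), ((0, 0, 0, 0, 0, 0), (0, 0, 0, 0, 0, 0)), ((0, 0, 0, 0, 0, 0), (0, 0, 0, 0, 0, 0)), ((0, 0, 0, 0, 0, 0), (0, 0, 0, 0, 0, 0)),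
    ((0, 0, 0, 0, 0, 0), (0, 0, 1, 0, 0, 0)), ((0, 0, 0, 0, 0, 0), (0, 0, 0, 0, 0, 0)), ((0, 0, 0, 0, 0, 0), (0, 0, 0, 0, 0, 0)), ((0, 0, 0, 0, 0, 0), (0, 0, 0, 0, 0, 0)), ((0, 0, 0, 0, 0, 0), (0, 0, 0, 0, 0, 0)), ((1, 0, (-1), 0, 0, 0), (0, 0, 0, 0, 0, 0)), ((0, 0, 0, 0, 0, 0), (0, 0, 0, 0, 0, 0)), ((0, 0, 0, 0, 0, 0), (0, 0, 0, 0, 0, 0)),
    ((0, 0, 0, 0, 0, 0), (0, 0, 0, 0, 0, 0)), ((0, 0, 1, 0, 0, 0), (0, 0, 0, 0, 0, 0)), ((0, 0, 0, 0, 0, 0), (0, 0, 0, 0, 0, 0)), ((0, 0, 0, 0, 0, 0), (0, 1, (-1), 0, 0, 0)), ((0, 0, 0, 0, 0, 0), (0, 0, 1, 0, 0, 0)), ((0, 0, 0, 0, 0, 0), (0, 0, 0, 0, 0, 0)), ((0, 0, 0, 0, 0, 0), (0, 0, 0, 0, 0, 0)), ((0, 0, 0, 0, 0, 0), (0, 0, 0, 0, 0, 0)),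
    ((0, 0, 0, 0, 0, 0), (0, 0, 0, 0, 0, 0)), ((1, 0, (-1), 0, 0, 0), (0, 0, 0, 0, 0, 0)), ((0, (-1), 2, 0, 0, 0), (0, 0, 0, 0, 0, 0)), ((0, 0, 0, 0, 0, 0), (0, 0, 0, 0, 0, 0)), ((0, 0, 1, 0, 0, 0), (0, 0, 0, 0, 0, 0)), ((0, 0, 0, 0, 0, 0), (0, 0, 0, 0, 0, 0)), ((0, 0, 0, 0, 0, 0), (0, 1, (-1), 0, 0, 0)), ((0, 0, 0, 0, 0, 0), (0, 0, 0, 0, 0, 0)),
    ((0, 0, 0, 0, 0, 0), (0, 0, 1, 0, 0, 0)), ((0, 0, 0, 0, 0, 0), (0, 0, 0, 0, 0, 0)), ((0, 0, 0, 0, 0, 0), ((-1), 0, 2, 0, 0, 0)), ((0, 0, 0, 0, 0, 0), (0, 0, 0, 0, 0, 0)), ((1, 0, (-1), 0, 0, 0), (0, 0, 0, 0, 0, 0)), ((0, 0, 0, 0, 0, 0), (0, 0, 0, 0, 0, 0)), ((0, 0, 0, 0, 0, 0), (0, 0, 0, 0, 0, 0)), ((0, 0, 0, 0, 0, 0), (0, 0, 0, 0, 0, 0)),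
    ((0, 0, 1, 0, 0, 0), (0, 0, 0, 0, 0, 0)), ((0, 0, 0, 0, 0, 0), (0, 0, 0, 0, 0, 0)), ((0, 0, 0, 0, 0, 0), (0, 0, 0, 0, 0, 0)), ((0, 0, 0, 0, 0, 0), (0, 0, 0, 0, 0, 0)), ((0, 0, 0, 0, 0, 0), (0, 0, 0, 0, 0, 0)), ((1, 0, (-1), 0, 0, 0), (0, 0, 0, 0, 0, 0)), ((0, (-1), 2, 0, 0, 0), (0, 0, 0, 0, 0, 0)), ((0, 0, 0, 0, 0, 0), (0, 0, 0, 0, 0, 0)),
    ((0, 0, 1, 0, 0, 0), (0, 0, 0, 0, 0, 0)), ((0, 0, 0, 0, 0, 0), (0, 0, 0, 0, 0, 0)), ((0, 0, 0, 0, 0, 0), (0, 1, (-1), 0, 0, 0)), ((0, 0, 0, 0, 0, 0), (0, 0, 0, 0, 0, 0)), ((0, 0, 0, 0, 0, 0), (0, 0, 0, 0, 0, 0)), ((1, 0, (-1), 0, 0, 0), (0, 0, 0, 0, 0, 0)), ((0, 0, 0, 0, 0, 0), (0, 0, 0, 0, 0, 0)), ((0, 0, 0, 0, 0, 0), (0, 0, 0, 0, 0, 0))]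

/-- data -/
def mValPart1 : List ((ℤ × ℤ × ℤ × ℤ × ℤ × ℤ) × (ℤ × ℤ × ℤ × ℤ × ℤ × ℤ)) :=
  [((0, 0, 0, 0, 0, 0), (0, 0, 0, 0, 0, 0)), ((0, 0, 1, 0, 0, 0), (0, 0, 0, 0, 0, 0)), ((0, 0, 0, 0, 0, 0), (0, 0, 0, 0, 0, 0)), ((0, 0, 0, 0, 0, 0), (0, 0, 1, 0, 0, 0)), ((0, 0, 0, 0, 0, 0), (0, 0, 0, 0, 0, 0)), ((0, 0, 0, 0, 0, 0), (0, 0, 0, 0, 0, 0)), ((0, 0, 0, 0, 0, 0), (0, 0, 0, 0, 0, 0)), ((0, 0, 0, 0, 0, 0), (0, 0, 0, 0, 0, 0)),
    ((0, 0, 0, 0, 0, 0), (0, 0, 0, 0, 0, 0)), ((0, 0, 0, 0, 0, 0), (0, 0, 0, 0, 0, 0)), ((0, 0, 0, 0, 0, 0), (0, 1, (-1), 0, 0, 0)), ((0, 0, 0, 0, 0, 0), (0, 0, 0, 0, 0, 0)), ((0, 0, 0, 0, 0, 0), (0, 0, 1, 0, 0, 0)), ((0, 0, 0, 0, 0, 0), (0, 0, 0, 0, 0, 0)), ((0, 0, 0, 0, 0, 0), ((-1), 0, 2, 0, 0, 0)), ((0, 0, 0, 0, 0, 0), (0, 0, 0, 0, 0, 0)),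
    ((1, 0, (-1), 0, 0, 0), (0, 0, 0, 0, 0, 0)), ((0, 0, 0, 0, 0, 0), (0, 0, 0, 0, 0, 0)), ((0, 0, 0, 0, 0, 0), (0, 0, 0, 0, 0, 0)), ((0, 0, 0, 0, 0, 0), (0, 0, 0, 0, 0, 0)), ((0, 0, 1, 0, 0, 0), (0, 0, 0, 0, 0, 0)), ((1, 0, (-1), 0, 0, 0), (0, 0, 0, 0, 0, 0)), ((0, (-1), 2, 0, 0, 0), (0, 0, 0, 0, 0, 0)), ((0, 0, 0, 0, 0, 0), (0, 0, 0, 0, 0, 0)),
    ((0, 0, 1, 0, 0, 0), (0, 0, 0, 0, 0, 0)), ((0, 0, 0, 0, 0, 0), (0, 0, 0, 0, 0, 0)), ((0, 0, 0, 0, 0, 0), (1, 1, (-2), 0, 2, 0)), ((0, 0, 0, 0, 0, 0), (0, 0, 0, 0, 0, 0)), ((0, 0, 0, 0, 0, 0), (0, 0, 0, 0, 0, 0)), ((1, 0, (-1), 0, 0, 0), (0, 0, 0, 0, 0, 0)), ((0, 0, 0, 0, 0, 0), (0, 0, 0, 0, 0, 0)), ((0, 0, 0, 0, 0, 0), (0, 0, 0, 0, 0, 0)),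
    ((0, 0, 0, 0, 0, 0), (0, 0, 0, 0, 0, 0)), ((0, 0, 1, 0, 0, 0), (0, 0, 0, 0, 0, 0)), ((0, 0, 0, 0, 0, 0), (0, 0, 0, 0, 0, 0)), ((0, 0, 0, 0, 0, 0), (0, 0, 1, 0, 0, 0)), ((0, 0, 0, 0, 0, 0), (0, 0, 0, 0, 0, 0)), ((0, 0, 0, 0, 0, 0), ((-1), (-1), 3, 0, 0, 0)), ((0, 0, 0, 0, 0, 0), (0, 0, 0, 0, 0, 0)), ((0, 0, 0, 0, 0, 0), (0, 0, 0, 0, 0, 0)),
    ((0, 0, 0, 0, 0, 0), (0, 0, 1, 0, 0, 0)), ((0, 0, 0, 0, 0, 0), (0, 0, 0, 0, 0, 0)), ((0, 0, 0, 0, 0, 0), ((-1), 0, 2, 0, 0, 0)), ((0, 0, 0, 0, 0, 0), (0, 0, 0, 0, 0, 0)), ((1, 0, (-1), 0, 0, 0), (0, 0, 0, 0, 0, 0)), ((0, 0, 0, 0, 0, 0), (0, 0, 0, 0, 0, 0)), ((0, 0, 0, 0, 0, 0), (0, 0, 0, 0, 0, 0)), ((0, 0, 0, 0, 0, 0), (0, 0, 0, 0, 0, 0)),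
    ((0, 0, 1, 0, 0, 0), (0, 0, 0, 0, 0, 0)), ((0, 0, 0, 0, 0, 0), (0, 0, 0, 0, 0, 0)), ((0, 0, 0, 0, 0, 0), (0, 0, 0, 0, 0, 0)), ((0, 0, 0, 0, 0, 0), (0, 0, 0, 0, 0, 0)), ((1, 0, (-1), 0, 0, 0), (0, 0, 0, 0, 0, 0)), ((0, (-1), 2, 0, 0, 0), (0, 0, 0, 0, 0, 0)), ((0, 0, 0, 0, 0, 0), (0, 0, 0, 0, 0, 0)), ((0, 0, 1, 0, 0, 0), (0, 0, 0, 0, 0, 0)),
    ((0, 0, 0, 0, 0, 0), (0, 0, 0, 0, 0, 0)), ((0, 0, 0, 0, 0, 0), (0, 1, (-1), 0, 0, 0)), ((1, 0, (-1), 0, 0, 0), (0, 0, 0, 0, 0, 0)), (((-1), (-1), 3, 0, (-2), 0), (0, 0, 0, 0, 0, 0)), ((0, 0, 0, 0, 0, 0), (0, 0, 0, 0, 0, 0)), ((0, 0, 1, 0, 0, 0), (0, 0, 0, 0, 0, 0)), ((0, 0, 0, 0, 0, 0), (0, 0, 0, 0, 0, 0)), ((0, 0, 0, 0, 0, 0), (0, 0, 1, 0, 0, 0))]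

/-- data -/
def mValPart2 : List ((ℤ × ℤ × ℤ × ℤ × ℤ × ℤ) × (ℤ × ℤ × ℤ × ℤ × ℤ × ℤ)) :=
  [((0, 0, 0, 0, 0, 0), (0, 0, 0, 0, 0, 0)), ((0, 0, 0, 0, 0, 0), (0, 0, 0, 0, 0, 0)), ((0, 0, 0, 0, 0, 0), (0, 0, 0, 0, 0, 0)), ((0, 0, 0, 0, 0, 0), (0, 0, 0, 0, 0, 0)), ((0, 0, 0, 0, 0, 0), (0, 0, 0, 0, 0, 0)), ((0, 0, 0, 0, 0, 0), (0, 0, 0, 0, 0, 0)), ((0, 0, 0, 0, 0, 0), (0, 1, (-1), 0, 0, 0)), ((0, 0, 0, 0, 0, 0), (0, 0, 0, 0, 0, 0)),
    ((0, 0, 0, 0, 0, 0), (0, 0, 1, 0, 0, 0)), ((0, 0, 0, 0, 1, 0), (0, 0, 0, 0, 0, 0)), ((0, 0, 0, 0, 0, 0), ((-1), 0, 2, 0, 0, 0)), ((0, 0, 0, 0, 0, 0), (0, 0, 0, 0, 0, 0)), ((1, 1, (-2), 0, 0, 0), (0, 0, 0, 0, 0, 0)), ((0, 0, 0, 0, 0, 0), (0, 0, 0, 0, 0, 0)), ((0, 0, 0, 0, 0, 0), (0, 0, 0, 0, 0, 0)), ((0, 0, 0, 0, 0, 0), (0, 0, 0, 0, 0, 0)),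
    ((0, 0, 0, 0, 0, 0), (0, 0, 0, 0, 0, 0)), ((1, 0, (-1), 0, 0, 0), (0, 0, 0, 0, 0, 0)), ((0, 0, 0, 0, 0, 0), (0, 0, 0, 0, 0, 0)), ((0, 0, 0, 0, 0, 0), (0, 0, 0, 0, 0, 0)), ((0, 0, 0, 0, 0, 0), (1, 0, (-1), 0, 1, 0)), ((0, 0, 1, 0, 0, 0), (0, 0, 0, 0, 0, 0)), ((0, 0, 0, 0, 0, 0), (0, 0, 0, 0, 0, 0)), ((0, 0, 0, 0, 0, 0), (0, 0, 1, 0, 0, 0)),
    ((0, 0, 0, 0, 0, 0), (0, 0, 0, 0, 0, 0)), ((0, 0, 0, 0, 0, 0), ((-1), (-1), 3, 0, 0, 0)), ((0, 0, 0, 0, 0, 0), (0, 0, 0, 0, 0, 0)), ((0, 0, 0, 0, 0, 0), (0, 0, 0, 0, 0, 0)), ((0, 0, 0, 0, 0, 0), (0, 0, 1, 0, 0, 0)), ((0, 0, 0, 0, 0, 0), (0, 0, 0, 0, 0, 0)), ((0, 0, 0, 0, 0, 0), ((-1), 0, 2, 0, 0, 0)), ((0, 0, 0, 0, 0, 0), (0, 0, 0, 0, 0, 0)),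
    ((1, 0, (-1), 0, 0, 0), (0, 0, 0, 0, 0, 0)), ((0, 0, 0, 0, 0, 0), (0, 0, 0, 0, 0, 0)), ((0, 0, 0, 0, 0, 0), (0, 0, 0, 0, 0, 0)), ((0, 0, 0, 0, 0, 0), (0, 0, 0, 0, 0, 0)), ((0, 0, 1, 0, 0, 0), (0, 0, 0, 0, 0, 0)), ((0, 0, 0, 0, 0, 0), (0, 0, 0, 0, 0, 0)), ((0, 0, 0, 0, 0, 0), (0, 0, 0, 0, 0, 0)), ((0, 0, 0, 0, 0, 0), (0, 0, 0, 0, 0, 0)),
    ((0, 0, 0, 0, 0, 0), (0, 0, 0, 0, 0, 0)), ((0, 0, 0, 0, 0, 0), (0, 0, 0, 0, 0, 0)), ((0, 0, 0, 0, 0, 0), (0, 1, (-1), 0, 0, 0)), ((0, 0, 0, 0, 0, 0), (0, 0, 1, 0, 0, 0)), ((0, 0, 0, 0, 0, 0), (0, 0, 0, 0, 0, 0)), ((0, 0, 0, 0, 0, 0), (0, 0, 0, 0, 0, 0)), ((0, 0, 0, 0, 0, 0), (0, 0, 0, 0, 0, 0)), ((0, 0, 0, 0, 0, 0), (0, 0, 0, 0, 0, 0)),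
    ((0, 0, 0, 0, 0, 0), (0, 0, 0, 0, 0, 0)), ((0, 0, 0, 0, 0, 0), (0, 0, 0, 0, 0, 0)), ((0, 0, 0, 0, 0, 0), (0, 1, (-1), 0, 0, 0)), ((0, 0, 0, 0, 0, 0), (0, 0, 0, 0, 0, 0)), ((0, 0, 0, 0, 0, 0), (0, 0, 1, 0, 0, 0)), ((0, 0, 0, 0, 1, 0), (0, 0, 0, 0, 0, 0)), ((0, 0, 0, 0, 0, 0), ((-1), 0, 2, 0, 0, 0)), ((0, 0, 0, 0, 0, 0), (0, 0, 0, 0, 0, 0)),
    ((1, 1, (-2), 0, 0, 0), (0, 0, 0, 0, 0, 0)), ((0, 0, 0, 0, 0, 0), (0, 0, 0, 0, 0, 0)), ((0, 0, 0, 0, 0, 0), (0, 0, 0, 0, 0, 0)), ((1, 0, (-1), 0, 0, 0), (0, 0, 0, 0, 0, 0)), ((0, (-1), 2, 0, 0, 0), (0, 0, 0, 0, 0, 0)), ((0, 0, 0, 0, 0, 0), (0, 0, 0, 0, 0, 0)), ((0, 0, 1, 0, 0, 0), (0, 0, 0, 0, 0, 0)), ((0, 0, 0, 0, 0, 0), (0, 0, 0, 0, 0, 0))]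

/-- data -/
def mValPart3 : List ((ℤ × ℤ × ℤ × ℤ × ℤ × ℤ) × (ℤ × ℤ × ℤ × ℤ × ℤ × ℤ)) :=
  [((0, 0, 0, 0, 0, 0), (1, 1, (-2), 0, 2, 0)), ((0, 0, 0, 0, 0, 0), (0, 0, 0, 0, 0, 0)), ((0, 0, 0, 0, 0, 0), (0, 0, 0, 0, 0, 0)), ((1, 0, (-1), 0, 0, 0), (0, 0, 0, 0, 0, 0)), ((0, 0, 0, 0, 0, 0), (0, 0, 0, 0, 0, 0)), ((0, 0, 0, 0, 0, 0), (0, 0, 0, 0, 0, 0)), ((0, 0, 0, 0, 0, 0), (0, 0, 0, 0, 0, 0)), ((0, 0, 1, 0, 0, 0), (0, 0, 0, 0, 0, 0)),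
    ((0, 0, 0, 0, 0, 0), (0, 0, 0, 0, 0, 0)), ((0, 0, 0, 0, 0, 0), (0, 0, 0, 0, 0, 0)), ((0, 0, 0, 0, 0, 0), (0, 0, 0, 0, 0, 0)), ((1, 0, (-1), 0, 0, 0), (0, 0, 0, 0, 0, 0)), ((0, 0, 0, 0, 0, 0), (0, 0, 0, 0, 0, 0)), ((0, 0, 0, 0, 0, 0), (0, 0, 0, 0, 0, 0)), ((0, 0, 0, 0, 0, 0), (0, 0, 0, 0, 1, 0)), ((0, 0, 1, 0, 0, 0), (0, 0, 0, 0, 0, 0)),
    ((0, 0, 0, 0, 0, 0), (0, 0, 0, 0, 0, 0)), ((0, 0, 0, 0, 0, 0), (0, 0, 0, 0, 0, 0)), ((0, 0, 0, 0, 0, 0), (0, 0, 0, 0, 0, 0)), ((1, 0, (-1), 0, 0, 0), (0, 0, 0, 0, 0, 0)), ((0, (-1), 2, 0, 0, 0), (0, 0, 0, 0, 0, 0)), ((0, 0, 0, 0, 0, 0), (0, 0, 0, 0, 0, 0)), ((0, 0, 1, 0, 0, 0), (0, 0, 0, 0, 0, 0)), ((0, 0, 0, 0, 0, 0), (0, 0, 0, 0, 0, 0)),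
    ((0, 0, 0, 0, 0, 0), (0, 1, (-1), 0, 0, 0)), ((1, 0, (-1), 0, 0, 0), (0, 0, 0, 0, 0, 0)), (((-1), (-1), 3, 0, (-2), 0), (0, 0, 0, 0, 0, 0)), ((0, 0, 0, 0, 0, 0), (0, 0, 0, 0, 0, 0)), ((0, 0, 1, 0, 0, 0), (0, 0, 0, 0, 0, 0)), ((0, 0, 0, 0, 0, 0), (0, 0, 0, 0, 0, 0)), ((0, 0, 0, 0, 0, 0), (0, 0, 1, 0, 0, 0)), ((0, 0, 0, 0, 0, 0), (0, 0, 0, 0, 0, 0)),
    ((0, 0, 0, 0, 0, 0), (0, 0, 0, 0, 0, 0)), ((0, 0, 0, 0, 0, 0), (0, 0, 0, 0, 0, 0)), ((0, 0, 0, 0, 0, 0), (0, 0, 0, 0, 0, 0)), ((0, 0, 0, 0, 0, 0), (0, 0, 0, 0, 0, 0)), ((0, 0, 0, 0, 0, 0), (0, 1, (-1), 0, 0, 0)), ((0, 0, 0, 0, 0, 0), (0, 0, 0, 0, 0, 0)), ((0, 0, 0, 0, 0, 0), (0, 0, 1, 0, 0, 0)), ((0, 0, 0, 0, 1, 0), (0, 0, 0, 0, 0, 0)),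
    ((0, 0, 0, 0, 0, 0), ((-1), 0, 2, 0, 0, 0)), ((0, 0, 0, 0, 0, 0), (0, 0, 0, 0, 0, 0)), ((0, 0, 0, 0, 0, 0), (0, 0, 1, 0, 0, 0)), ((0, 0, 0, 0, 0, 0), (0, 0, 0, 0, 0, 0)), ((0, 0, 0, 0, 0, 0), ((-1), (-1), 3, 0, 0, 0)), ((0, 0, 0, 0, 0, 0), (0, 0, 0, 0, 0, 0)), ((0, 0, 0, 0, 0, 0), (0, 0, 0, 0, 0, 0)), ((0, 0, 0, 0, 0, 0), (0, 0, 1, 0, 0, 0)),
    ((0, 0, 0, 0, 0, 0), (0, 0, 0, 0, 0, 0)), ((0, 0, 0, 0, 0, 0), ((-1), 0, 2, 0, 0, 0)), ((0, 0, 0, 0, 0, 0), (0, 0, 0, 0, 0, 0)), ((1, 0, (-1), 0, 0, 0), (0, 0, 0, 0, 0, 0)), ((0, 0, 0, 0, 0, 0), (0, 0, 0, 0, 0, 0)), ((0, 0, 0, 0, 0, 0), (1, 1, (-3), 0, (-1), 1)), ((0, 0, 1, 0, 0, 0), (0, 0, 0, 0, 0, 0)), ((0, 0, 0, 0, 0, 0), (0, 0, 0, 0, 0, 0)),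
    ((0, 0, 0, 0, 0, 0), (0, 0, 0, 0, 0, 0)), ((0, 0, 0, 0, 0, 0), (1, 1, (-3), 0, 2, 1)), ((0, 0, 0, 0, 0, 0), (0, 0, 0, 0, 0, 0)), ((0, 0, 0, 0, 0, 0), (0, 0, 0, 0, 0, 0)), ((0, 0, 0, 0, 0, 0), (0, 1, (-1), 0, 0, 0)), ((0, 0, 0, 0, 0, 0), (0, 0, 1, 0, 0, 0)), ((0, 0, 0, 0, 0, 0), (0, 0, 0, 0, 0, 0)), ((0, 0, 0, 0, 0, 0), ((-1), (-1), 3, 0, 1, 0))]

/-- data -/
def mValPart4 : List ((ℤ × ℤ × ℤ × ℤ × ℤ × ℤ) × (ℤ × ℤ × ℤ × ℤ × ℤ × ℤ)) :=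
  [((0, 0, 0, 0, 0, 0), (0, 0, 0, 0, 0, 0)), ((0, 0, 0, 0, 0, 0), (0, 0, 0, 0, 0, 0)), ((0, 0, 0, 0, 0, 0), (0, 0, 0, 0, 0, 1)), ((0, 0, 0, 0, 0, 0), (0, 0, 0, 0, 0, 0)), ((0, 0, 1, 0, 1, 0), (0, 1, (-1), 0, 0, 0)), ((0, 0, 0, 0, 0, 0), (0, 0, 0, 0, 0, 0)), ((0, 0, 0, 0, 0, 0), (0, 0, 1, 0, 0, 0)), ((1, 0, (-1), 0, 1, 0), (0, 0, 0, 0, 0, 0)),
    ((0, 0, 0, 0, 0, 0), ((-1), 0, 2, 0, 0, 0)), ((0, 0, 0, 0, 0, 0), (0, 0, 0, 0, 0, 0)), ((1, 1, (-2), 0, 0, 0), (0, 0, 0, 0, 0, 0)), ((0, 0, 0, 0, 0, 0), (0, 0, 0, 0, 0, 0)), ((0, 0, 0, 0, 0, 0), (0, 0, 0, 0, 0, 0)), ((1, 0, (-1), 0, 0, 0), (0, 0, 0, 0, 0, 0)), ((0, (-1), 2, 0, 0, 0), (0, 0, 0, 0, 0, 0)), ((0, 0, 0, 0, 0, 0), (0, 0, 0, 0, 0, 0)),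
    ((0, 0, 1, 0, 0, 0), (0, 0, 0, 0, 0, 0)), ((0, 0, 0, 0, 0, 0), (0, 0, 0, 0, 0, 0)), ((0, 0, 0, 0, 0, 0), (1, 1, (-2), 0, 2, 0)), ((1, 0, (-1), 0, 0, 0), (0, 0, 0, 0, 0, 0)), ((0, 0, 0, 0, 0, 0), (0, 0, 0, 0, 0, 0)), ((0, 0, 0, 0, 0, 0), (0, 0, 0, 0, 0, 0)), ((0, 0, 1, 0, 0, 0), (0, 0, 0, 0, 0, 0)), ((0, 0, 0, 0, 0, 0), (0, 0, 0, 0, 0, 0)),
    ((0, 0, 0, 0, 0, 0), (0, 0, 0, 0, 0, 0)), ((0, 0, 1, 0, 0, (-1)), (0, 0, 0, 0, 0, 0)), ((0, 0, 0, 0, 0, 0), (0, 0, 0, 0, 0, 0)), ((1, 0, (-1), 0, 0, 0), (0, 0, 0, 0, 0, 1)), ((0, (-1), 2, 0, 0, 0), (0, 0, 0, 0, 0, 0)), ((0, 0, 0, 0, 0, 0), (0, 0, 0, 0, 0, 0)), ((0, 0, 1, 0, 0, 0), (0, 0, 0, 0, 0, 0)), ((0, 0, 0, 0, 0, 0), (0, 0, 0, 0, 0, 0)),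
    ((0, 0, 0, 0, 0, 0), (0, 1, (-1), 0, 0, 0)), ((1, 0, (-1), 0, 0, 0), (0, 0, 0, 0, 0, 0)), (((-1), (-1), 3, 0, (-2), 0), (0, 0, 0, 0, 0, 0)), ((0, 0, 0, 0, 0, 0), (0, 0, 0, 0, 0, 0)), ((0, 0, 1, 0, 0, 0), (0, 0, 0, 0, 0, 0)), ((0, 0, 0, 0, 0, 0), (0, 0, 0, 0, 0, 0)), ((0, 0, 0, 0, 0, 0), (0, 0, 1, 0, 0, 0)), ((0, 0, 0, 0, 0, 0), (0, 0, 0, 0, 0, 0)),
    ((0, 0, 0, 0, 0, 0), (0, 0, 0, 0, 0, 0)), ((0, 0, 0, 0, 0, 0), (0, 0, 0, 0, 0, 0)), ((0, 0, 0, 0, 0, 0), (0, 0, 0, 0, 0, 0)), ((0, 0, 0, 0, 0, 0), (0, 0, 0, 0, 0, 0)), ((0, 0, 0, 0, 0, 0), (0, 1, (-1), 0, 0, 0)), ((0, 0, 0, 0, 0, 0), (0, 0, 0, 0, 0, 0)), ((0, 0, 0, 0, 0, 0), (0, 0, 1, 0, 0, 0)), (((-1), (-1), 3, 0, 1, 0), (0, 0, 0, 0, 0, 0)),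
    ((0, 0, 0, 0, 0, 0), ((-1), 0, 2, 0, 0, 0)), ((0, 0, 0, 0, 0, 0), (0, 0, 0, 0, 0, 0)), ((0, 0, 0, 0, 0, 0), (0, 0, 0, 0, 0, 0)), ((0, 0, 0, 0, 0, 0), (0, 0, 0, 0, 0, 0)), ((1, 0, (-1), 0, 0, 0), (0, 0, 1, 0, 0, (-1))), ((0, 0, 0, 0, 0, 0), (0, 0, 0, 0, 0, 0)), ((0, 0, 0, 0, 0, 0), (0, 0, 0, 0, 0, 0)), ((0, 0, 0, 0, 0, 0), (1, 0, (-1), 0, 1, 0)),
    ((0, 0, 1, 0, 0, 0), (0, 0, 0, 0, 0, 0)), ((1, 1, (-1), 0, (-2), (-3)), (0, 0, 0, 0, 0, 0)), ((0, 0, 0, 0, 0, 0), (0, 0, 1, 0, 0, 0)), ((0, 0, 0, 0, 0, 0), (0, 0, 0, 0, 0, 0)), ((0, 0, 0, 0, 0, 0), ((-1), (-1), 3, 0, 0, 0)), ((0, 0, 0, 0, 0, 0), (0, 0, 0, 0, 0, 0)), ((0, 0, 0, 0, 0, 0), ((-1), 0, 2, 0, 0, (-1))), ((0, 0, 0, 0, 0, 1), (0, 0, 1, 0, 0, 0))]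

/-- data -/
def mValPart5 : List ((ℤ × ℤ × ℤ × ℤ × ℤ × ℤ) × (ℤ × ℤ × ℤ × ℤ × ℤ × ℤ)) :=
  [((0, 0, 0, 0, 0, 0), (0, 0, 0, 0, 0, 0)), ((0, 0, 0, 0, 0, 0), ((-1), 0, 2, 0, 0, 0)), ((0, 0, 0, 0, 0, 0), (0, 1, (-2), 0, (-2), 1)), ((1, 0, (-1), 0, 0, 0), (0, 0, 0, 0, 0, 0)), ((0, 0, 0, 0, 0, 0), (0, 0, 0, 0, 0, 0)), ((0, 0, 0, 0, 0, 0), (0, 0, 0, 0, 0, 0)), ((0, 0, 0, 0, 0, 0), (0, 0, 0, 0, 0, 0)), ((0, 0, 1, 0, 0, 0), (0, 0, 0, 0, 0, 0)),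
    ((0, 0, 0, 0, 0, 0), (0, 0, 1, 0, 0, 0)), ((0, 0, 0, 0, 0, 0), (0, 0, 0, 0, 0, 0)), ((0, 0, 0, 0, 0, 0), ((-2), (-1), 4, 0, (-2), 0)), ((0, 0, 0, 0, 0, 0), (0, 0, 0, 0, 0, 0)), ((0, 0, 0, 0, 0, 0), (0, 0, 0, 0, 0, 0)), ((0, 0, 0, 0, 0, 0), (0, 0, 1, 0, 0, 0)), ((0, 0, 0, 0, 1, 0), (0, 0, 0, 0, 0, 0)), ((0, 0, 0, 0, 0, 0), ((-1), 0, 2, 0, 0, 0)),
    ((0, 0, 0, 0, 0, 0), (0, 0, 0, 0, 0, 0)), ((1, 1, (-2), 0, 0, 0), (0, 0, 0, 0, 0, 0)), ((0, 0, 0, 0, 0, 0), (0, 0, 0, 0, 0, 0)), ((1, 0, (-1), 0, 0, 0), (0, 0, 0, 0, 0, 0)), ((0, (-1), 2, 0, 0, 0), (0, 0, 0, 0, 0, 0)), ((0, 0, 0, 0, 0, 0), (0, 0, 0, 0, 0, 0)), ((0, 0, 1, 0, 0, 0), ((-1), 0, 0, 0, 0, 3)), ((0, 0, 0, 0, 0, 0), (0, 0, 0, 0, 0, 0)),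
    ((0, 0, 0, 0, 0, 0), (1, 1, (-2), 0, 2, 0)), ((0, 0, 0, 0, 0, 0), (0, 0, 0, 0, 0, 0)), ((0, 0, 0, 0, 0, 0), (0, 0, 0, 0, 0, 0)), ((1, 0, (-1), 0, 0, 0), (0, 0, 1, 0, 0, (-1))), ((0, 0, 0, 0, 2, 0), (0, 0, 0, 0, 0, 0)), ((0, 0, 0, 0, 0, 0), (0, 1, (-1), 0, 1, 0)), ((0, 0, 0, 0, (-3), 0), (0, 0, 0, 0, 0, 0)), ((0, 0, 1, 0, 0, 0), (0, 0, 0, 0, 0, 0)),
    ((0, 0, 0, 0, 0, 0), (0, 0, 0, 0, 0, 0)), ((0, 0, 0, 0, 0, 0), (0, 0, 0, 0, 0, 0)), ((0, 0, 0, 0, 0, 0), (0, 0, 0, 0, 0, 0)), ((1, 0, (-1), 0, 0, 0), (0, 0, 0, 0, 0, 0)), ((0, 0, 0, 0, 0, 0), ((-2), (-1), 3, 0, 1, 3)), ((0, 0, 0, 0, 0, 0), (0, 0, 0, 0, 0, 0)), ((0, 0, 0, 0, 0, 0), ((-1), 0, 2, 0, 1, 0)), ((0, 0, 1, 0, 0, 0), (0, 0, 0, 0, 0, 0)),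
    ((0, 0, 0, 0, 0, 0), (0, 0, 0, 0, 0, 0)), ((0, 0, 2, 0, 1, (-4)), (0, 0, 0, 0, 0, 0)), ((0, 0, 0, 0, 0, 0), (0, 0, 0, 0, 0, 0)), ((1, 0, (-1), 0, (-1), 0), (0, 0, 0, 0, 0, 0)), ((0, (-1), 2, 0, 0, 0), (0, 0, 0, 0, 0, 0)), ((0, 0, 0, 0, 0, 0), (0, 0, 0, 0, 0, 0)), ((0, 0, 0, 0, 0, 0), (0, 1, (-1), 0, 0, 0)), ((1, 0, (-1), 0, 0, 0), (0, 0, 0, 0, 0, 0)),
    (((-1), (-1), 3, 0, (-2), 0), (0, 0, 0, 0, 0, 0)), ((0, 0, 0, 0, 0, 0), (0, 0, 0, 0, 0, 0)), ((0, 0, 1, 0, 0, 0), (0, 0, 0, 0, 0, 0)), ((0, 0, 0, 0, 0, 0), (0, 0, 0, 0, 0, 0)), ((0, 0, 0, 0, 0, 0), (0, 0, 1, 0, 0, 0)), ((0, 0, 0, 0, 0, 0), (0, 0, 0, 0, 0, 0)), ((1, 1, (-3), 0, (-3), 1), (0, 0, 0, 0, 0, 0)), ((0, 0, 0, 0, 0, 0), (0, 0, 0, 0, 0, 0)),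
    ((0, 0, 0, 0, 0, 0), (0, 0, 0, 0, 0, 0)), ((0, 0, 0, 0, 0, 0), (0, 0, 0, 0, 0, 0)), ((0, 0, 0, 0, 0, 0), (0, 1, (-1), 0, 0, 0)), ((0, 0, 0, 0, 0, 0), (0, 0, 0, 0, 0, 0)), ((0, 0, 0, 0, 0, 0), (0, 0, 0, 0, 0, 0)), ((0, 0, 0, 0, 0, 0), (1, 1, (-3), 0, 0, 1)), ((0, 0, 0, 0, 0, 0), (0, 0, 2, 0, 0, (-3))), ((0, 0, 0, 0, 0, 0), (0, 0, 0, 0, 0, 0))]

/-- data -/
def mValPart6 : List ((ℤ × ℤ × ℤ × ℤ × ℤ × ℤ) × (ℤ × ℤ × ℤ × ℤ × ℤ × ℤ)) :=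
  [((0, 0, 0, 0, 0, 0), (0, 1, (-1), 0, 0, 0)), ((0, 0, 0, 0, 0, 0), (0, 0, 1, 0, 0, 0)), (((-1), (-2), 3, 0, 4, 3), (0, 0, 0, 0, 0, 0)), ((0, 0, 0, 0, 0, 0), ((-1), (-1), 3, 0, 1, 0)), ((1, 0, 0, 0, 0, (-1)), (0, 0, 0, 0, 0, 0)), ((0, 0, 0, 0, 0, 0), (0, 0, 0, 0, 0, 0)), ((0, 0, 0, 0, 0, 0), (0, 0, 0, 0, 0, 1)), (((-1), (-2), 5, 0, 0, (-1)), (0, 0, 0, 0, 0, 0)),
    ((0, 0, 1, 0, 1, 0), (0, 1, (-1), 0, 0, 0)), ((0, 0, 0, 0, 0, 0), (0, 0, 0, 0, 0, 0)), ((0, 0, 0, 0, 0, 0), ((-1), 0, 2, 0, 0, 0)), ((0, 0, 0, 0, 0, 0), (0, 0, 0, 0, 0, 0)), ((2, 1, (-3), 0, 2, 0), (0, 0, 0, 0, 0, 0)), ((0, 0, 0, 0, 0, 0), (0, 0, 0, 0, 0, 0)), ((1, 0, (-1), 0, 0, 0), (0, 0, 0, 0, 0, 0)), ((0, (-1), 2, 0, 0, 0), (0, 0, 0, 0, 0, 0)),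
    ((0, 0, 0, 0, 0, 0), (0, 0, 0, 0, 0, 0)), ((0, 0, 1, 0, 0, 0), (0, 0, 0, 0, 0, 0)), ((0, 0, 0, 0, 0, 0), (0, 0, 0, 0, 0, 0)), ((1, 0, (-1), 0, 0, 0), (0, 0, 0, 0, 0, 0)), ((0, 0, 0, 0, 0, 0), (0, 0, 0, 0, 0, 0)), ((0, 0, 0, 0, 0, 0), (0, 0, 0, 0, 0, 0)), ((0, 0, 1, 0, 0, 0), (0, 0, 0, 0, 0, 0)), ((0, 0, 0, 0, 0, 0), (0, 0, 0, 0, 0, 0)),
    ((1, 0, 0, 0, 0, (-1)), (0, 0, 0, 0, 0, 0)), ((0, (-1), 3, 0, 3, (-1)), (0, 0, 1, 0, 0, (-1))), ((0, 0, 0, 0, 0, 0), (0, 0, 0, 0, 0, 0)), ((1, 0, (-1), 0, 0, 0), (0, 0, 0, 0, 3, 1)), ((0, 0, 0, 0, 0, 0), (0, 0, 0, 0, 0, 0)), ((0, 0, 1, 0, 0, 0), (0, 0, 0, 0, 0, 0)), ((0, 0, 0, 0, 0, 0), (0, 0, 0, 0, 0, 0)), ((0, 0, 0, 0, 0, 0), (0, 1, (-1), 0, 0, 0)),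
    ((1, 0, (-1), 0, 0, 0), (0, 0, 0, 0, 0, 0)), ((1, 0, (-1), 0, (-1), 0), (0, 0, 1, 0, (-1), (-1))), ((0, 0, 1, 0, 0, 0), (0, 0, 0, 0, 0, 0)), ((0, 0, 0, 0, 0, 0), (0, 0, 1, 0, 0, 0)), ((1, 0, (-1), 0, 3, 0), (0, 0, 0, 0, 0, 0)), ((0, 0, 0, 0, 0, 0), (0, 0, 0, 0, 0, 0)), ((0, 0, 0, 0, 0, 0), (0, 0, 0, 0, 0, 0)), ((0, 0, 0, 0, 0, 0), (0, 0, 0, 0, 0, 0)),
    ((0, 0, 0, 0, 0, 0), (0, 0, 0, 0, 0, 0)), ((0, 0, 0, 0, 0, 0), (0, 1, (-1), 0, 0, 0)), ((2, 1, (-2), 0, 1, (-3)), (0, 0, 0, 0, 0, 0)), ((0, 0, 0, 0, 0, 0), (0, 0, 1, 0, 0, 0)), (((-1), (-1), 3, 0, 1, 0), (0, 0, 0, 0, 0, 0)), ((0, 0, 0, 0, 0, 0), ((-1), 0, 2, 0, 0, 0)), ((0, 0, 0, 0, 0, 0), (0, 0, 0, 0, 0, 0)), ((0, 0, 0, 0, 0, 0), (0, 0, 0, 0, 0, 0)),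
    ((0, 0, 0, 0, 0, 0), (0, 0, 0, 0, 0, 0)), ((1, 0, (-1), 0, 0, 0), (0, 0, 1, 0, 0, (-1))), ((0, (-1), 2, 0, (-1), 0), (0, 0, 0, 0, 0, 0)), ((0, 0, 0, 0, 0, 1), (0, 0, 1, 0, (-1), 0)), ((0, 0, 0, 0, 0, 0), (1, 0, (-1), 0, 1, 0)), ((0, 0, 1, 0, 0, 0), (0, 0, 0, 0, 0, 0)), ((2, 1, (-4), 0, 2, 1), (0, 0, 0, 0, 0, 0)), ((0, 0, 0, 0, 0, 0), ((-1), 0, 2, 0, 0, (-1))),
    ((0, 0, 2, 0, 0, (-3)), (0, 0, 1, 0, 0, 0)), ((0, 0, 0, 0, 0, 0), (0, 0, 0, 0, 0, 0)), ((1, 0, (-1), 0, 0, 0), (0, 0, 0, 0, 0, 0)), ((0, 0, 0, 0, 0, 0), (0, 0, 0, 0, 0, 0)), ((0, 0, 0, 0, 0, 0), (0, 0, 0, 0, 0, 0)), ((0, 0, 0, 0, 0, 0), ((-1), (-1), 3, 0, 1, 0)), ((0, 0, 1, 0, 0, 0), (0, 0, 0, 0, 0, 0)), ((1, 0, (-1), 0, 0, 0), (0, 0, 0, 0, 0, 0))]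

/-- data -/
def mValPart7 : List ((ℤ × ℤ × ℤ × ℤ × ℤ × ℤ) × (ℤ × ℤ × ℤ × ℤ × ℤ × ℤ)) :=
  [((0, (-1), 2, 0, 0, 0), (0, 0, 0, 0, 0, 0)), ((0, 0, 1, 0, 0, 0), (0, 0, 1, 0, (-1), (-1))), ((0, 0, 0, 0, 0, 0), ((-1), 0, 2, 0, 0, (-1))), ((0, 0, 0, 0, 0, 0), (1, 1, (-2), 0, 2, 0)), ((0, 0, 0, 0, 0, 0), (0, 0, 0, 0, 0, 0)), ((1, 0, (-1), 0, 0, 0), (0, 0, 1, 0, 0, (-1))), ((0, 0, 0, 0, 2, 0), (0, 0, 0, 0, 0, 0)), ((0, 0, 0, 0, 0, 0), (0, 1, (-1), 0, 1, 0)),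
    ((0, 0, (-2), 0, (-2), 4), (0, 0, 0, 0, 0, 0)), ((0, 0, 1, 0, 0, 0), (0, 0, 0, 0, 0, 0)), ((0, 0, 0, 0, 0, 0), (0, 0, 0, 0, 0, 0)), ((0, 0, 0, 0, 0, 0), (0, 0, 0, 0, 0, 0)), ((0, 0, 0, 0, 0, 1), (0, 0, 0, 0, 0, 0)), ((1, 0, (-1), 0, 0, 0), (0, 0, 0, 0, 0, 0)), ((0, 0, 0, 0, 0, 0), (4, 4, (-7), 0, 3, (-7))), ((0, 0, 0, 0, 0, 0), (0, 0, 0, 0, 0, 0)),
    ((0, 0, 0, 0, 0, 0), (0, 0, 1, 0, 1, 0)), ((0, 0, 1, 0, 0, 0), (0, 0, 0, 0, 0, 0)), ((0, 0, 0, 0, 0, 0), (0, 0, 0, 0, 0, 0)), ((1, 0, (-1), 0, (-1), 0), (0, 0, 0, 0, 0, 0)), ((0, 0, 0, 0, 0, 0), (0, 0, 0, 0, 0, 0)), ((1, 0, (-1), 0, (-1), 0), (0, 0, 0, 0, 0, 0)), ((0, (-1), 2, 0, 0, 0), (0, 0, 0, 0, 0, 0)), ((0, 0, 0, 0, 0, 0), (0, 0, 0, 0, 0, 0)),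
    ((0, 0, 0, 0, 0, 0), (0, 1, (-1), 0, 0, 0)), ((1, 0, (-1), 0, 0, 0), (0, 0, 0, 0, 0, 0)), (((-1), (-1), 3, 0, (-2), 0), (0, 0, 0, 0, 0, 0)), ((0, 0, 0, 0, 0, 0), (0, 0, 0, 0, 0, 0)), ((0, 0, 1, 0, 0, 0), (0, 0, 0, 0, 0, 0)), ((0, 0, 0, 0, 0, 0), (0, 0, 0, 0, 0, 0)), ((0, 0, 0, 0, 0, 0), (0, 0, 1, 0, 0, 0)), ((0, 0, 0, 0, 0, 0), (0, 0, 0, 0, 0, 0)),
    ((1, 1, (-1), 0, (-4), (-3)), (0, 0, 0, 0, 0, 0)), ((0, 0, 0, 0, 0, 0), (0, 0, 0, 0, 0, 0)), ((0, 0, 0, 0, 0, 0), (0, 0, 0, 0, 0, 0)), ((0, 0, 0, 0, 0, 0), (0, 0, 0, 0, 0, 0)), ((0, 0, 0, 0, 0, 0), (0, 1, (-1), 0, 0, 0)), ((0, 0, 0, 0, 0, 0), (0, 0, 1, 0, 0, 0)), ((0, 0, 0, 0, 0, 0), (0, 0, 0, 0, 0, 0)), ((0, 0, 0, 0, 0, 0), ((-1), (-1), 3, 0, 0, 0)),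
    ((0, 0, 0, 0, 0, 0), (0, 0, 0, 0, 0, 0)), ((0, 0, 0, 0, 0, 0), (0, 0, 1, 0, 0, 0)), ((0, 0, 0, 0, 0, 0), (0, 0, 0, 0, 0, 0)), ((0, 0, 0, 0, 0, 0), ((-1), 0, 2, 0, 0, 0)), ((0, 0, 1, 0, (-1), (-1)), (0, 0, 0, 0, 0, 0)), ((1, 0, (-1), 0, 0, 0), (0, 0, 0, 0, 0, 0)), ((0, 0, 0, 0, 0, 0), (0, 0, 0, 0, 0, 0)), ((0, 0, 1, 0, 0, 0), (0, 0, 0, 0, 0, 0)),
    ((1, 0, (-1), 0, 0, 1), (0, 0, 0, 0, 0, 0)), ((0, 0, 0, 0, 0, 0), (0, 0, 0, 0, 0, 1)), ((0, 0, 0, 0, 0, 0), (1, 1, (-3), 0, 1, 1)), ((0, 0, 0, 0, 0, 0), (0, 0, 0, 0, 0, 0)), ((0, 0, 0, 0, 0, 0), (0, 0, 0, 0, 0, 0)), ((0, 0, 0, 0, 0, 0), (0, 1, (-1), 0, 0, 0)), ((0, 0, 0, 0, 0, 0), (0, 0, 1, 0, 0, 0)), ((0, 0, 0, 0, 0, 0), ((-1), 0, 1, 0, 0, 1)),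
    ((0, 0, 0, 0, 0, 0), (0, 0, 0, 0, 0, 0)), ((0, 0, 0, 0, 0, 0), (0, 0, 0, 0, 1, 1)), ((0, 0, 0, 0, 0, 0), (0, 0, 0, 0, 0, 0)), ((0, 0, 0, 0, 0, 0), (0, 0, 0, 0, 0, 0)), ((0, 0, 0, 0, 0, 0), (0, 0, 1, 0, 0, 0)), ((1, 0, (-1), 0, 1, 0), (0, 0, 0, 0, 0, 0)), ((0, 0, 0, 0, 0, 0), ((-1), 0, 2, 0, 0, 0)), ((0, 0, 0, 0, 0, 0), (0, 0, 0, 0, 0, 0))]

/-- data -/
def mValPart8 : List ((ℤ × ℤ × ℤ × ℤ × ℤ × ℤ) × (ℤ × ℤ × ℤ × ℤ × ℤ × ℤ)) :=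
  [((1, 1, (-2), 0, 0, 0), (0, 0, 0, 0, 0, 0)), ((0, 0, 0, 0, 0, 0), (4, 4, (-12), 0, 0, 2)), ((0, 0, 0, 0, 0, 0), (0, 0, 0, 0, 0, 0)), ((0, 0, 0, 0, 0, 0), (0, 0, 0, 0, 0, 0)), ((0, 0, 1, 0, 0, (-1)), (0, 0, 0, 0, 0, 0)), ((0, 0, 0, 0, 0, 0), (0, 1, (-2), 0, (-1), 1)), ((0, 0, 0, 0, 0, 0), ((-1), 0, 3, 0, 0, (-3))), ((0, 0, 0, 0, 0, 0), (0, 0, 0, 0, 0, 0)),
    ((0, 0, 0, 0, 0, 0), (0, 1, (-1), 0, 0, 0)), ((0, 0, 0, 0, 0, 0), (0, 0, 1, 0, 0, 0)), (((-2), (-2), 4, 0, 3, 3), (0, 0, 0, 0, 0, 0)), ((0, 0, 0, 0, 0, 0), ((-2), (-1), 4, 0, 1, 0)), ((0, 0, 0, 0, 0, 0), (0, 0, 0, 0, 0, 0)), ((0, 0, 0, 0, 0, 0), ((-1), 0, 1, 0, 0, 1)), (((-2), (-2), 6, 0, 0, (-1)), (0, 0, 0, 0, 0, 0)), (((-1), 0, 2, 0, 1, 0), (0, 1, (-1), 0, 0, 0)),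
    ((0, 0, 0, 0, 0, 0), (0, 0, 0, 0, 0, 0)), ((0, 0, 0, 0, 0, 0), ((-1), 0, 2, 0, 0, 0)), ((0, 0, 0, 0, 0, 0), (0, 0, 0, 0, 0, 0)), ((0, 0, 0, 0, 0, 0), (0, 0, 0, 0, 0, 0)), ((0, 0, 0, 0, 0, 0), (0, 0, 0, 0, 0, 0)), ((1, 0, (-1), 0, 0, 0), ((-1), (-1), 4, 0, 1, (-1))), (((-2), (-2), 6, 0, 2, (-1)), (0, 0, 0, 0, 0, 0)), ((0, 0, 0, 0, 0, 0), (1, 0, (-1), 0, 1, 0)),
    ((0, 0, 1, 0, 0, 0), (0, 0, 0, 0, 0, 0)), ((1, 1, (-3), 0, 0, 1), (0, 0, 0, 0, 0, 0)), ((0, 0, 0, 0, 0, 0), (0, 0, 1, 0, 0, 0)), ((0, 0, 0, 0, 0, 0), (0, 0, 0, 0, 0, 0)), ((0, 0, 0, 0, 0, 0), ((-1), (-1), 3, 0, 0, 0)), ((0, 0, 0, 0, 0, 0), (0, 0, 0, 0, 0, 0)), ((0, 0, 0, 0, 0, 0), (0, 0, 0, 0, 0, 0)), ((0, 0, 0, 0, 0, 0), ((-1), 0, 2, 0, 0, 0)),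
    ((0, 0, 0, 0, 0, 0), (0, 0, 0, 0, 0, 0)), (((-2), (-1), 5, 0, (-2), (-1)), (0, 0, 0, 0, 0, 0)), ((0, 0, 0, 0, 0, 0), (0, 0, 0, 0, 0, 0)), ((0, 0, 1, 0, 0, 0), (0, 0, 0, 0, 0, 0)), ((0, 0, 0, 0, 0, 0), (0, 0, 1, 0, 0, 0)), ((0, 0, 0, 0, 0, 0), (0, 0, 0, 0, 0, 0)), ((0, 0, 0, 0, 0, 0), ((-1), 0, 1, 0, 1, 1)), ((0, 0, 0, 0, 0, 0), (0, 0, 0, 0, 0, 0)),
    (((-8), (-7), 12, 0, 18, 17), (0, 0, 0, 0, 0, 0)), ((0, 0, 0, 0, 0, 0), (0, 0, 1, 0, 0, 0)), ((0, 0, 0, 0, 0, 0), ((-1), 0, 2, 0, 0, 0)), ((0, 0, 0, 0, 0, 0), (0, 0, 0, 0, 0, 0)), ((1, 1, (-2), 0, 0, 0), (0, 0, 0, 0, 0, 0)), ((0, 0, 0, 0, 0, 0), (0, 0, 0, 0, 0, 0)), ((1, 0, (-1), 0, 0, 0), (0, 0, 0, 0, 0, 0)), ((0, (-1), 2, 0, 0, 0), (0, 0, 0, 0, 0, 0)),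
    ((0, 0, 1, 0, 0, 0), ((-1), 0, 0, 0, 0, 3)), ((0, 0, 0, 0, 0, 0), (0, 0, 0, 0, 0, 0)), ((2, 2, (-4), 0, (-3), (-3)), (1, 1, (-2), 0, (-2), 0)), ((0, 0, 0, 0, 0, 0), (0, 0, 0, 0, 0, 0)), ((0, 0, 0, 0, 0, 0), (0, 0, 0, 0, 0, 0)), ((0, 0, 0, 0, 1, 0), (0, 0, 0, 0, 0, 0)), ((0, 0, 1, 0, 0, 0), (0, 0, 0, 0, 0, 0)), ((2, 2, (-6), 0, 0, 1), (0, 0, 0, 0, 0, 0)),
    ((0, 0, 0, 0, 0, 0), (0, 0, 0, 0, 0, 0)), ((0, 0, 0, 0, 0, 0), (0, 0, 0, 0, 0, 0)), ((1, 0, (-1), 0, 0, 0), (0, 0, 0, 0, 0, 0)), ((0, 0, 0, 0, 0, 0), ((-2), (-1), 3, 0, 1, 3)), ((0, 0, 0, 0, 0, 0), (0, 0, 0, 0, 0, 0)), ((0, 0, 0, 0, 0, 0), ((-1), 0, 2, 0, 1, 0)), ((0, 0, 1, 0, 0, 0), (0, 0, 0, 0, 0, 0)), ((0, 0, 0, 0, 0, 0), (1, 1, (-1), 0, (-3), (-3)))]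

/-- data -/
def mValPart9 : List ((ℤ × ℤ × ℤ × ℤ × ℤ × ℤ) × (ℤ × ℤ × ℤ × ℤ × ℤ × ℤ)) :=
  [((0, 0, 0, 0, 0, 0), (0, 0, 0, 0, 0, 0)), ((1, 1, (-2), 0, 1, 0), (1, 2, (-4), 0, (-2), 0)), ((0, (-1), 2, 0, 0, 0), (0, 0, 0, 0, 0, 0)), ((0, 0, 0, 0, 0, 0), (0, 0, 0, 0, 0, 0)), (((-4), (-3), 10, 0, 3, (-1)), (0, 1, (-1), 0, 0, 0)), ((1, 0, (-1), 0, 0, 0), (0, 0, 0, 0, 0, 0)), (((-1), (-1), 3, 0, 2, 0), (0, 0, 0, 0, 0, 0)), ((0, 0, 0, 0, 0, 0), (0, 0, 0, 0, 0, 0)),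
    ((0, 0, 1, 0, 0, 0), (0, 0, 0, 0, 0, 0)), ((0, 0, 0, 0, 0, 0), (0, 0, 0, 0, 0, 0)), ((1, 0, (-1), 0, 0, 0), (0, 0, 0, 0, 0, 0)), ((0, (-1), 2, 0, 0, 0), (0, 0, 0, 0, 0, 0)), ((0, 0, 0, 0, 0, 0), (0, 0, 0, 0, 0, 0)), ((0, 0, 1, 0, 0, 0), (0, 0, 0, 0, 0, 0)), ((0, 0, 0, 0, 0, 0), (0, 0, 0, 0, 0, 0)), ((1, 0, (-1), 0, 0, 0), (1, 0, 0, 0, (-1), (-2))),
    ((0, 0, 0, 0, 0, 0), (0, 0, 0, 0, 0, 0)), ((0, 0, 1, 0, 0, 0), (0, 0, 0, 0, 0, 0)), ((0, 0, 0, 0, 0, 0), (0, 0, 0, 0, 0, 0)), ((1, 0, (-2), 0, 0, 3), (0, 0, 0, 0, 0, 0)), ((0, 0, 0, 0, 0, 0), (0, 0, 0, 0, 0, 0)), ((1, 0, (-1), 0, 0, 0), (0, 0, 0, 0, 3, 1)), ((0, 0, 1, 0, 0, 0), (1, 1, (-2), 0, 1, (-1))), (((-5), (-5), 11, 0, 4, 6), ((-1), (-1), 2, 0, 2, 3)),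
    ((0, 0, 0, 0, 0, 0), (0, 1, (-1), 0, 0, 0)), ((1, 0, (-1), 0, 0, 0), (0, 0, 0, 0, 0, 0)), ((0, 0, 1, 0, 0, 0), (0, 0, 0, 0, 0, 0)), ((0, 0, 0, 0, 0, 0), (0, 0, 1, 0, 0, 0)), ((1, 0, 1, 0, 2, (-4)), (0, 0, 0, 0, 0, 0)), ((0, 0, 0, 0, 0, 0), (0, 0, 0, 0, 0, 0)), ((3, 2, (-7), 0, (-3), 1), (0, 0, 0, 0, 0, 0)), ((0, 0, 0, 0, 0, 0), (1, 1, (-2), 0, (-1), 0)),
    (((-4), (-4), 8, 0, (-3), 7), ((-2), (-8), 15, (-2), (-7), 0)), ((0, 0, 0, 0, 0, 0), ((-1), 0, 2, 0, 0, 0)), ((0, 0, 0, 0, 0, 0), (0, 0, 0, 0, 0, 0)), ((0, 0, 0, 0, 0, 0), (0, 0, 0, 0, 0, 0)), ((0, 0, 0, 0, 0, 0), (0, 0, 0, 0, 0, 0)), ((1, 0, (-1), 0, 0, 0), (0, 0, 1, 0, 0, (-1))), ((0, (-1), 2, 0, (-1), 0), (0, 0, 0, 0, 0, 0)), ((0, 0, 0, 0, 0, 1), (0, 0, 1, 0, (-1), 0)),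
    ((0, 0, 0, 0, 0, 0), (1, 0, (-1), 0, 1, 0)), ((0, 0, 1, 0, 0, 0), (0, 0, 0, 0, 0, 0)), ((0, 0, 0, 0, 0, 0), ((-1), 0, 2, 0, 0, (-1))), ((1, 0, (-1), 0, 1, 1), (0, 0, 1, 0, 0, 0)), ((0, 0, 0, 0, 0, 0), (0, 0, 0, 0, 0, 0)), ((1, 0, (-1), 0, 0, 0), (0, 0, 0, 0, 0, 0)), ((0, 0, 0, 0, 0, 0), (0, 0, 0, 0, 0, 0)), ((0, 0, 0, 0, 0, 0), (0, 0, 0, 0, 0, 0)),
    ((0, 0, 0, 0, 0, 0), ((-1), (-1), 3, 0, 1, 0)), ((0, 0, 1, 0, 0, 0), (0, 0, 0, 0, 0, 0)), ((0, (-1), 2, 0, 0, 0), (1, 1, (-2), 0, (-1), (-1))), ((0, 0, 0, 0, 0, 0), ((-1), (-1), 4, 0, 3, (-1))), ((0, 0, 0, 0, 0, 0), (1, 1, (-2), 0, 2, 0)), ((1, 0, (-1), 0, 0, 0), (1, 0, 0, 0, 1, (-1))), ((0, 0, 0, 0, 1, 0), (0, 0, 0, 0, 0, 0)), ((0, 0, 0, 0, 0, 0), (0, 1, (-1), 0, 1, 0)),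
    (((-5), (-5), 15, 0, 1, (-2)), (0, 0, 0, 0, 0, 0)), ((0, 0, 1, 0, 0, 0), (0, 0, 0, 0, 0, 0)), ((0, 0, 0, 0, 0, 0), (0, 0, 0, 0, 0, 0)), ((0, 0, 0, 0, 0, 0), (0, 0, 0, 0, 0, 0)), ((0, 0, 0, 0, 0, 0), (0, 0, 0, 0, 0, 0)), ((0, 0, 0, 0, 0, 0), (0, 0, 0, 0, 0, 0)), ((0, 0, 0, 0, 0, 0), (0, 0, 0, 0, 0, 0)), ((2, 0, (-2), 0, (-1), 0), (0, 0, 0, 0, 0, 0))]

/-- data -/
def mValPart10 : List ((ℤ × ℤ × ℤ × ℤ × ℤ × ℤ) × (ℤ × ℤ × ℤ × ℤ × ℤ × ℤ)) :=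
  [((0, (-1), 2, 0, 0, 0), (0, 0, 0, 0, 0, 0)), ((0, 0, 0, 0, 0, 0), (0, 0, 0, 0, 0, 0)), ((0, 0, 0, 0, 0, 0), (0, 1, (-1), 0, 0, 0)), ((1, 0, (-1), 0, 0, 0), (0, 0, 0, 0, 0, 0)), (((-1), (-1), 3, 0, (-2), 0), (0, 0, 0, 0, 0, 0)), ((0, 0, 0, 0, 0, 0), (0, 0, 0, 0, 0, 0)), ((0, 0, 1, 0, 0, 0), (0, 0, 0, 0, 0, 0)), ((0, 0, 0, 0, 0, 0), (0, 0, 0, 0, 0, 0)),
    ((0, 0, 0, 0, 0, 0), (2, 2, (-3), 0, (-2), (-3))), (((-4), (-4), 12, 0, 0, (-1)), (0, 0, 0, 0, 0, 0)), ((0, 0, 0, 0, 0, 0), (8, 7, (-13), 0, (-19), (-13))), ((0, 0, 0, 0, 0, 0), ((-1), (-1), 3, 0, 3, 0)), ((0, 0, 0, 0, 0, 0), (0, 0, 0, 0, 0, 0)), ((0, 0, 0, 0, 0, 0), (0, 1, (-1), 0, 0, 0)), ((0, 0, 0, 0, 0, 0), (0, 0, 1, 0, 0, 0)), ((0, 0, 0, 0, 0, 0), (2, 1, (-4), 0, 2, 1)),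
    ((0, 0, 0, 0, 0, 0), ((-1), (-1), 3, 0, 0, 0)), ((0, 0, 0, 0, 0, 0), (0, 0, 0, 0, 0, 0)), ((0, 0, 0, 0, 0, 0), (0, 0, 0, 0, 0, 0)), ((1, 0, (-1), 0, 0, 0), (1, 0, (-1), 0, 2, 0)), ((0, 0, 0, 0, 0, 0), (0, 0, 0, 0, 0, 0)), ((0, 0, 1, 0, 0, 0), (0, 0, 0, 0, 0, 0)), ((0, 0, 0, 0, 0, 0), (0, 0, 1, 0, 0, 0)), ((0, 0, 0, 0, 0, 0), ((-1), 0, 3, 0, 0, (-3))),
    ((0, 0, 0, 0, 0, 0), (0, 0, 0, 0, 0, 0)), ((0, 0, 0, 0, 0, 0), (0, 0, 0, 0, 0, 0)), ((0, 0, 0, 0, 0, 0), (0, 0, 1, 0, 0, 0)), ((1, 0, (-1), 0, 1, 0), (0, 0, 0, 0, 0, 0)), ((0, 0, 0, 0, 0, 0), ((-1), 0, 2, 0, 0, 0)), ((0, 0, 0, 0, 0, 0), (0, 0, 0, 0, 0, 0)), ((1, 1, (-2), 0, 0, 0), (0, 0, 0, 0, 0, 0)), ((0, 0, 0, 0, 0, 0), (0, 0, 0, 0, 0, 0)),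
    ((0, 0, 0, 0, 0, 0), (0, 0, 0, 0, 0, 0)), ((0, 0, 0, 0, 0, 0), (0, 0, 0, 0, 0, 0)), ((0, 0, 0, 0, 0, 0), (1, 0, (-1), 0, 1, 0)), (((-5), (-4), 11, 0, 10, 3), (0, 0, 0, 0, 0, 0)), ((0, 0, 0, 0, 0, 0), ((-1), (-1), 3, 0, 0, 0)), ((0, 0, 0, 0, 0, 0), (1, 1, (-3), 0, 0, 1)), ((0, 0, 0, 0, 0, 0), (0, 0, 0, 0, 0, 0)), ((0, 0, 0, 0, 0, 0), ((-1), 0, 2, 0, 0, 0)),
    ((0, 0, 0, 0, 0, 0), (0, 0, 0, 0, 0, 0)), (((-2), (-1), 3, 0, 0, 3), (0, 0, 0, 0, 0, 0)), ((0, 0, 0, 0, 0, 0), (0, 0, 0, 0, 0, 0)), ((0, 0, 1, 0, 0, 0), (0, 0, 0, 0, 0, 0)), ((0, 0, 0, 0, 0, 0), (0, 0, 1, 0, 0, 0)), ((0, 0, 0, 0, 0, 0), (0, 0, 0, 0, 0, 0)), ((0, 0, 0, 0, 0, 0), (0, 0, 0, 0, 0, 0)), (((-1), (-1), 3, 0, 5, 0), (0, 0, 0, 0, 0, 0)),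
    ((0, 0, 0, 0, 0, 0), (0, 0, 1, 0, 0, 0)), ((0, 0, 0, 0, 0, 0), ((-1), 0, 2, 0, 0, 0)), (((-2), (-1), 5, 0, (-1), (-1)), (0, 0, 0, 0, 0, 0)), ((1, 1, (-2), 0, 0, 0), (0, 0, 0, 0, 0, 0)), ((0, 0, 0, 0, 0, 0), (0, 0, 0, 0, 0, 0)), ((1, 0, (-1), 0, 0, 0), (0, 0, 0, 0, 0, 0)), ((0, (-1), 2, 0, 0, 0), (0, 0, 0, 0, 0, 0)), ((0, 0, 1, 0, 0, 0), ((-1), 0, 4, 0, (-2), (-5))),
    ((0, 0, 0, 0, 0, 0), (0, 0, 0, 0, 0, 0)), ((3, 2, (-5), 0, (-4), (-3)), (1, 1, (-2), 0, (-2), 0)), ((0, 0, 0, 0, 0, 0), (0, 0, 0, 0, 0, 0)), ((0, 0, 0, 0, 0, 0), (0, 0, 0, 0, 0, 0)), ((0, 0, 0, 0, 3, 0), (0, 0, 0, 0, 0, 0)), ((0, 0, 1, 0, 0, 0), (0, 0, 0, 0, 0, 0)), ((2, 2, (-6), 0, 0, 1), (0, 0, 0, 0, 0, 0)), ((0, 0, 0, 0, 0, 0), (0, 0, 0, 0, 0, 0))]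

/-- data -/
def mValPart11 : List ((ℤ × ℤ × ℤ × ℤ × ℤ × ℤ) × (ℤ × ℤ × ℤ × ℤ × ℤ × ℤ)) :=
  [((0, 0, 0, 0, 0, 0), (0, 0, 0, 0, 0, 0)), ((1, 0, (-1), 0, 0, 0), (0, 0, 0, 0, 0, 0)), ((0, 0, 0, 0, 0, 0), ((-2), (-1), 7, 0, (-3), (-5))), ((0, 0, 0, 0, 0, 0), (0, 0, 0, 0, 0, 0)), ((0, 0, 0, 0, 0, 0), ((-1), 0, 2, 0, 1, 0)), ((0, 0, 1, 0, 0, 0), (0, 0, 0, 0, 0, 0)), ((0, 0, 0, 0, 0, 0), (2, 1, (-4), 0, 1, 1)), ((0, 0, 0, 0, 3, 0), (0, 0, 0, 0, 0, 0)),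
    ((1, 1, (-2), 0, 1, 0), (1, 2, (-4), 0, (-2), 0)), ((0, (-1), 2, 0, 0, 0), (0, 0, 0, 0, 0, 0)), ((0, 0, 0, 0, 0, 0), (0, 0, 0, 0, 0, 0)), (((-4), (-3), 12, 0, (-1), (-5)), (0, 1, (-1), 0, 0, 0)), ((1, 0, (-1), 0, 0, 0), (0, 0, 0, 0, 0, 0)), (((-1), (-1), 3, 0, 2, 0), (0, 0, 0, 0, 0, 0)), ((0, 0, 0, 0, 0, 0), (0, 0, 0, 0, 0, 0)), ((0, 0, 1, 0, 0, 0), (0, 0, 0, 0, 0, 0)),
    ((0, 0, 0, 0, 0, 0), (0, 0, 0, 0, 0, 0)), ((0, 0, 0, 0, 0, 0), (0, 0, 0, 0, 0, 0)), ((0, 0, 0, 0, 0, 0), (0, 0, 0, 0, 0, 0)), ((0, 0, 0, 0, 0, 0), (1, 1, (-3), 0, 0, 1)), ((0, 0, 0, 0, 0, 0), (0, 0, 2, 0, 0, (-3))), ((0, 0, 0, 0, 0, 0), (0, 0, 0, 0, 0, 0)), ((0, 0, 0, 0, 0, 0), (0, 1, (-1), 0, 0, 0)), ((0, 0, 0, 0, 0, 0), ((-1), (-1), 3, 0, 1, 0)),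
    ((1, 0, 0, 0, 0, (-1)), (0, 0, 0, 0, 0, 0)), ((2, 1, (-6), 0, 3, 4), (1, 1, (-2), 0, 0, (-1))), ((0, 0, 0, 0, 0, 0), (0, 0, 0, 0, 0, 1)), ((0, 0, 1, 0, 1, 0), (0, 1, (-1), 0, 0, 0)), ((0, 0, 0, 0, 0, 0), (0, 0, 0, 0, 0, 0)), ((0, 0, 0, 0, 0, 0), ((-1), 0, 2, 0, 0, 0)), ((0, 0, 0, 0, 0, 0), (0, 0, 0, 0, 0, 0)), ((0, 0, 0, 0, 0, 0), (0, 0, 0, 0, 0, 0)),
    ((0, (-1), 2, 0, 0, 0), (0, 0, 0, 0, 0, 0)), ((0, 0, 0, 0, 0, 0), (0, 0, 0, 0, 0, 0)), ((1, 0, (-1), 0, 0, 0), (0, 0, 0, 0, 0, 0)), ((1, 0, (-1), 0, 0, 0), (0, 0, 0, 0, 0, 0)), ((0, 0, 0, 0, 0, 0), (0, 0, 0, 0, 0, 0)), ((0, 0, 0, 0, 0, 0), (0, 0, 0, 0, 0, 0)), ((0, 0, 1, 0, 0, 0), (0, 0, 0, 0, 0, 0)), ((0, 0, 0, 0, 0, 0), (0, 0, 0, 0, 0, 0)),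
    ((1, 0, 0, 0, (-2), (-1)), (0, 0, 0, 0, 0, 0)), ((0, 0, 0, 0, 0, 0), (0, 0, 0, 0, 0, 0)), ((0, 0, 0, 0, 0, 0), (0, 0, 0, 0, 0, 0)), ((0, 0, 0, 0, 0, 0), (0, 1, (-1), 0, 0, 0)), ((1, 0, (-1), 0, 0, 0), (0, 0, 0, 0, 0, 0)), ((1, 0, (-1), 0, (-1), 0), (0, 0, 1, 0, (-1), (-1))), ((0, 0, 1, 0, 0, 0), (0, 0, 0, 0, 0, 0)), ((0, 0, 0, 0, 0, 0), (0, 0, 1, 0, 0, 0)),
    ((1, 0, (-1), 0, (-1), 0), (0, 0, 0, 0, 0, 0)), ((0, 0, 0, 0, 0, 0), (0, 0, 0, 0, 0, 0)), ((0, 0, 0, 0, 0, 0), (0, 0, 0, 0, 0, 0)), ((0, 0, 0, 0, 0, 0), (0, 0, 0, 0, 0, 0)), ((0, 0, 0, 0, 0, 0), (0, 0, 0, 0, 0, 0)), ((0, 0, 0, 0, 1, 0), (0, 1, (-1), 0, 0, 0)), ((2, 1, (-2), 0, 1, (-3)), (2, 2, (-4), 0, (-3), (-3))), ((0, 0, 0, 0, 0, 0), (0, 0, 1, 0, 0, 0)),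
    ((0, 0, 0, 0, 0, 0), ((-1), 0, 2, 0, 0, 0)), ((0, 0, 0, 0, 0, 0), (0, 0, 0, 0, 0, 0)), ((1, 0, (-1), 0, 0, 0), (0, 0, 0, 0, 0, 0)), ((0, (-1), 2, 0, 0, 0), (0, 0, 0, 0, 0, 0)), ((0, 0, 1, 0, 0, 0), (0, 0, 1, 0, (-1), (-1))), ((0, 0, 0, 0, 0, 0), ((-1), 0, 2, 0, 0, (-1))), ((1, 0, (-1), 0, 0, 0), (0, 0, 1, 0, 0, (-1))), ((0, 0, 0, 0, 0, 0), (0, 0, 0, 0, 0, 0))]

/-- data -/
def mValPart12 : List ((ℤ × ℤ × ℤ × ℤ × ℤ × ℤ) × (ℤ × ℤ × ℤ × ℤ × ℤ × ℤ)) :=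
  [((0, 0, 1, 0, 0, 0), (0, 0, 0, 0, 0, 0)), ((0, 0, 0, 0, 0, 0), (0, 0, 0, 0, 0, 0)), ((0, 0, (-1), 0, 1, 3), (0, 0, 0, 0, 0, 0)), ((0, 0, 0, 0, 0, 0), (0, 0, 0, 0, 0, 0)), ((1, 0, (-1), 0, (-1), 0), ((-1), 0, 1, 0, (-1), 1)), ((0, 0, 0, 0, 1, 0), ((-2), (-1), 3, 0, 1, 3)), ((0, 0, 0, 0, 0, 0), (0, 1, (-1), 0, 0, 0)), ((1, 0, (-1), 0, 0, 0), (0, 0, 0, 0, 0, 0)),
    ((0, 0, 1, 0, 0, 0), (0, 0, 0, 0, 0, 0)), ((0, 0, 0, 0, 0, 0), (0, 0, 1, 0, 0, 0)), ((0, 0, 0, 0, (-1), 0), (0, 0, 0, 0, 0, 0)), ((0, 0, 0, 0, 0, 0), (0, 0, 0, 0, 0, 0)), (((-8), (-3), 12, 1, (-1), 5), (0, 0, 0, 0, 0, 0)), ((0, 0, 0, 0, 0, 0), (0, 1, (-1), 0, (-1), 0)), ((0, 0, 0, 0, 0, 0), (0, 0, 1, 0, 0, 0)), ((0, 0, 0, 0, 0, 0), (0, 0, 0, 0, 0, 0)),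
    ((0, 0, 0, 0, 0, 0), ((-1), (-1), 3, 0, 0, 0)), ((0, 1, (-3), 0, 1, 3), (0, 0, 0, 0, 0, 0)), ((0, 0, 0, 0, 0, 0), ((-5), (-4), 10, 0, (-2), 6)), ((1, 0, (-1), 0, 0, 0), (0, 0, 0, 0, 0, 0)), (((-8), (-7), 22, 0, 1, (-3)), (0, 0, 0, 0, 0, 0)), ((0, 0, 1, 0, 0, 0), (0, 0, 0, 0, 0, 0)), ((1, 0, (-1), 0, 0, 1), (0, 0, 0, 0, 0, 0)), ((0, 0, 0, 0, 0, 0), (0, 0, 0, 0, 0, 1)),
    ((0, 0, 0, 0, 0, 0), (1, 1, (-3), 0, 1, 1)), ((0, 0, 0, 0, 0, 0), (0, 0, 0, 0, 0, 0)), ((0, 0, 0, 0, 0, 0), (0, 0, 0, 0, 0, 0)), ((0, 0, 0, 0, 0, 0), (0, 1, (-1), 0, 0, 0)), ((0, 0, 0, 0, 0, 0), ((-1), 0, 1, 0, 2, 1)), ((0, 0, 0, 0, 0, 0), (0, 1, (-1), 0, 0, (-1))), ((0, 0, 0, 0, 0, 0), (0, 0, 0, 0, 1, 1)), ((0, 0, 0, 0, 0, 0), (0, 0, 1, 0, 0, 0)),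
    ((1, 0, (-1), 0, 1, 0), (0, 0, 0, 0, 0, 0)), ((0, 0, 0, 0, 0, 0), (0, 0, 0, 0, 0, 0)), ((1, 1, (-2), 0, 0, 0), (0, 0, 0, 0, 0, 0)), ((0, 0, 0, 0, 0, 0), (4, 4, (-12), 0, 4, 2)), (((-1), 0, 2, 0, 0, 0), ((-2), 0, 3, 0, (-1), (-1))), ((0, 0, 0, 0, 0, 0), (0, 0, 0, 0, 0, 0)), ((0, 0, 1, 0, 0, (-1)), (0, 0, 0, 0, 0, 0)), ((0, 0, 0, 0, 0, 0), (0, 1, (-2), 0, (-1), 1)),
    ((0, 0, 0, 0, 0, 0), ((-1), 0, 1, 0, 1, 1)), ((0, 0, 0, 0, 0, 0), (0, 0, 0, 0, 0, 0)), ((0, 0, 0, 0, 0, 0), (0, 1, (-1), 0, 0, 0)), (((-2), (-2), 4, 0, 4, 3), (0, 0, 0, 0, 0, 0)), ((0, 0, 0, 0, 0, 0), ((-2), (-1), 4, 0, 1, 0)), ((0, 0, 0, 0, 0, 0), ((-1), 0, 1, 0, 0, 1)), (((-2), (-2), 6, 0, 1, (-1)), (0, 0, 0, 0, 0, 0)), (((-1), 0, 2, 0, 1, 0), (0, 1, (-1), 0, 0, 0)),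
    (((-1), (-1), 3, 0, 1, 0), (0, 0, 0, 0, 0, 0)), ((0, 0, 0, 0, 0, 0), ((-1), 0, 2, 0, 0, 0)), ((0, 0, 0, 0, 0, 0), ((-1), 1, 0, 0, (-1), 0)), ((0, 0, 0, 0, 0, 0), (0, 0, 0, 0, 0, 0)), ((2, 1, (-4), 0, 0, 1), (0, 0, 0, 0, 0, 0)), ((0, 0, 0, 0, 0, 0), (1, 1, (-2), 0, 1, 0)), ((0, 0, 1, 0, 0, 0), (0, 0, 0, 0, 0, 0)), ((0, 0, 0, 0, 0, 0), (0, 0, 1, 0, 0, 0)),
    ((0, 0, 0, 0, 0, 0), (2, 2, (-6), 0, (-1), 1)), ((0, 0, (-2), 0, 0, 4), ((-1), (-1), 3, 0, 0, 0)), ((0, 0, 0, 0, 0, 0), (0, 0, 0, 0, 0, 0)), ((0, 0, 0, 0, 0, 0), (0, 0, 0, 0, 0, 0)), (((-2), (-1), 5, 0, 0, (-1)), (0, 0, 0, 0, 0, 0)), ((0, 0, 1, 0, 0, 0), (0, 0, 0, 0, 0, 0)), ((0, 0, 0, 0, 0, 0), (0, 0, 1, 0, 0, 0)), ((0, 0, 0, 0, 0, 0), (0, 0, 0, 0, 0, 0))]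

/-- data -/
def mValPart13 : List ((ℤ × ℤ × ℤ × ℤ × ℤ × ℤ) × (ℤ × ℤ × ℤ × ℤ × ℤ × ℤ)) :=
  [((0, 0, 0, 0, 0, 0), ((-1), 0, 1, 0, 1, 1)), ((0, 0, 0, 0, 1, 0), (0, 0, 0, 0, 0, 0)), ((2, 2, (-6), 0, (-1), 1), (0, 0, 0, 0, 0, 0)), (((-6), (-5), 16, 0, 2, (-2)), (0, 0, 1, 0, 0, 0)), ((0, 0, 0, 0, 0, 0), ((-1), 0, 2, 0, 0, 0)), ((0, 0, 0, 0, 0, 0), (0, 0, 0, 0, 0, 0)), ((1, 1, (-2), 0, 0, 0), (0, 0, 0, 0, 0, 0)), ((2, 2, (-6), 0, (-1), 1), (0, 0, 0, 0, 0, 0)),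
    ((1, 0, (-1), 0, 0, 0), (0, 0, 0, 0, 0, 0)), ((0, 0, 1, 0, 0, 0), ((-1), 0, 4, 0, (-5), (-5))), ((0, 0, 0, 0, 0, 0), (0, 0, 0, 0, 0, 0)), ((0, 0, 0, 0, (-5), 0), (0, 0, 0, 0, 0, 0)), ((0, 0, 1, 0, 0, 0), (0, 0, 0, 0, 0, 0)), ((0, 0, 0, 0, 0, 0), (0, 0, 0, 0, 0, 0)), ((0, 0, 0, 0, 0, 0), (0, 0, 0, 0, 0, 0)), ((1, 0, (-1), 0, 0, 0), (0, 0, 0, 0, 0, 0)),
    ((0, 0, 0, 0, 0, 0), ((-2), (-1), 5, 0, 0, (-1))), ((0, 0, 0, 0, 0, 0), (0, 0, 0, 0, 0, 0)), ((0, 0, 0, 0, 0, 0), ((-1), 0, 2, 0, 1, 0)), ((0, 0, 1, 0, 0, 0), (0, 0, 0, 0, 0, 0)), ((0, 0, 0, 0, 0, 0), (0, 0, 0, 0, 0, 0)), ((0, 0, 0, 0, 0, 0), (0, 0, 0, 0, 0, 0)), ((1, 0, (-1), 0, 0, 0), (1, 0, 0, 0, 1, (-1))), ((0, (-1), 2, 0, (-1), 0), (0, 0, 0, 0, 0, 0)),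
    ((0, 0, 0, 0, 0, 1), (0, 0, 1, 0, (-1), 0)), ((0, 0, 0, 0, 0, 0), (1, 0, (-1), 0, 0, 0)), ((0, 0, 1, 0, 0, 0), (0, 0, 0, 0, 0, 0)), ((1, 0, (-1), 0, 0, 0), (0, 0, 0, 0, 0, 0)), ((0, 0, 0, 0, 0, 0), (0, 0, 0, 0, 0, 0)), ((0, 0, 0, 0, 0, 0), (0, 0, 0, 0, 0, 0)), ((0, 0, 0, 0, 0, 0), ((-1), (-1), 3, 0, (-1), 0)), ((0, 0, 1, 0, 0, 0), (0, 0, 0, 0, 0, 0)),
    ((0, (-1), 2, 0, 0, 0), (1, 1, (-4), 0, (-1), 3)), ((0, 0, 0, 0, 0, 0), ((-1), (-1), 2, 0, 3, 3)), ((0, 0, 0, 0, 0, 0), (1, 1, (-2), 0, 0, 0)), ((0, 0, 0, 0, 0, 0), (0, 0, 1, 0, 1, 0)), ((0, 0, 0, 0, 0, 0), ((-5), (-4), 12, 0, 1, 1)), ((0, 0, 0, 0, 0, 0), (0, 0, 0, 0, 0, 0)), ((0, 0, 0, 0, 0, 0), (0, 0, 0, 0, 0, 0)), ((0, 0, 0, 0, 0, 0), (0, 0, 0, 0, 0, 0)),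
    ((1, 0, (-1), 0, 0, 0), (0, 0, 0, 0, 0, 0)), (((-1), (-1), 3, 0, 0, 0), (0, 0, 0, 0, 0, 0)), ((0, 0, 1, 0, 0, 0), (0, 0, 0, 0, 0, 0)), ((0, 0, 0, 0, 0, 0), (3, 2, (-5), 0, (-2), (-3))), ((0, 0, 0, 0, 0, 0), ((-1), (-1), 1, 0, 5, 4)), ((0, 0, 0, 0, 0, 0), (0, 0, 0, 0, 0, 0)), ((0, 0, 0, 0, 0, 0), (1, 2, (-4), 0, (-3), 1)), ((0, 0, 0, 0, 0, 0), (0, 0, 1, 0, 0, 0)),
    ((0, 0, 0, 0, 0, 0), (2, 1, (-4), 0, 0, 1)), ((0, 0, 0, 0, 0, 0), ((-1), (-1), 3, 0, 0, 0)), ((0, 0, 0, 0, 0, 0), (0, 0, 0, 0, 0, 0)), ((0, 0, 0, 0, 0, 0), (0, 0, 0, 0, 0, 0)), ((3, 1, (-5), 0, 2, 1), (1, 0, (-1), 0, 0, 0)), ((0, 0, 0, 0, 0, 0), (0, 0, 0, 0, 0, 0)), ((0, 0, 0, 0, 0, 0), (0, 0, 1, 0, 0, 0)), ((0, 0, 0, 0, 0, 0), (0, 0, 2, 0, (-1), (-3))),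
    ((0, 0, 0, 0, 0, 0), (0, 0, 0, 0, 0, 0)), ((0, 0, 0, 0, 0, 0), (0, 0, 0, 0, 0, 0)), ((0, 0, 0, 0, 0, 0), (0, 0, 1, 0, 0, 0)), ((1, 0, (-1), 0, 1, 0), (0, 0, 0, 0, 0, 0)), ((0, 0, 0, 0, 0, 0), ((-1), 0, 2, 0, 0, 0)), ((0, 0, 0, 0, 0, 0), (0, 0, 0, 0, 0, 0)), ((1, 1, (-2), 0, 0, 0), (3, 2, (-7), 0, 1, 1)), ((0, 0, 0, 0, 0, 0), (0, 0, 0, 0, 0, 0))]

/-- data -/
def mValPart14 : List ((ℤ × ℤ × ℤ × ℤ × ℤ × ℤ) × (ℤ × ℤ × ℤ × ℤ × ℤ × ℤ)) :=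
  [((0, (-1), 4, 0, (-2), (-4)), (1, 0, (-1), 0, 1, 0)), ((1, 1, (-1), 0, (-1), (-3)), ((-1), (-1), 3, 0, 3, 0)), ((0, 0, 0, 0, 0, 0), (0, 0, 0, 0, 0, 0)), ((0, 0, 0, 0, 0, 0), ((-1), 0, 2, 0, 0, 0)), ((0, 0, 0, 0, 0, 0), ((-2), (-2), 7, 0, 1, (-1))), (((-1), (-1), 4, 0, 1, (-1)), (0, 0, 0, 0, 0, 0)), ((0, 0, 0, 0, 0, 0), ((-1), (-1), 3, 0, 2, 0)), ((0, 0, 1, 0, 0, 0), (0, 0, 0, 0, 0, 0)),
    ((0, 0, 0, 0, 0, 0), (0, 0, 1, 0, 0, 0)), ((0, 0, 0, 0, 0, 0), (0, 0, 0, 0, 0, 0)), ((0, 0, 0, 0, 0, 0), ((-1), 0, 2, 0, 0, 0)), (((-2), (-1), 5, 0, (-1), (-1)), (0, 0, 0, 0, 0, 0)), ((2, 0, (-2), 0, 0, 0), (0, 0, 0, 0, 0, 0)), ((0, (-1), 2, 0, 0, 0), (0, 0, 0, 0, 0, 0)), ((0, 0, 0, 0, 0, 0), (0, 0, 1, 0, 3, 0)), (((-3), (-3), 9, 0, 1, (-1)), (1, 1, (-2), 0, 2, 0)),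
    ((0, 0, 0, 0, 0, 0), (0, 0, 0, 0, 0, 0)), ((0, 0, 0, 0, 0, 0), (0, 0, 0, 0, 0, 0)), ((0, 0, 0, 0, 3, 0), (0, 0, 0, 0, 0, 0)), ((0, 0, 1, 0, 0, 0), (0, 0, 0, 0, 0, 0)), ((2, 2, (-6), 0, 0, 1), (0, 0, 0, 0, 0, 0)), ((0, 0, 0, 0, 0, 0), (0, 0, 0, 0, 0, 0)), ((0, 0, 0, 0, 0, 0), (0, 0, 0, 0, 0, 0)), ((1, 0, (-1), 0, 0, 0), (0, 0, 0, 0, 0, 0)),
    (((-3), (-3), 9, 0, 1, (-1)), ((-2), (-1), 5, 0, 3, (-1))), ((0, 0, 0, 0, 0, 0), ((-3), (-2), 8, 0, 1, (-1))), ((0, 0, 0, 0, 0, 0), ((-1), 0, 2, 0, 1, 0)), ((0, 0, 1, 0, 0, 0), (0, 0, 0, 0, 0, 0)), ((6, 5, (-14), 0, (-5), (-2)), (7, 6, (-15), 0, (-5), (-5))), ((0, (-1), 2, 0, 0, 0), (5, 4, (-11), 0, 2, (-2))), ((2, 2, (-3), 0, (-4), (-4)), (0, 0, 0, 0, 0, 0)), ((1, 0, (-1), 0, 0, 0), (0, 0, 0, 0, 0, 0)),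
    ((0, 0, 0, 0, 0, 0), (0, 0, 0, 0, 0, 0)), ((0, 0, 1, 0, 0, 0), (0, 0, 0, 0, 0, 0)), ((0, 0, 0, 0, 0, 0), (0, 0, 0, 0, 0, 0)), ((1, (-1), 0, 0, (-3), 1), (0, 0, 0, 0, 0, 0)), ((0, 0, 0, 0, 0, 0), (0, 0, 0, 0, 0, 0)), ((0, 0, 0, 0, 0, 0), (0, 0, 2, 0, (-2), (-3))), ((0, 0, 0, 0, 0, 0), (0, 0, 0, 0, 0, 0)), ((0, 0, 0, 0, 0, 0), (0, 1, (-1), 0, 0, 0)),
    ((1, 0, 0, 0, 0, (-1)), ((-1), (-1), 3, 0, (-1), 0)), (((-10), (-9), 22, 0, 11, 8), (1, 1, (-2), 0, (-3), (-1))), ((0, 0, 0, 0, 0, 0), ((-1), 0, 2, 0, 0, 0)), (((-1), 2, (-5), 1, (-1), 7), (0, 0, 0, 0, 0, 0)), (((-1), (-1), 3, 0, 2, 0), (0, 0, 0, 0, 0, 0)), ((1, 0, 0, 0, (-2), (-1)), (0, 0, 0, 0, 0, 0)), ((0, 0, 0, 0, 0, 0), (0, 0, 0, 0, 0, 0)), ((0, 0, 0, 0, 0, 0), (0, 0, 0, 0, 0, 0)),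
    ((0, 0, 0, 0, 0, 0), (0, 1, (-1), 0, 0, 0)), ((0, 0, 0, 0, 0, 0), (0, 0, 1, 0, 0, 0)), ((1, 0, (-1), 0, (-3), 0), (3, 2, (-7), 0, (-2), 1)), ((0, 0, 0, 0, 0, 0), (0, 0, 0, 0, 0, 0)), ((0, 0, 0, 0, 0, 0), (0, 0, 0, 0, 0, 0)), ((0, 0, 0, 0, 0, 0), (0, 0, 0, 0, 0, 0)), (((-3), (-3), 9, 0, 1, (-1)), (0, 0, 0, 0, 0, 0)), (((-1), (-1), 3, 0, 1, 0), (0, 1, (-1), 0, 0, 0)),
    ((2, 1, (-6), 0, 3, 5), (3, 2, (-7), 0, 1, 1)), ((0, 0, 0, 0, 0, 0), ((-1), 0, 2, 0, 0, 0)), ((0, 0, 0, 0, 0, 0), (0, 0, 0, 0, 0, 0)), ((0, 0, 0, 0, 0, 0), (0, 0, 1, 0, 0, 0)), ((0, 0, 0, 0, 0, 0), (0, 0, 0, 0, 0, 0)), ((0, 0, 0, 0, 0, 0), ((-1), (-1), 3, 0, 0, 0)), ((1, 1, (-2), 0, 3, (-1)), (0, 0, 0, 0, 0, 0)), ((1, 0, (-1), 0, 0, 0), (0, 0, 0, 0, 0, 0))]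

/-- data -/
def mValPart15 : List ((ℤ × ℤ × ℤ × ℤ × ℤ × ℤ) × (ℤ × ℤ × ℤ × ℤ × ℤ × ℤ)) :=
  [((0, 0, 1, 0, 0, 0), (0, 0, 0, 0, 0, 0)), ((0, 0, 0, 0, 0, 0), (0, 0, 0, 0, 0, 0)), ((0, 0, 0, 0, 0, 0), (0, 0, 0, 0, 0, 0)), ((0, 0, 0, 0, 0, 0), ((-1), 0, 1, 0, 2, 1)), ((0, 0, 0, 0, 0, 0), (0, 1, (-1), 0, 0, (-1))), ((0, 0, 0, 0, 0, 0), ((-1), (-1), 3, 0, 2, 1)), ((0, 0, 0, 0, 0, 0), (0, 0, 1, 0, 0, 0)), ((1, 0, (-1), 0, 1, 0), (0, 0, 0, 0, 0, 0)),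
    ((0, 0, 0, 0, 0, 0), (0, 0, 0, 0, 0, 0)), ((1, 1, (-2), 0, 0, 0), (1, 1, (-3), 0, 5, 1)), ((0, 0, 0, 0, 0, 0), ((-2), (-1), 4, 0, 1, 0)), (((-1), 0, 2, 0, 0, 0), ((-2), 0, 3, 0, (-1), (-1))), ((0, 0, 0, 0, 0, 0), (0, 0, 0, 0, 0, 0)), ((0, 0, 1, 0, 0, (-1)), (0, 0, 0, 0, 0, 0)), ((0, 0, 0, 0, 0, 0), (0, 1, (-2), 0, (-1), 1)), ((0, 0, 0, 0, 0, 0), ((-1), 0, 1, 0, 0, 1)),
    ((0, 0, 0, 0, 0, 0), (0, 1, (-1), 0, 0, 0)), (((-2), (-2), 5, 0, 3, 3), (0, 0, 0, 0, 0, 0)), (((-11), (-9), 30, 0, 8, (-5)), ((-2), (-1), 4, 0, 1, 0)), ((0, 0, 0, 0, 0, 0), ((-1), 0, 1, 0, 0, 1)), (((-1), 0, 2, 0, 1, 0), (0, 1, (-1), 0, 0, 0)), ((0, (-1), 2, 0, 1, 0), (0, 0, 0, 0, 0, 0)), ((0, 0, 0, 0, 0, 0), ((-1), 0, 2, 0, 0, 0)), ((0, 0, 0, 0, 0, 0), (0, 1, (-1), 0, (-1), 0)),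
    ((0, 0, 0, 0, 0, 0), ((-6), (-5), 15, 0, 0, 1)), ((2, 1, (-4), 0, 0, 1), (0, 0, 0, 0, 0, 0)), ((0, 0, 0, 0, 0, 0), (1, 1, (-2), 0, 1, 0)), ((0, 0, 1, 0, 0, 0), (0, 0, 0, 0, 0, 0)), ((0, 0, 0, 0, 0, 0), (0, 0, 1, 0, 0, 0)), ((0, 0, 0, 0, 0, 0), (2, 2, (-6), 0, 1, 1)), ((0, 0, 2, 0, 0, (-3)), ((-1), (-1), 3, 0, 0, 0)), ((0, 0, 0, 0, 0, 0), (0, 0, 0, 0, 0, 0)),
    ((0, 0, 0, 0, 0, 0), (0, 0, 0, 0, 0, 0)), ((4, 3, (-11), 0, 2, 5), (0, 0, 0, 0, 0, 0)), ((0, 0, 1, 0, 0, 0), (0, 0, 0, 0, 0, 0)), ((0, 0, 0, 0, 0, 0), (0, 0, 1, 0, 0, 0)), ((0, 0, 0, 0, 0, 0), (0, 0, 0, 0, 0, 0)), ((0, 0, 0, 0, 0, 0), ((-1), 0, 1, 0, 0, 1)), ((0, 0, 0, 0, (-2), 0), (0, 0, 0, 0, 0, 0)), (((-3), (-3), 5, 0, 4, 7), (0, 0, 0, 0, 0, 0)),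
    ((0, 0, (-4), 0, 3, 8), (0, 0, 1, 0, 0, 0)), ((0, 0, 0, 0, 0, 0), ((-1), 0, 2, 0, 0, 0)), ((0, 0, 0, 0, 0, 0), (0, 0, 0, 0, 0, 0)), ((1, 1, (-2), 0, 0, 0), (0, 0, 0, 0, 0, 0)), ((2, 2, (-6), 0, (-1), 1), (0, 0, 0, 0, 0, 0)), ((1, 0, (-1), 0, 0, 0), (0, 0, 0, 0, 0, 0)), ((0, 0, 1, 0, 0, 0), ((-1), 0, 0, 0, (-2), 3)), ((0, 0, 0, 0, 0, 0), (0, 0, 0, 0, 0, 0)),
    (((-6), (-5), 18, 0, (-2), (-6)), (0, 0, 0, 0, 0, 0)), ((0, 0, 1, 0, 0, 0), ((-3), (-2), 6, 0, 1, 3)), ((0, 0, 0, 0, 0, 0), (0, 0, 0, 0, 0, 0)), ((0, 0, 0, 0, 0, 0), (0, 0, 0, 0, 0, 0)), ((1, 0, (-1), 0, 0, 0), (0, 0, 0, 0, 0, 0)), ((0, 0, 0, 0, 0, 0), ((-2), (-1), 5, 0, 0, (-1))), ((0, 0, 0, 0, 0, 0), (0, 0, 0, 0, 0, 0)), ((0, 0, 0, 0, 0, 0), ((-1), 0, 2, 0, (-1), 0)),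
    ((0, 0, 1, 0, 0, 0), (0, 0, 0, 0, 0, 0)), ((1, 0, (-1), 0, 0, 0), (0, 0, 0, 0, 0, 0)), ((0, (-1), 2, 0, 0, 0), (0, 0, 0, 0, 0, 0)), ((0, 0, 0, 0, 0, 0), ((-2), (-2), 5, 0, 1, 1)), ((0, 0, 1, 0, 0, 0), (0, 0, 0, 0, 0, 0)), ((0, 0, 0, 0, 0, 0), (0, 0, 0, 0, 0, 0)), ((1, 0, (-1), 0, 0, 0), (1, 0, 0, 0, (-1), (-2))), ((0, 0, 0, 0, 0, 0), (1, 1, (-2), 0, 0, (-1)))]

/-- data -/
def mValPart16 : List ((ℤ × ℤ × ℤ × ℤ × ℤ × ℤ) × (ℤ × ℤ × ℤ × ℤ × ℤ × ℤ)) :=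
  [((0, 0, 1, 0, 0, 0), (0, 0, 0, 0, 0, 0)), ((0, 0, 0, 0, 0, 0), (0, 0, 0, 0, 0, 0)), ((1, 0, (-1), 0, 0, 0), (0, 0, 0, 0, (-1), 1)), ((0, 0, 1, 0, 0, 0), (1, 1, (-2), 0, 1, (-1))), ((1, 0, 0, 0, 0, (-1)), (0, 0, 0, 0, 0, 0)), ((0, 0, 0, 0, 0, 0), (0, 0, 1, 0, 0, 0)), ((1, 0, (-1), 0, 0, 0), (0, 0, 0, 0, 0, 0)), (((-8), (-7), 16, 0, 5, 9), (0, 0, 0, 0, 0, 0)),
    (((-3), (-3), 9, 0, 1, (-1)), (0, 0, 0, 0, 0, 0)), ((0, 0, 0, 0, 0, 0), (1, 1, (-2), 0, (-1), 0)), ((0, 0, 0, 0, 0, 0), ((-1), 0, 2, 0, 0, 0)), ((1, 1, (-1), 0, 0, (-3)), (0, 0, 0, 0, 0, 0)), ((0, 0, 0, 0, 0, 0), (0, 0, 0, 0, 0, 0)), ((1, 0, (-1), 0, 0, 0), (0, 0, 1, 0, (-2), (-1))), (((-4), 3, (-6), 2, (-7), 14), (4, 4, (-13), 0, (-4), 4)), ((0, 0, 1, 0, 0, 0), (2, 2, (-4), 0, 2, (-3))),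
    ((0, 0, 0, 0, 0, 0), ((-1), 0, 2, 0, 0, (-1))), ((1, 0, 1, 0, 1, (-3)), (0, 0, 1, 0, 0, 0)), ((0, 0, 0, 0, 0, 0), (0, 0, 0, 0, 0, 0)), ((1, 0, (-1), 0, 0, 0), (0, 0, 0, 0, 0, 0)), ((0, 0, 0, 0, 0, 0), (0, 0, 0, 0, 0, 0)), ((0, 0, 0, 0, 0, 0), (0, 0, 0, 0, 0, 0)), ((0, 0, 0, 0, 0, 0), ((-1), (-1), 3, 0, (-1), 0)), ((0, 0, 1, 0, 0, 0), (0, 0, (-2), 0, 1, 4)),
    ((0, (-1), 2, 0, 0, 0), (1, 1, (-2), 0, (-3), (-1))), ((1, 0, (-1), 0, 0, 0), (1, 0, 0, 0, 1, (-1))), ((0, 0, 0, 0, 1, 0), (0, 0, 0, 0, 0, 0)), ((1, 0, 3, 0, (-3), (-8)), (0, 0, 0, 0, 0, 0)), ((0, 0, 1, 0, 0, 0), (0, 0, 0, 0, 0, 0)), ((0, 0, 0, 0, 0, 0), (0, 0, 0, 0, 0, 0)), ((0, (-1), 1, 0, 1, 1), (0, 0, 0, 0, 0, 0)), ((0, 0, 0, 0, 0, 0), (0, 0, 0, 0, 0, 0)),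
    ((0, 0, 0, 0, 0, 0), (2, 1, (-4), 0, 0, 0)), ((0, 0, 0, 0, 0, 0), (0, 1, (-1), 0, (-2), 0)), ((2, 0, (-2), 0, (-1), 0), (0, 0, 0, 0, 0, 0)), ((0, (-1), 2, 0, 0, 0), ((-4), (-6), 15, (-1), (-2), (-2))), ((4, 3, (-10), 0, 1, 1), (4, 3, (-10), 0, (-1), 1)), ((0, 0, 0, 0, 0, 0), (0, 1, (-1), 0, 0, 0)), ((1, 0, (-1), 0, 0, 0), (0, 0, 0, 0, 0, 0)), (((-2), (-1), 5, 0, (-2), (-1)), (0, 0, 0, 0, 0, 0)),
    ((0, 0, 0, 0, 0, 0), (0, 0, 0, 0, 0, 0)), ((0, 0, 1, 0, 0, 0), (0, 0, 0, 0, 0, 0)), (((-4), (-4), 12, 0, (-5), (-1)), (0, 0, 0, 0, 0, 0)), ((0, 0, 0, 0, 0, 0), ((-1), 0, 2, 0, 0, 0)), ((0, 0, 0, 0, 0, 0), (0, 0, 0, 0, 0, 0)), (((-2), 0, 3, 0, 1, (-1)), (0, 1, (-1), 0, 0, 0)), ((0, 0, 0, 0, 0, 0), (0, 0, 0, 0, 0, 0)), ((0, 0, 0, 0, 0, 0), (0, 0, 0, 0, 0, 0)),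
    ((0, 0, 0, 0, 0, 0), (1, 0, (-1), 0, 0, 0)), ((0, 0, 0, 0, 0, 0), (0, 0, 0, 0, 0, 0)), (((-2), (-1), 5, 0, 0, (-1)), (0, 0, 0, 0, 0, 0)), ((0, 0, 0, 0, 0, 0), ((-2), (-1), 4, 0, (-3), 0)), ((0, 0, 1, 0, 0, 0), (0, 0, 0, 0, 0, 0)), ((0, (-1), 2, 0, 0, 0), (0, 1, (-3), 0, 2, 3)), ((0, 0, 0, 0, 0, 0), (4, 4, (-11), 0, (-2), 1)), ((3, 2, (-7), 0, 2, 1), (1, 1, (-2), 0, 2, 0)),
    ((2, 2, (-6), 0, 0, 1), ((-1), 0, 0, 0, 1, 4)), ((0, 0, 0, 0, 0, 0), ((-16), (-9), 27, 1, 11, 13)), ((0, 0, 0, 0, 0, 0), (0, 0, 0, 0, 0, 0)), ((0, 0, 0, 0, 0, 0), (2, 1, (-4), 0, 1, 1)), ((1, 1, (-2), 0, 1, 0), (1, 2, (-4), 0, (-3), 0)), ((1, 0, (-1), 0, 0, 0), (0, 0, 0, 0, 0, 0)), (((-1), (-1), 3, 0, (-2), 0), (0, 0, 0, 0, 0, 0)), ((0, 0, 1, 0, 0, 0), (0, 0, 0, 0, 0, 0))]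

/-- data -/
def mValPart17 : List ((ℤ × ℤ × ℤ × ℤ × ℤ × ℤ) × (ℤ × ℤ × ℤ × ℤ × ℤ × ℤ)) :=
  [((0, 0, 0, 0, 0, 0), (2, 2, (-6), 0, 0, 1)), ((0, 0, 0, 0, 0, 0), (0, 0, 0, 0, 0, 0)), ((0, 0, 0, 0, 0, 0), (0, 0, 0, 0, 0, 0)), ((0, 0, 0, 0, 0, 0), (1, 1, (-3), 0, (-1), 1)), ((0, 0, 0, 0, 0, 0), (0, 0, (-2), 0, 3, 5)), ((0, 0, 0, 0, 3, 0), (0, 1, (-1), 0, 0, 0)), ((1, 0, 0, 0, 0, (-1)), (0, 0, 0, 0, 0, 0)), ((0, 0, 0, 0, 0, 0), (0, 0, 0, 0, 0, 0)),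
    ((0, 0, 0, 0, 0, 0), (0, 0, 0, 0, 0, 0)), (((-2), (-1), 4, 0, 1, 0), (0, 0, 0, 0, 0, 0)), ((0, (-1), 2, 0, 0, 0), (0, 0, 0, 0, 0, 0)), ((0, 0, 0, 0, 0, 0), ((-2), (-1), 4, 0, (-1), 1)), ((1, 0, (-1), 0, 0, 0), (0, 0, 0, 0, 0, 0)), ((1, 0, (-1), 0, 0, 0), (0, 0, 0, 0, 0, 0)), ((0, 0, 0, 0, 0, 0), (0, 0, 0, 0, 0, 0)), ((1, 0, (-1), 0, (-4), 0), (2, 2, (-5), 0, (-1), (-1))),
    ((0, 0, 1, 0, 0, 0), (0, 0, 0, 0, 0, 0)), ((5, 4, (-11), 0, 0, (-2)), (0, 0, 0, 0, 2, 0)), ((0, 0, 0, 0, 0, 0), (0, 0, 0, 0, 0, 0)), (((-2), (-2), 6, 0, 2, (-1)), (0, 0, 0, 0, 0, 0)), ((1, 1, (-2), 0, 1, 0), ((-4), (-3), 11, 0, (-3), (-3))), (((-4), (-4), 12, 0, 1, (-2)), (0, 0, 0, 0, 0, 0)), (((-6), (-5), 16, 0, 2, (-2)), ((-5), (-3), 12, 0, 3, (-2))), ((0, 0, 0, 0, 0, 0), ((-3), (-1), 6, 0, 1, (-1))),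
    ((0, 0, 0, 0, 1, 0), (0, 1, (-1), 0, 0, 0)), ((2, 1, (-4), 0, (-4), 1), (3, 3, (-8), 0, (-5), 0)), (((-1), (-1), 3, 0, 1, 0), (0, 0, 1, 0, 0, 0)), ((1, 0, (-1), 0, 0, 0), (0, 0, 0, 0, 0, 0)), ((0, (-1), 2, 0, 0, 0), (0, 0, 0, 0, 0, 0)), ((0, 0, 1, 0, 0, 0), (0, 0, 1, 0, (-1), (-1))), ((0, 0, 0, 0, 0, 0), ((-1), 0, 2, 0, 0, (-1))), ((1, 0, (-1), 0, 0, 0), ((-1), 0, 1, 0, 1, 2)),
    ((0, 0, 0, 0, 1, 0), (0, 0, 0, 0, 0, 0)), ((0, 0, 1, 0, 0, 0), (0, 0, 0, 0, 0, 0)), ((0, 0, 0, 0, 0, 0), (0, 0, 0, 0, 0, 0)), ((4, 0, (-4), (-1), (-3), (-2)), (0, 0, 0, 0, 0, 0)), (((-1), (-1), 2, 0, (-2), 3), ((-1), 0, 1, 0, (-1), 1)), ((1, 0, (-1), 0, 0, 0), (0, 0, 0, 0, 0, 0)), ((0, 0, 1, 0, 0, 0), (0, 0, 0, 0, 0, 0)), ((0, 0, 0, 0, 2, 0), (0, 0, 0, 0, 0, 0)),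
    ((0, 0, 0, 0, 0, 0), (0, 0, 0, 0, 0, 0)), ((2, 2, (-6), 0, 1, 1), (0, 0, 0, 0, 0, 0)), ((0, 0, 0, 0, 0, 0), (0, 0, 1, 0, 0, 0)), (((-1), (-1), 3, 0, 2, 0), (2, 2, (-4), 0, 3, (-3))), ((0, 1, (-3), 0, 1, 3), (0, 0, 0, 0, 0, 0)), ((3, 2, (-5), 0, (-3), (-3)), (0, 0, 0, 0, 0, 0)), ((4, 3, (-8), 0, (-4), (-3)), (3, 3, (-10), 0, 1, 5)), ((1, 0, (-1), 0, 0, 1), (0, 0, 0, 0, 0, 0)),
    ((0, 0, 0, 0, 0, 0), (0, 0, 0, 0, 0, 1)), ((0, 0, 0, 0, 0, 0), (0, 0, 0, 0, 0, 0)), ((8, 7, (-16), 0, (-5), (-9)), (0, 1, (-1), 0, 0, 0)), (((-4), (-3), 8, 0, 7, 3), (0, 0, 1, 0, 0, 0)), ((1, 0, (-1), 0, 1, 0), (0, 0, 0, 0, 0, 0)), (((-3), (-2), 6, 0, 4, 3), (0, 0, 0, 0, 0, 0)), (((-1), 0, 2, 0, 0, 0), ((-2), 0, 3, 0, (-1), (-1))), ((0, 0, 0, 0, 0, 0), (0, 0, 0, 0, 0, 0)),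
    ((1, 1, (-2), 0, (-1), 0), (0, 0, 0, 0, 0, 0)), ((0, 0, 0, 0, 0, 0), (0, 1, (-2), 0, (-1), 1)), ((0, 0, 0, 0, 0, 0), ((-1), 0, 1, 0, 1, 1)), ((0, 0, 0, 0, 0, 0), (0, 1, (-1), 0, 0, 0)), (((-2), (-2), 6, 0, 0, (-1)), (3, 3, (-8), 0, (-1), 1)), ((0, 0, 0, 0, 0, 0), ((-1), 0, 1, 0, 0, 1)), (((-3), (-2), 6, 0, 6, 3), (0, 0, 0, 0, 0, 0)), (((-1), 0, 2, 0, 1, 0), (0, 1, (-1), 0, 0, 0))]

/-- data -/
def mValPart18 : List ((ℤ × ℤ × ℤ × ℤ × ℤ × ℤ) × (ℤ × ℤ × ℤ × ℤ × ℤ × ℤ)) :=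
  [(((-1), (-1), 3, 0, 1, 0), (0, 0, 0, 0, 0, 0)), ((0, 0, 0, 0, 0, 0), ((-1), 1, 0, 0, (-1), 0)), ((0, 0, 0, 0, 0, 0), (0, 0, 0, 0, 0, 0)), (((-6), (-5), 10, 0, 21, 10), ((-1), (-1), 3, 0, 0, 0)), ((0, 0, 0, 0, 0, 0), (2, 2, (-6), 0, 0, 1)), ((0, 0, 0, 0, 0, 0), (0, 0, 0, 0, 0, 0)), (((-2), (-1), 5, 0, 0, (-1)), (0, 0, 0, 0, 0, 0)), ((0, 0, 0, 0, 0, 0), (0, 0, 1, 0, 0, 0)),
    ((0, 1, (-1), 0, 3, (-1)), (0, 0, 0, 0, 0, 0)), ((0, 0, 0, 0, 0, 0), ((-1), 0, 1, 0, 0, 1)), ((2, 5, (-16), 1, 4, 12), (0, 0, 0, 0, 0, 0)), ((8, 7, (-22), 0, 13, 3), (0, 0, 0, 0, 0, 0)), (((-2), (-1), 4, 0, 1, 0), (0, 0, 1, 0, 0, 0)), ((0, 0, 0, 0, 0, 0), ((-1), 0, 2, 0, 0, 0)), ((0, 0, 0, 0, 0, 0), (0, 0, 0, 0, 0, 0)), ((1, 1, (-2), 0, 0, 0), (0, 0, 0, 0, 0, 0)),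
    ((2, 2, (-6), 0, 5, 1), (0, 0, 0, 0, 0, 0)), ((0, 0, 0, 0, 0, 0), (0, 0, 1, 0, 0, 0)), ((0, (-1), 4, 0, (-1), (-3)), (2, 1, (-4), 0, 0, 1)), ((0, 0, 0, 0, 0, 0), ((-1), (-1), 3, 0, 0, 0)), ((0, 0, 0, 0, 0, 0), (0, 0, 0, 0, 0, 0)), ((0, 0, 0, 0, 0, 0), (2, 2, (-5), 0, 2, 0)), ((3, 1, (-3), 0, 0, (-3)), (1, 0, (-1), 0, 0, 0)), ((0, 0, 0, 0, 0, 0), (0, 0, 0, 0, 0, 0)),
    ((0, 0, 0, 0, 0, 0), (1, 0, (-1), 0, 2, 0)), ((0, 0, 0, 0, 0, 0), (0, 0, 1, 0, 0, 0)), ((1, 0, (-1), 0, 1, 0), (0, 0, 0, 0, 0, 0)), ((0, 0, 0, 0, 0, 0), ((-1), 0, 2, 0, 0, 0)), ((0, 0, 0, 0, 0, 0), (0, 0, 0, 0, 0, 0)), ((1, 1, (-2), 0, 0, 0), (3, 2, (-7), 0, (-1), 1)), ((0, 0, 0, 0, 0, 0), (0, 0, 0, 0, 0, 0)), ((6, 4, (-14), 0, (-5), 2), (1, 0, (-1), 0, 1, 0)),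
    (((-5), (-4), 9, 0, 6, 7), ((-1), (-1), 1, 0, 1, 4)), ((0, 0, 0, 0, 0, 0), ((-1), (-1), 3, 0, 1, 0)), ((0, 0, 0, 0, 0, 0), (0, 0, 1, 0, 0, 0)), ((0, 0, 0, 0, 0, 0), ((-1), 0, 2, 0, 0, 0)), (((-2), (-1), 5, 0, (-1), (-1)), ((-1), 0, 0, 0, 1, 3)), ((2, 0, (-2), 0, 0, 0), (4, (-1), 0, (-1), 0, (-6))), ((1, (-1), 1, 0, 1, 0), (0, 0, 0, 0, 0, 0)), ((0, 0, 0, 0, 0, 0), (0, 0, 3, 0, 2, (-4))),
    ((3, 2, (-5), 0, 1, (-3)), (1, 1, (-2), 0, 2, 0)), ((0, 0, 0, 0, 0, 0), (1, 1, (-2), 0, (-2), 0)), ((0, 0, 0, 0, 0, 0), (0, 0, 0, 0, 0, 0)), ((0, 0, 0, 0, 0, 0), ((-3), (-2), 8, 0, 1, (-1))), ((0, 0, 0, 0, 0, 0), ((-1), 0, 2, 0, 1, 0)), ((1, 0, (-1), 0, 0, 0), (0, 0, 0, 0, 0, 0)), ((0, 0, 0, 0, 0, 0), (0, 0, 0, 0, 0, 0)), ((0, 0, 1, 0, 0, 0), (0, 0, 0, 0, 0, 0)),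
    ((0, 0, 0, 0, 0, 0), (0, 0, 0, 0, 0, 0)), ((1, (-1), 0, 0, (-3), 1), (0, 0, 0, 0, 0, 0)), ((2, 0, (-1), 0, 0, (-2)), (0, 0, 0, 0, 0, 0)), ((0, 0, 0, 0, 0, 0), (0, 0, 0, 0, 1, 1)), ((0, 0, 0, 0, 0, 0), (0, 0, 0, 0, 0, 0)), ((0, 0, 0, 0, 0, 0), (0, 1, (-1), 0, 0, 0)), ((1, 0, 0, 0, 0, (-1)), ((-1), (-1), 3, 0, (-1), 0)), (((-3), (-3), 9, 0, 4, (-1)), ((-4), (-3), 10, 0, 2, 0)),
    ((0, 0, 0, 0, 0, 0), ((-1), 0, 2, 0, 0, 0)), (((-3), (-3), 7, 0, 0, 3), (0, 0, 0, 0, 0, 0)), ((1, 0, 0, 0, (-1), (-1)), (0, 0, 0, 0, 0, 0)), ((0, 0, 0, 0, 0, 0), (0, 0, 0, 0, 0, 0)), (((-5), (-5), 13, 0, 2, 2), (0, 0, 0, 0, 0, 0)), ((0, 0, 0, 0, 0, 0), (0, 1, (-1), 0, 0, 0)), ((0, 0, 0, 0, 0, 0), (0, 0, 1, 0, 0, 0)), ((1, 0, (-1), 0, (-3), 0), (3, 2, (-5), 0, 1, (-3)))]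

/-- data -/
def mValPart19 : List ((ℤ × ℤ × ℤ × ℤ × ℤ × ℤ) × (ℤ × ℤ × ℤ × ℤ × ℤ × ℤ)) :=
  [((2, 1, (-3), 0, (-2), (-1)), (0, 0, 0, 0, 0, 0)), ((1, 0, 3, 0, (-8), (-8)), (0, 0, 0, 0, 0, 0)), ((0, 0, 0, 0, 0, 0), ((-3), (-2), 9, 0, (-4), (-4))), (((-4), (-3), 11, 0, (-1), (-2)), (0, 0, 0, 0, 0, 0)), ((5, 4, (-15), 0, (-1), 6), (0, 1, (-1), 0, 0, 0)), ((0, 0, 0, 0, 0, 0), ((-1), 0, 2, 0, 0, 0)), ((0, (-1), 4, 0, (-5), (-4)), (0, 0, 0, 0, 0, 0)), ((0, 0, 0, 0, 0, 0), ((-1), 0, 1, 0, 1, 1)),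
    ((0, 0, 0, 0, 0, 0), (1, 1, (-2), 0, 0, (-1))), ((0, 0, 0, 0, 0, 0), ((-1), (-1), 3, 0, (-2), 1)), (((-2), (-2), 7, 0, 2, (-2)), (0, 0, 1, 0, 0, 0)), ((0, 0, 0, 0, 0, 0), (0, 0, 0, 0, 0, 0)), ((1, 1, (-2), 0, 0, 0), ((-5), (-4), 13, 0, 1, (-1))), ((0, 0, 1, 0, 1, 0), ((-1), 0, 2, 0, 0, (-1))), ((0, 0, 0, 0, 0, 0), (0, 0, 0, 0, 0, 0)), ((0, 0, 1, 0, 0, (-1)), (0, 0, 0, 0, 0, 0)),
    ((1, 1, (-2), 0, 2, 0), (0, 1, (-2), 0, (-1), 1)), ((0, 0, 0, 0, 0, 0), ((-1), 0, 1, 0, 0, 1)), (((-1), 0, 2, 0, 1, 0), (0, 1, 0, 0, (-1), (-1))), ((0, 0, 0, 0, 0, 0), (0, 0, 3, 0, (-3), (-5))), ((2, 1, (-4), 0, 1, 1), (0, 0, 0, 0, 0, 0)), ((0, 0, 0, 0, 0, 0), (1, 1, (-2), 0, 1, 0)), ((2, 1, (-4), 0, (-2), 1), (0, 0, 1, 0, 0, 0)), ((0, 0, 0, 0, 0, 0), ((-4), (-3), 8, 0, (-3), 3)),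
    ((0, 0, 2, 0, (-2), (-3)), ((-1), (-1), 3, 0, 0, 0)), ((0, 0, 0, 0, 0, 0), (0, 0, 0, 0, 0, 0)), ((3, 2, (-7), 0, 0, 1), (0, 0, 0, 0, 0, 0)), (((-2), (-2), 5, 0, 2, 3), (0, 0, 0, 0, 0, 0)), ((0, 0, 1, 0, 0, 0), (0, 0, 0, 0, 0, 0)), ((0, 0, 0, 0, 0, 0), (0, 0, 1, 0, 0, 0)), (((-1), (-2), 5, 0, 2, (-1)), (0, 0, 0, 0, 0, 0)), ((0, 0, 0, 0, 0, 0), ((-1), 0, 1, 0, 0, 1)),
    (((-1), (-1), 2, 0, 0, 3), (0, 0, 0, 0, 0, 0)), (((-3), (-3), 7, 0, 1, 3), (0, 0, 0, 0, 0, 0)), ((0, 0, 0, 0, 0, 0), ((-1), 0, 2, 0, 0, 0)), ((1, 1, (-2), 0, 0, 0), (0, 0, 0, 0, 0, 0)), ((3, 2, (-7), 0, 1, 1), (0, 0, 0, 0, 0, 0)), ((0, 0, 1, 0, 0, 0), (9, 8, (-20), 0, (-11), (-5))), ((0, 0, 0, 0, 0, 0), (0, 0, 0, 0, 0, 0)), ((1, 0, (-1), 0, 0, 0), (0, 0, 0, 0, 0, 0)),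
    (((-9), (-4), 15, 1, 7, 5), ((-2), (-1), 5, 0, 0, (-1))), ((0, 0, 0, 0, 0, 0), (0, 0, 0, 0, 0, 0)), ((0, 0, 0, 0, 0, 0), ((-1), 0, 2, 0, (-1), 0)), ((0, 0, 1, 0, 0, 0), (0, 0, 0, 0, 0, 0)), ((0, (-1), 2, 0, 0, 0), (0, 0, 0, 0, 0, 0)), ((0, 0, 0, 0, 0, 0), (4, 3, (-9), 0, (-3), (-1))), ((0, 0, 1, 0, 0, 0), (0, 0, 0, 0, 0, 0)), ((1, 0, (-1), 0, 0, 0), (7, 5, (-16), 0, 1, 0)),
    ((0, 0, 0, 0, 0, 0), (1, 1, (-2), 0, 0, (-1))), ((0, 0, 1, 0, 0, 0), (0, 0, 0, 0, 0, 0)), ((3, 2, (-7), 0, (-1), 1), (0, 0, 0, 0, 0, 0)), (((-1), (-2), 3, 0, 8, 3), (0, 0, 0, 0, 0, 0)), ((1, 1, (-3), 0, 3, 1), (1, 1, (-2), 0, (-1), 0)), ((1, 1, (-1), 0, 0, (-3)), (0, 0, 0, 0, 0, 0)), ((0, (-1), 2, 0, 0, 0), (1, 1, (-2), 0, (-3), (-1))), ((1, 0, (-1), 0, 0, 0), (1, 0, 0, 0, 1, (-1))),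
    ((0, 0, 0, 0, 1, 0), (0, 0, 0, 0, 0, 0)), ((1, 0, (-1), 0, (-2), 0), (0, 0, 0, 0, 0, 0)), ((0, 0, 1, 0, 0, 0), (0, 0, 0, 0, 0, 0)), ((1, 1, 1, 0, (-2), (-7)), (0, 0, 0, 0, 0, 0)), ((0, 0, 0, 0, 0, 0), (2, 1, (-4), 0, 0, 1)), ((2, 0, (-2), 0, (-1), 0), (0, 0, 0, 0, 0, 0)), ((0, (-1), 2, 0, 0, 0), ((-1), 0, 5, 0, (-1), (-7))), ((3, 2, (-5), 0, (-1), (-3)), ((-2), (-2), 7, 0, 0, (-1)))]

/-- data -/
def mValPart20 : List ((ℤ × ℤ × ℤ × ℤ × ℤ × ℤ) × (ℤ × ℤ × ℤ × ℤ × ℤ × ℤ)) :=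
  [(((-3), (-3), 9, 0, 1, (-1)), (0, 1, (-1), 0, 0, 0)), ((1, 0, (-1), 0, 0, 0), (0, 0, 0, 0, 0, 0)), (((-2), (-1), 5, 0, 0, (-1)), (0, 0, 0, 0, 0, 0)), ((0, 0, 1, 0, 0, 0), (0, 0, 0, 0, 0, 0)), ((0, 0, 0, 0, 0, 0), ((-1), 0, 2, 0, 0, 0)), ((0, 0, 0, 0, 0, 0), (0, 0, 0, 0, 0, 0)), (((-2), 0, 3, 0, 1, (-1)), ((-1), 0, 2, 0, (-1), 0)), ((0, 0, 0, 0, 0, 0), (0, 0, 0, 0, 0, 0)),
    ((0, 0, 0, 0, 0, 0), (0, 0, 0, 0, 0, 0)), ((0, 0, 0, 0, 0, 0), (1, 1, (-3), 0, 0, 2)), ((0, 0, 0, 0, 0, 0), (0, 0, (-2), 0, 1, 5)), ((0, 0, (-2), 0, (-7), 4), (0, 1, (-1), 0, 0, 0)), ((0, 0, 0, 0, 0, 0), (0, 0, 0, 0, 0, 0)), (((-1), (-1), 3, 0, 0, 0), ((-1), 0, 2, 0, (-1), (-1))), ((1, 0, (-1), 0, 0, 0), (0, 0, 0, 0, 0, 0)), ((0, 0, 0, 0, 0, 0), (0, 0, 0, 0, 0, 0)),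
    ((1, 0, (-3), 0, 1, 4), (3, 3, (-7), 0, 2, (-2))), ((0, 0, 1, 0, 0, 0), (0, 0, 0, 0, 0, 0)), ((0, 0, 0, 0, 0, 0), (0, 0, 0, 0, 0, 0)), (((-2), (-2), 6, 0, 2, (-1)), (0, 0, 0, 0, 0, 0)), ((1, 1, (-2), 0, 1, 0), (2, 2, (-5), 0, 2, (-1))), (((-4), (-4), 10, 0, 3, 2), (3, (-1), 1, (-1), 0, (-6))), ((4, 0, (-2), (-1), 1, (-6)), ((-4), (-3), 9, 0, 3, 2)), ((0, 0, 0, 0, 0, 0), ((-3), (-1), 4, 0, 0, 3)),
    ((0, 0, 1, 0, 0, 0), (0, 1, (-1), 0, 0, 0)), ((2, 1, (-4), 0, 4, 1), (0, 0, 1, 0, 0, 0)), ((1, 0, (-1), 0, 0, 0), ((-1), (-1), 3, 0, 1, 1)), ((0, (-1), 2, 0, 0, 0), (0, 0, 0, 0, 0, 0)), ((0, 0, 1, 0, 0, 0), (0, 0, 1, 0, (-1), (-1))), ((0, 0, 0, 0, 0, 0), ((-1), 0, 2, 0, 0, (-1))), ((0, 0, 0, 0, (-1), 0), ((-1), 0, 2, 0, 0, (-1))), (((-2), (-2), 6, 0, 0, 0), (0, 0, 0, 0, 0, 0)),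
    ((0, 0, (-2), 0, 1, 4), (0, 0, 0, 0, 0, 0)), (((-1), (-1), 4, 0, 0, (-1)), (1, 1, 0, 0, (-2), (-5))), ((0, 0, 0, 0, 2, 0), (0, 0, 0, 0, 0, 0)), ((0, 0, 0, 0, 0, 0), (0, 0, 0, 0, 0, 0)), (((-4), (-3), 11, 0, 0, (-1)), (0, 0, 0, 0, 0, 0)), ((1, 0, (-2), 0, 1, 2), (0, 0, 1, 0, 0, 0)), ((1, 0, 1, 0, (-4), (-4)), (0, 0, 0, 0, 0, 0)), ((4, 2, (-6), 0, (-4), (-3)), (0, 0, 0, 0, 0, 0)),
    ((4, 3, (-8), 0, (-4), (-3)), ((-3), (-2), 4, 0, 2, 7)), ((1, 0, (-1), 0, 0, 1), (4, 3, (-10), 0, 2, 2)), ((0, 0, 0, 0, 0, 0), (0, 0, 0, 0, 0, 1)), (((-1), (-1), 0, 0, 1, 7), (5, 5, (-15), 0, (-2), 3)), ((6, 4, (-14), 0, (-2), 2), (0, 1, (-1), 0, 0, 0)), ((2, 2, (-7), 0, 3, 4), (0, 0, 1, 0, 0, 0)), ((1, 0, (-1), 0, 1, 0), ((-2), (-1), 3, 0, 4, 3)), ((3, 3, (-8), 0, 0, 1), (0, 0, 0, 0, 0, 0)),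
    (((-1), 0, 2, 0, 3, 0), (4, 4, (-13), 0, 3, 5)), ((0, 0, 0, 0, 0, 0), (0, 0, 0, 0, 0, 0)), ((1, 1, 0, 0, (-5), (-4)), (0, 0, 0, 0, 0, 0)), ((0, 0, 0, 0, 0, 0), (0, 1, (-2), 0, (-1), 1)), (((-1), (-1), 4, 0, 3, (-2)), ((-1), 0, 1, 0, 1, 1)), ((0, 0, 0, 0, 0, 0), (0, 1, (-1), 0, 0, 0)), (((-2), (-2), 6, 0, 0, (-1)), (3, 3, (-8), 0, (-1), 1)), ((0, 0, 0, 0, 0, 0), ((-1), 0, 1, 0, 0, 1)),
    (((-2), (-2), 7, 0, 1, (-1)), (0, 0, 0, 0, 0, 0)), (((-1), 0, 2, 0, 1, 0), (0, 1, (-1), 0, 0, 0)), (((-1), (-1), 3, 0, 1, 0), (0, 0, 0, 0, 0, 0)), ((0, 0, 0, 0, 0, 0), (0, 1, (-1), 0, (-1), 0)), ((0, 0, 0, 0, 0, 0), (0, 0, 0, 0, 0, 0)), ((0, (-1), 2, 0, (-1), 0), ((-1), (-1), 3, 0, 0, 0)), ((0, 0, 0, 0, 0, 0), (2, 2, (-4), 0, (-2), (-3))), (((-3), (-3), 11, 0, (-2), (-5)), (0, 0, 0, 0, 0, 0))]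

/-- data -/
def mValPart21 : List ((ℤ × ℤ × ℤ × ℤ × ℤ × ℤ) × (ℤ × ℤ × ℤ × ℤ × ℤ × ℤ)) :=
  [((0, 0, 0, 0, 0, 0), (0, 0, 1, 0, 0, 0)), ((0, 1, (-1), 0, 3, (-1)), (0, 0, 0, 0, 0, 0)), ((0, 0, 0, 0, 0, 0), ((-1), 0, 2, 0, 0, 0)), ((0, 0, 1, 0, 1, 0), (0, 0, 0, 0, 0, 0)), (((-2), 2, (-4), 1, 8, 7), (0, 0, 0, 0, 0, 0)), (((-6), (-5), 17, 0, 8, (-2)), (0, 0, 1, 0, 0, 0)), ((0, 0, 0, 0, 0, 0), ((-1), 0, 2, 0, 0, 0)), ((0, 0, 0, 0, 0, 0), ((-6), (-4), 13, 0, 1, 2)),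
    ((1, 1, (-2), 0, 0, 0), (0, 0, 0, 0, 0, 0)), ((2, 2, (-6), 0, 3, 1), (0, 0, 0, 0, 0, 0)), ((0, 0, 0, 0, 0, 0), (1, 0, 0, 0, (-1), (-2))), ((0, 0, 0, 0, 0, 0), (0, 0, 0, 0, 0, 0)), ((1, 0, (-1), 0, 0, 0), (1, 0, 0, 0, 1, (-1))), ((0, 0, 0, 0, 0, 1), (0, 0, 1, 0, (-1), 0)), ((0, 0, 0, 0, 0, 0), (1, 0, (-1), 0, (-1), 0)), ((0, 0, 1, 0, 0, 0), (0, 0, 0, 0, 0, 0)),
    ((1, 0, (-1), 0, 0, 0), (0, 0, 0, 0, 0, 0)), ((0, 0, 0, 0, 0, 0), ((-5), (-3), 12, 0, 3, (-2))), ((0, 0, 0, 0, 0, 0), ((-1), (-1), 3, 0, (-1), 0)), ((0, 0, 1, 0, 0, 0), (0, 0, 0, 0, 0, 0)), (((-1), (-1), 4, 0, 0, (-2)), (1, 1, (-4), 0, 0, 3)), ((0, 0, 0, 0, 0, 0), (0, 0, 0, 0, 0, 0)), ((0, 0, 0, 0, 0, 0), (0, 0, 0, 0, 2, 0)), (((-1), (-1), 4, 0, 0, (-1)), ((-1), (-1), 2, 0, 2, 3)),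
    ((0, 0, 1, 0, 0, 0), ((-3), (-2), 8, 0, 0, (-1))), ((0, 0, 0, 0, 0, 0), (3, 2, (-7), 0, 0, 1)), ((0, 0, 0, 0, 0, 0), ((-1), (-1), 3, 0, 0, 0)), (((-1), 0, 2, 0, (-1), (-1)), (1, 2, (-2), 0, (-2), (-3))), (((-2), (-3), 7, 0, 2, 0), ((-1), (-1), 3, 0, 0, 0)), ((0, 0, 0, 0, 0, 0), (2, 1, (-4), 0, 1, 1)), ((0, 0, 0, 0, 0, 0), (0, 0, 1, 0, 0, 0)), ((2, 1, (-5), 0, 12, 2), ((-2), (-2), 4, 0, (-1), 4)),
    ((5, 4, (-7), 0, (-22), (-10)), (6, 6, (-10), 0, (-25), (-13))), ((0, 0, 0, 0, 0, 0), ((-10), (-12), 30, (-1), 4, 1)), (((-2), (-2), 6, 0, 3, 0), (0, 0, 1, 0, 0, 0)), ((1, 0, (-1), 0, 1, 0), (2, 2, (-10), 0, 1, 9)), ((0, 0, 0, 0, 0, 0), ((-1), 0, 2, 0, 0, 0)), ((0, 0, 0, 0, 0, 0), (0, 1, (-4), 0, 2, 5)), ((1, 1, (-2), 0, 0, 0), (5, 4, (-13), 0, (-1), 2)), ((0, 0, 0, 0, 0, 0), (0, 0, 0, 0, 0, 0)),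
    (((-8), (-6), 17, 0, (-6), 4), ((-2), (-2), 7, 0, (-4), (-1))), (((-1), (-1), 4, 0, 1, (-1)), ((-1), 0, 1, 0, (-1), 1)), ((0, 0, 0, 0, 0, 0), ((-1), (-1), 1, 0, 0, 4)), ((0, 0, 1, 0, 0, 0), ((-2), (-1), 2, 0, (-7), 4)), ((2, 2, (-5), 0, (-1), (-1)), (0, 1, (-2), 0, 0, 1)), ((1, 1, (-2), 0, (-1), (-1)), ((-1), 0, 2, 0, 0, 0)), (((-2), (-1), 5, 0, (-1), (-1)), ((-4), (-2), 10, 0, (-4), (-4))), ((2, 0, (-2), 0, 0, 0), (0, 0, 0, 0, 0, 0)),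
    ((0, 0, 0, 0, 0, 0), (0, 0, 1, 0, (-1), 0)), (((-2), (-2), 4, 0, 0, 3), (2, 2, (-5), 0, 0, 0)), ((3, 3, (-8), 0, 0, 0), (0, 0, 0, 0, 0, 0)), ((0, 0, 0, 0, 0, 0), (2, 1, (-4), 0, 2, 0)), (((-2), (-1), 7, 0, (-7), (-6)), (0, 0, 0, 0, 0, 0)), (((-11), (-10), 27, 0, 0, 4), (0, 0, (-2), 0, (-2), 4)), (((-9), (-8), 23, 0, 1, 1), ((-2), (-1), 5, 0, (-1), (-1))), ((0, 0, 0, 0, 0, 0), ((-3), (-2), 8, 0, (-5), (-1))),
    ((0, (-1), 2, 0, 0, 0), ((-1), (-1), 3, 0, 0, 0)), ((1, 0, (-1), 0, 0, 0), (0, 0, 0, 0, 0, 0)), ((0, 0, 0, 0, 0, 0), ((-2), (-1), 4, 0, (-3), 0)), ((0, 0, 1, 0, 0, 0), ((-2), (-1), 4, 0, (-1), 0)), ((0, 0, 0, 0, 0, 0), (0, 0, 1, 0, 0, 0)), (((-1), (-1), 5, 0, 1, (-3)), (1, 1, (-3), 0, (-2), 1)), ((0, 0, 0, 0, 0, 0), ((-1), (-1), 3, 0, 0, 0)), ((1, 1, (-2), 0, 1, (-1)), (0, 0, 0, 0, 0, 0))]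

/-- data -/
def mValPart22 : List ((ℤ × ℤ × ℤ × ℤ × ℤ × ℤ) × (ℤ × ℤ × ℤ × ℤ × ℤ × ℤ)) :=
  [((2, 1, (-4), 0, (-1), 1), (0, 0, 0, 0, 0, 0)), ((0, 0, 0, 0, 0, 0), (0, 0, 1, 0, 0, 0)), ((1, 0, (-1), 0, 1, 0), (0, 0, 0, 0, 0, 0)), ((0, 0, 0, 0, 0, 0), (0, 0, 0, 0, 0, 0)), ((1, 1, (-2), 0, 0, 0), (1, 1, (-3), 0, (-2), 1)), (((-1), 0, 2, 0, 0, 0), ((-2), 0, 3, 0, (-1), (-1))), (((-9), (-1), 11, 2, 5, 4), (1, 1, (-2), 0, 1, 0)), ((0, 0, 0, 0, 0, 0), (0, 0, 1, 0, 0, 0)),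
    ((0, 0, 0, 0, 0, 0), ((-1), 0, 2, 0, 0, 0)), (((-3), (-1), 6, 0, (-3), (-1)), ((-2), 0, 7, 0, 1, (-9))), ((1, 0, (-1), 0, (-1), 0), ((-1), (-1), 3, 0, 2, 0)), ((0, 0, 0, 0, 0, 0), (0, 1, (-1), 0, (-1), 0)), ((0, 0, 0, 0, 0, 0), (0, 0, 0, 0, 0, 0)), ((0, 0, 0, 0, 0, 0), ((-4), (-2), 9, 0, 2, (-1))), ((0, 0, 0, 0, 0, 0), ((-1), 0, 2, 0, 1, 0)), ((1, 0, (-1), 0, 0, 0), (1, 0, (-2), 0, 1, 2)),
    ((0, (-1), 2, 0, 0, 0), (0, 0, 0, 0, 0, 0)), (((-5), (-5), 16, 0, 5, (-3)), ((-2), (-2), 5, 0, 3, 1)), ((0, 0, 1, 0, 0, 0), (0, 0, 0, 0, 0, 0)), (((-5), (-5), 13, 0, 2, 2), (0, 0, (-1), 0, 1, 3)), ((1, 1, (-4), 0, 1, 3), (1, 0, (-4), 0, 5, 6)), ((0, 0, 1, 0, 0, 0), (2, 2, (-5), 0, (-4), 0)), ((0, 0, 0, 0, 0, 0), (0, 0, 1, 0, 0, 0)), ((1, 0, (-1), 0, (-1), 0), (0, 0, 0, 0, (-1), 0)),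
    ((3, 2, (-7), 0, (-2), 1), (0, 0, 0, 0, 0, 0)), ((6, 5, (-12), 0, (-5), (-6)), (1, 1, (-2), 0, (-1), 0)), ((1, 1, (-3), 0, 5, 1), (3, 3, (-10), 0, 1, 5)), (((-2), (-3), 7, 0, 0, 0), (0, 0, 0, 0, 0, 0)), ((1, 0, (-1), 0, 0, 0), ((-2), (-2), 5, 0, 0, 2)), ((0, 0, 1, 0, 0, 0), (2, 2, (-5), 0, (-2), 0)), ((6, 5, (-14), 0, 1, (-1)), (5, 5, (-12), 0, 0, (-3))), ((1, 0, 1, 0, (-2), (-3)), (0, 0, 1, 0, 0, 0)),
    ((2, 1, (-5), 0, (-2), 2), (0, 1, (-3), 0, (-2), 4)), ((4, 4, (-10), 0, (-3), (-1)), (4, 4, (-10), 0, (-2), (-2))), ((1, 0, (-1), 0, 0, 0), (1, 0, 0, 0, 1, (-1))), ((0, 0, 0, 0, 1, 0), (0, 0, 0, 0, 0, 0)), ((0, 0, 1, 0, 0, 0), (0, 0, 0, 0, 0, 0)), ((0, (-1), 2, 0, 0, 0), ((-4), (-6), 13, (-1), 0, 2)), ((0, 0, 0, 0, 0, 0), ((-3), (-2), 8, 0, (-1), (-1))), ((0, 0, 0, 0, 0, 0), (0, 0, 0, 0, 0, 0)),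
    ((0, 0, 0, 0, 0, 0), (0, 0, 0, 0, 0, 0)), ((0, 0, 0, 0, 0, 0), (0, 1, (-1), 0, 0, 0)), ((0, 0, 0, 0, (-1), 0), (0, 0, 0, 0, 0, 0)), (((-2), (-1), 5, 0, 1, (-1)), (0, 1, (-3), 0, (-1), 4)), ((0, 0, 0, 0, 0, 0), ((-2), (-1), 4, 0, (-3), 0)), ((0, 0, 1, 0, 0, 0), (0, 0, 0, 0, 0, 0)), ((3, 3, (-8), 0, 2, 1), (1, 1, (-2), 0, 0, 0)), ((0, 0, 0, 0, 0, 0), ((-1), 0, 2, 0, (-1), (-1))),
    ((0, 0, 0, 0, 0, 0), (0, 0, 0, 0, 0, 0)), ((1, 1, (-2), 0, 1, 0), (1, 2, (-4), 0, 2, 0)), ((1, 0, (-1), 0, 0, 0), (2, 2, (-6), 0, (-1), 1)), (((-1), (-1), 3, 0, 0, 0), (0, 0, 0, 0, 0, 0)), ((0, 0, 1, 0, 0, 0), (0, 0, 0, 0, 0, 0)), ((0, 0, 0, 0, 0, 0), (0, 0, 0, 0, 0, 0)), ((0, 0, 0, 0, (-1), 0), (0, 1, (-1), 0, 0, 0)), ((1, 0, (-1), 0, 1, 0), (6, 5, (-14), 0, (-2), (-2))),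
    ((0, (-1), 2, 0, 0, 0), (0, 0, 0, 0, 0, 0)), (((-4), (-4), 12, 0, (-5), (-2)), ((-2), (-1), 4, 0, (-1), 1)), (((-7), (-3), 11, 1, 1, 5), (1, 1, (-2), 0, 0, 0)), ((0, 0, 1, 0, 0, 0), (0, 0, 0, 0, 0, 0)), (((-6), (-5), 14, 0, (-1), 2), (1, 2, (-4), 0, (-1), 0)), ((0, 0, 0, 0, 3, 0), (0, 1, (-1), 0, 0, 0)), ((1, 0, (-1), 0, 0, 0), (0, 0, 0, 0, 0, 0)), ((0, (-1), 2, 0, 0, 0), (0, 0, 0, 0, 0, 0))]

/-- data -/
def mValPart23 : List ((ℤ × ℤ × ℤ × ℤ × ℤ × ℤ) × (ℤ × ℤ × ℤ × ℤ × ℤ × ℤ)) :=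
  [((0, 0, 1, 0, 0, 0), (0, 0, 1, 0, (-1), (-1))), ((0, 0, 0, 0, 0, 0), (0, 1, (-3), 0, 1, 4)), ((1, 0, (-3), 0, 1, 4), ((-1), 0, 1, 0, 1, 2)), ((0, 0, 0, 0, 0, 0), (0, 0, 0, 0, 0, 0)), ((1, 0, (-1), 0, 0, 0), (0, 0, 0, 0, 0, 0)), ((0, 0, 1, 0, 0, 0), (0, 0, 0, 0, 0, 0)), ((0, 1, (-3), 0, 2, 3), (0, 0, 0, 0, 0, 0)), ((2, 2, (-6), 0, 1, 1), (0, 0, 0, 0, 0, 0)),
    ((0, 0, 2, 0, 0, (-3)), (0, 0, 1, 0, 0, 0)), (((-1), (-1), 3, 0, 2, 0), ((-4), (-3), 10, 0, 7, (-1))), ((0, 0, 0, 0, 0, 0), ((-2), (-1), 2, 0, 1, 4)), ((2, 2, (-10), 0, (-1), 9), (0, 0, 1, 0, 0, 0)), ((1, 1, (-2), 0, 1, 0), (0, 0, 0, 0, 0, 0)), (((-3), (-2), 8, 0, (-3), (-1)), (0, 0, 0, 0, 0, 0)), ((1, 1, (-2), 0, (-1), (-1)), (0, 1, 0, 0, (-4), (-3))), ((0, 0, 0, 0, 0, 0), (0, 1, 0, 0, (-2), (-3))),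
    ((0, 0, 0, 0, 0, 0), ((-1), 0, (-1), 0, 6, 5)), (((-4), (-3), 8, 0, (-3), 3), (0, 1, (-1), 0, 0, 0)), (((-2), (-2), 6, 0, (-1), (-1)), (3, 3, (-8), 0, 3, 1)), ((0, 0, 0, 0, 0, 0), ((-1), 0, 1, 0, 1, 1)), (((-3), (-2), 8, 0, 1, (-1)), (0, 0, 0, 0, 0, 0)), (((-1), 0, 2, 0, 1, 0), (0, 1, (-1), 0, 0, 0)), (((-1), (-1), 3, 0, 1, 0), ((-3), (-2), 10, 0, (-1), (-5))), ((0, 1, 1, 0, (-2), (-4)), ((-1), 1, 0, 0, (-1), 0)),
    ((5, (-1), (-8), (-1), 12, 7), (0, 0, 0, 0, 0, 0)), ((0, 0, 0, 0, 0, 0), (0, 0, 0, 0, 1, 1)), ((0, 0, 0, 0, 0, 0), (0, 0, 0, 0, 0, 0)), ((0, 0, 0, 0, 0, 0), (0, 1, (-1), 0, 0, 0)), ((1, 0, 0, 0, 0, (-1)), ((-1), (-1), 3, 0, (-1), 0)), ((6, 3, (-10), 0, 1, (-3)), ((-1), 0, 2, 0, 0, 0)), ((4, 2, (-8), 0, 1, 1), (0, 0, 0, 0, 0, 0)), ((0, 0, 0, 0, 0, 0), (0, 0, 1, 0, 0, 0)),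
    ((1, 0, (-2), 0, 2, 3), (0, 0, 0, 0, 0, 0)), ((7, 5, (-23), 0, (-3), 14), (0, 0, 0, 0, 0, 0)), ((0, 0, 0, 0, 0, 0), ((-3), (-2), 9, 0, 3, (-4))), (((-4), (-4), 13, 0, 2, (-2)), (0, 0, 0, 0, 0, 0)), (((-5), (-4), 8, 0, 22, 10), (0, 1, (-1), 0, 0, 0)), ((0, 0, 0, 0, 0, 0), ((-1), 0, 2, 0, 0, 0)), ((0, (-1), 2, 0, (-4), 0), (0, 0, 0, 0, 0, 0)), ((1, 1, (-2), 0, 0, 0), (0, 0, 0, 0, 5, 1)),
    ((0, 0, 0, 0, 0, 0), (0, 0, 0, 0, 0, 0)), ((0, 0, 0, 0, 0, 0), ((-1), 0, 3, 0, (-1), (-2))), ((3, 1, (-3), 0, (-1), (-3)), (0, 0, 0, 0, 0, 0)), ((4, 2, (-6), 0, 5, (-3)), (2, 1, (-3), 0, 3, 0)), ((0, 0, 0, 0, 0, 0), (0, 0, 1, 0, 0, 0)), ((0, 0, 0, 0, 0, 0), ((-1), 0, 1, 0, 0, 1)), (((-1), (-1), 2, 0, 0, 3), (0, 0, 0, 0, 0, 0)), ((0, 0, 0, 0, 0, 0), ((-1), 0, 2, 0, 0, 0)),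
    (((-4), (-4), 17, 0, 9, (-10)), (1, 1, (-2), 0, 1, (-1))), ((1, 1, (-3), 0, 3, 1), (0, 0, 0, 0, 0, 0)), ((1, 0, (-1), 0, 0, 0), (0, 0, 1, 0, 3, (-1))), ((1, 1, (-3), 0, 6, 1), (4, 4, (-11), 0, 2, 1)), ((0, 0, 0, 0, 1, 1), (0, 0, 0, 0, 0, 0)), (((-3), (-3), 7, 0, 1, 3), ((-1), 0, 2, 0, (-1), 0)), ((0, 0, 1, 0, 0, 0), (1, 1, (-6), 0, 5, 8)), ((0, (-1), 2, 0, 0, 0), (0, 0, 0, 0, 0, 0)),
    ((0, 0, 1, 0, 0, 0), (0, 0, 0, 0, 0, 0)), ((1, 0, (-1), 0, 0, 0), (1, 0, (-2), 0, (-2), 2)), ((0, 0, 0, 0, 0, 0), (1, 1, (-2), 0, 0, (-1))), ((0, 0, 1, 0, 0, 0), (0, 0, 0, 0, 0, 0)), (((-4), (-4), 8, 0, (-1), 7), (0, 0, 0, 0, 0, 0)), (((-1), (-2), 5, 0, (-1), (-1)), (0, 0, 3, 0, (-4), (-5))), ((1, 1, (-3), 0, 1, 1), (1, 1, (-2), 0, (-1), 0)), ((0, (-1), 2, 0, 0, 0), (2, 1, (-2), 0, (-2), (-2)))]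

/-- data -/
def mValPart24 : List ((ℤ × ℤ × ℤ × ℤ × ℤ × ℤ) × (ℤ × ℤ × ℤ × ℤ × ℤ × ℤ)) :=
  [((1, 0, (-1), 0, 0, 0), (1, 0, 0, 0, 1, (-1))), ((0, 0, 0, 0, 1, 0), (0, 0, 0, 0, 0, 0)), ((0, 0, 1, 0, 0, 0), ((-1), 0, 2, 0, 3, (-1))), ((1, 0, 1, 0, (-1), (-3)), (0, 0, 3, 0, 2, (-4))), ((0, (-2), 8, 0, (-6), (-9)), (2, 1, (-4), 0, 0, 1)), ((0, (-1), 2, 0, 0, 0), (5, 5, (-19), 0, (-2), 11)), (((-3), (-3), 9, 0, 1, (-1)), (0, 1, (-1), 0, 0, 0)), ((1, 0, (-1), 0, 0, 0), (0, 0, 0, 0, 0, 0)),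
    ((0, 0, 1, 0, 0, 0), (0, 0, 0, 0, 0, 0)), ((0, 0, 0, 0, 0, 0), ((-1), 0, 2, 0, 0, 0)), (((-2), 0, 3, 0, 1, (-1)), ((-1), 0, 2, 0, (-1), 0)), ((0, 0, 0, 0, 0, 0), ((-5), (-1), 8, 1, 0, 0)), (((-2), (-2), 6, 0, 1, (-1)), (0, 0, 0, 0, 0, 0)), ((1, 1, (-2), 0, 1, 0), ((-2), (-2), 6, 0, 1, 1)), ((0, 0, 0, 0, 0, 0), ((-2), (-1), 5, 0, 1, (-1))), ((0, 0, 1, 0, 4, 0), (0, 1, (-1), 0, 0, 0)),
    ((1, 0, (-1), 0, 0, 0), ((-1), (-1), 3, 0, 3, 1)), ((0, (-1), 2, 0, 0, 1), (0, 0, 0, 0, 0, 0)), ((0, 0, 1, 0, 0, 0), (0, 0, 1, 0, (-1), (-1))), (((-1), (-1), 4, 0, 0, (-1)), (1, 0, 0, 0, (-1), (-1))), ((1, 0, (-2), 0, 2, 2), (0, 0, 1, 0, 0, 0)), ((1, 0, (-1), 0, (-3), 0), (0, 0, 0, 0, 0, 0)), (((-2), (-3), 12, 0, (-1), (-9)), (0, 0, 0, 0, 0, 0)), (((-5), (-5), 14, 0, (-1), 1), (0, 0, 0, 0, 0, 1)),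
    (((-1), (-1), 6, 0, (-1), (-5)), ((-1), 0, 5, 0, (-4), (-7))), (((-4), (-1), 4, 1, (-2), 6), (0, 1, (-1), 0, 0, 0)), ((1, 0, (-1), 0, 1, 0), (3, 3, (-8), 0, 2, 1)), ((3, 3, (-8), 0, 1, 1), (3, 3, (-8), 0, 0, 1)), (((-1), 0, 2, 0, 3, 0), ((-2), (-1), 5, 0, 3, (-1))), ((0, 0, 0, 0, 0, 0), (0, 0, 0, 0, 0, 0)), ((0, 0, 0, 0, 0, 0), (0, 1, (-2), 0, (-1), 1)), (((-1), (-1), 2, 0, (-1), 2), ((-1), 0, (-1), 0, (-2), 5)),
    (((-1), (-1), 1, 0, 1, 4), (0, 1, (-1), 0, 0, 0)), (((-2), (-2), 7, 0, 0, (-1)), (4, 3, (-9), 0, 0, 1)), ((3, (-2), (-1), (-1), 2, 1), ((-1), 0, 1, 0, 0, 1)), (((-1), (-1), 3, 0, 1, 0), (0, 0, 0, 0, 0, 0)), ((0, 0, 0, 0, 0, 0), (0, 1, (-1), 0, (-1), 0)), ((0, 0, 0, 0, 0, 0), (0, 0, 1, 0, 0, 0)), ((0, 0, 1, 0, 2, 0), (0, 0, 0, 0, 0, 0)), (((-15), (-13), 35, 0, (-2), 7), ((-1), 0, 0, 0, (-1), 3)),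
    ((0, 0, 0, 0, 0, 0), ((-1), 0, 2, 0, 0, 0)), ((0, 0, 0, 0, 0, 0), (7, 7, (-14), 0, (-5), (-9))), ((1, 1, (-2), 0, 0, 0), (0, 0, 0, 0, 0, 0)), ((2, 2, (-8), 0, 3, 5), ((-1), 1, 0, 0, 0, 0)), ((2, 0, (-2), 0, 1, 1), (0, 0, 0, 0, 0, 0)), ((3, 1, (-3), 0, 3, (-3)), (1, 0, 0, 0, 3, (-1))), ((0, (-1), 2, 0, 0, 1), (0, 0, 1, 0, (-1), 0)), ((1, 0, (-1), 0, 0, 0), (7, 8, (-11), 1, (-29), (-19))),
    (((-2), (-2), 4, 0, 1, 4), (1, 2, 0, 0, 2, (-8))), ((0, 0, 1, 0, 0, 0), (0, (-1), 4, 0, 7, (-4))), (((-2), (-2), 7, 0, 1, (-1)), ((-1), (-1), 4, 0, (-1), (-1))), (((-2), (-1), 5, 0, 2, (-1)), (2, 2, (-3), 0, (-1), (-3))), ((0, 0, 0, 0, 0, 0), (0, 0, 0, 0, 0, 0)), ((0, (-1), 4, 0, 1, (-4)), (2, (-2), 1, (-1), (-1), 1)), (((-1), (-1), 4, 0, 1, (-1)), (0, 0, 3, 0, (-1), (-4))), ((0, 0, 1, 0, 0, 0), ((-1), (-1), 5, 0, 0, (-4))),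
    (((-4), (-5), 14, 0, 1, (-2)), (0, 0, 3, 0, (-1), (-5))), (((-2), (-2), 6, 0, 2, 0), ((-4), (-3), 13, 0, 1, (-6))), ((0, 0, 0, 0, 0, 0), (2, 1, (-4), 0, (-1), 0)), (((-2), (-1), 5, 0, (-8), (-2)), (0, 0, 0, 0, 0, 0)), ((0, 0, 0, 0, 0, 0), ((-3), (-2), 8, 0, 4, (-1))), ((1, 0, (-1), 0, 0, 0), (0, 0, 0, 0, 0, 0)), ((0, 0, 0, 0, 0, 0), ((-1), 0, 4, 0, (-1), (-4))), ((0, 0, 1, 0, 0, 0), ((-6), (-1), 6, 1, 7, 6))]

/-- data -/
def mValPart25 : List ((ℤ × ℤ × ℤ × ℤ × ℤ × ℤ) × (ℤ × ℤ × ℤ × ℤ × ℤ × ℤ)) :=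
  [((1, 0, (-1), 0, 0, 0), (2, 0, (-3), 0, 3, 2)), ((0, (-1), 2, 0, 0, 0), (0, 0, 0, 0, 0, 0)), (((-5), (-5), 16, 0, 3, (-3)), ((-1), (-1), 4, 0, 1, (-2))), ((0, 0, 1, 0, 0, 0), (0, 0, 0, 0, 0, 0)), ((1, 0, (-1), 0, 1, 0), (0, 0, (-1), 0, 0, 3)), ((2, 1, (-5), 0, (-1), 3), (5, 0, (-8), (-1), (-9), 4)), ((0, 0, 0, 0, 0, 0), (0, 0, 1, 0, 0, 0)), ((1, 0, (-1), 0, 0, 0), (1, 0, 1, 0, (-3), (-4))),
    ((0, 0, (-2), 0, 3, 5), ((-1), 0, 0, 0, 1, 3)), (((-5), (-5), 27, 0, (-8), (-25)), (0, 0, 1, 0, 0, 0)), ((1, 0, (-1), 0, 1, 1), (0, 1, (-1), 0, 2, 0)), (((-1), (-1), 3, 0, 2, 1), ((-1), (-1), 3, 0, 0, 0)), ((1, 0, (-1), 0, 0, 0), (1, 0, 0, 0, 1, (-1))), ((0, 0, 0, 0, 1, 0), (0, 0, 0, 0, 0, 0)), ((0, 0, 1, 0, 0, 0), (0, 0, 0, 0, 0, 0)), (((-5), (-5), 13, 0, 4, 2), ((-3), (-2), 8, 0, 0, (-1))),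
    ((0, 0, 0, 0, 0, 0), (0, 0, 0, 0, 0, 0)), ((2, 1, (-4), 0, 0, 1), (1, 1, 0, 0, (-3), (-4))), ((0, 0, 1, 0, 0, 0), (0, 0, 0, 0, 0, 0)), (((-3), (-2), 6, 0, 7, 3), (1, 1, (-2), 0, 0, 0)), ((1, 1, (-2), 0, 1, 0), (1, 2, (-4), 0, 2, 0)), ((1, 0, (-1), 0, 0, 0), (1, 1, (-2), 0, 0, 0)), (((-1), (-1), 3, 0, 0, 0), (0, 0, 0, 0, 0, 0)), ((0, 0, 1, 0, 0, 0), (0, 0, 0, 0, 0, 0)),
    ((0, 0, 0, 0, 3, 0), (0, 1, (-1), 0, 0, 0)), ((1, 0, (-1), 0, 1, 0), (10, 5, (-20), (-1), 4, 0)), ((3, 2, (-8), 0, 3, 4), (4, 3, (-10), 0, 3, 3)), ((0, 0, 2, 0, (-2), (-4)), (0, 1, (-1), 0, 0, 0)), ((1, 0, (-1), 0, 0, 0), (0, 0, 0, 0, 0, 0)), ((0, (-1), 2, 0, 0, 0), (0, 0, 0, 0, 0, 0)), ((0, 0, 1, 0, 0, 0), (0, 0, 1, 0, (-1), (-1))), ((0, 0, 0, 0, 0, 0), (0, 1, (-1), 0, 1, 0)),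
    ((0, 0, 0, 0, 0, 0), (0, 0, 0, 0, 0, 0)), ((1, 0, (-1), 0, 0, 0), (0, 0, 0, 0, 0, 0)), ((0, 0, 1, 0, 0, 0), (0, 0, 0, 0, 0, 0)), ((0, 1, (-1), 0, 0, (-1)), (0, 0, 0, 0, 0, 0)), (((-5), (-3), 14, 0, (-1), (-6)), (0, 0, 0, 0, 0, 0)), ((1, 0, 1, 0, 4, (-3)), (0, 0, 1, 0, 0, 0)), ((4, 3, (-8), 0, (-3), (-2)), (2, 2, (-3), 0, 0, (-3))), (((-3), (-3), 9, 0, 1, (-1)), (5, 4, (-13), 0, 10, 2)),
    ((1, 1, (-2), 0, 1, 0), (2, 3, (-5), 0, (-6), (-3))), ((1, 1, (-2), 0, (-1), (-1)), (0, 1, 0, 0, (-2), (-3))), ((0, 0, 0, 0, 0, 0), (0, 1, (-2), 0, (-1), 1)), ((1, 1, (-2), 0, (-1), 0), ((-1), 0, 1, 0, 1, 1)), (((-3), (-3), 9, 0, 5, (-1)), (0, 1, (-1), 0, 0, 0)), (((-8), (-7), 24, 0, (-14), (-7)), ((-3), (-2), 4, 0, 4, 7)), ((0, 0, 0, 0, 0, 0), ((-1), 0, 1, 0, 1, 1)), (((-9), (-7), 24, 0, 1, (-3)), (0, 0, 0, 0, 0, 0)),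
    (((-8), (-6), 25, 0, 5, (-11)), ((-3), (-2), 10, 0, (-1), (-5))), ((0, 1, (-1), 0, 2, 0), ((-1), 1, 0, 0, (-1), 0)), ((0, 0, 0, 0, 0, 0), (0, 0, 1, 0, 0, 0)), ((1, (-1), 4, 0, 5, (-7)), ((-1), (-1), 3, 0, 0, 0)), ((0, 0, 0, 0, 0, 0), (0, 0, 0, 0, 0, 0)), ((3, 1, (-5), 0, 0, 1), (1, 0, (-1), 0, 0, 0)), ((0, 0, 1, 0, 0, (-1)), (4, 4, (-12), 0, 1, 2)), ((0, 0, 0, 0, 0, 0), ((-1), 2, 1, 1, (-2), (-5))),
    ((0, 0, 0, 0, 0, 0), ((-1), 0, 2, 0, 0, 0)), ((1, 1, (-2), 0, 0, 0), (1, 1, (-3), 0, (-4), 1)), ((0, 0, 0, 0, 0, 0), (1, 1, (-1), 0, (-2), (-3))), ((2, 0, (-2), 0, 0, 0), (0, (-1), 0, 0, (-5), 4)), ((1, (-1), 1, 0, 1, 0), (0, 0, 0, 0, 0, 0)), ((0, 0, 0, 0, 0, 0), (0, 0, 1, 0, 0, 0)), ((2, 2, (-7), 0, 3, 3), ((-1), 0, 2, 0, 1, 0)), ((2, 1, (-2), 0, 0, (-3)), (0, 0, 0, 0, 0, 0))]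

/-- data -/
def mValPart26 : List ((ℤ × ℤ × ℤ × ℤ × ℤ × ℤ) × (ℤ × ℤ × ℤ × ℤ × ℤ × ℤ)) :=
  [((0, 0, 0, 0, 0, 0), ((-2), (-2), 4, 0, (-2), 4)), ((1, 0, 0, 0, (-1), (-1)), (0, 0, (-2), 0, 1, 5)), ((0, 0, (-1), 0, 5, 3), (0, 0, 1, 0, 0, 0)), ((0, 0, 0, 0, 0, 0), ((-1), (-1), 3, 0, 1, 1)), (((-4), (-3), 7, 0, 5, 6), (0, 0, 0, 0, 0, 0)), ((0, 0, 0, 0, 0, 0), ((-1), 0, 5, 0, (-2), (-7))), ((0, 0, 0, 0, 0, 0), (1, 1, (-2), 0, 0, (-1))), ((1, 1, (-2), 0, 0, 0), ((-6), (-5), 18, 0, (-2), (-5))),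
    ((0, 0, 0, 0, 0, 0), ((-1), (-1), 4, 0, 1, (-1))), ((7, 2, (-7), (-1), (-2), (-9)), (1, 1, (-2), 0, 1, 0)), ((0, 0, 1, 0, 0, 0), (4, 4, (-11), 0, (-2), 1)), ((0, 0, 0, 0, 0, 0), (0, 0, 1, 0, 0, 0)), (((-7), (-6), 22, 0, 2, (-7)), (0, 0, 0, 0, 0, 0)), ((0, 0, 0, 0, 0, 0), ((-1), 0, 2, 0, 0, 0)), ((0, (-1), 2, 0, 1, 0), (0, 0, 0, 0, 0, 0)), (((-1), 0, 2, 0, (-1), (-1)), (0, 1, 4, 0, (-3), (-11))),
    ((0, (-1), 1, 0, 4, 1), (0, 0, 0, 0, 0, 0)), ((0, 0, 0, 0, 0, 0), (0, 0, 0, 0, 1, 1)), ((0, 0, (-2), 0, (-8), 4), (0, 1, (-1), 0, 0, 0)), ((0, 0, (-1), 0, (-4), 3), ((-3), (-6), 15, (-1), (-6), (-4))), ((6, 5, (-16), 0, (-4), 2), (6, 2, (-13), (-1), (-3), 6)), ((3, 6, (-14), 1, (-8), 4), ((-3), (-1), 6, 0, 0, (-1))), (((-4), 0, 5, 1, (-3), 2), (0, 1, (-1), 0, 0, 0)), ((0, 0, 0, 0, 0, 0), (0, 0, 0, 0, 0, 0)),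
    ((0, 0, 0, 0, 0, 0), ((-2), 0, 4, 0, 0, (-2))), ((0, 0, 0, 0, 0, 0), (0, 0, 1, 0, 0, 0)), ((0, 0, 0, 0, 0, 0), ((-1), 0, 2, 0, 0, 0)), ((0, 0, 1, 0, 1, 0), (0, 0, 0, 0, 0, 0)), ((0, 0, 0, 0, 0, 0), ((-1), 0, 2, 0, 0, 0)), ((1, 1, (-2), 0, (-1), 0), (0, 1, (-3), 0, 0, 3)), ((0, 0, 0, 0, 0, 0), (0, 0, 0, 0, 0, 0)), (((-6), (-5), 12, 0, 6, 7), (0, 0, 1, 0, (-1), 0)),
    ((0, 0, 0, 0, 0, 0), (0, 0, (-2), 0, 3, 4)), ((0, 0, 1, 0, 0, 0), ((-3), (-2), 8, 0, 0, (-1))), ((0, 0, 0, 0, 0, 0), (2, 1, (-4), 0, (-2), 1)), (((-1), (-1), 4, 0, 0, (-2)), (0, 0, 0, 0, 0, 0)), (((-1), (-1), 4, 0, 1, (-1)), ((-1), 0, 1, 0, 1, 1)), ((1, 0, 1, 0, 4, (-4)), ((-2), (-1), 5, 0, 3, (-1))), ((0, 0, 0, 0, 0, 0), (0, 0, 1, 0, 0, 0)), (((-1), (-1), 3, 0, 2, 1), ((-9), (-4), 15, 1, 5, 5)),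
    (((-2), (-2), 5, 0, 1, 1), ((-1), (-1), 3, 0, 0, 0)), ((1, 1, (-2), 0, 1, (-1)), (0, 0, 0, 0, 0, 0)), ((6, 1, (-8), (-1), (-1), (-1)), (0, 0, (-2), 0, 2, 4)), ((1, 0, (-1), 0, 1, 0), ((-3), (-1), 6, 0, 4, (-1))), ((1, 1, (-2), 0, 0, 0), (1, 1, (-3), 0, 2, 1)), (((-1), 0, 2, 0, 1, 0), ((-2), 0, 3, 0, 0, (-1))), ((0, 0, 0, 0, 0, 0), (0, 0, 1, 0, 0, 0)), ((0, 0, 0, 0, 0, 0), ((-1), 0, 2, 0, 0, 0)),
    (((-3), (-1), 6, 0, (-3), (-1)), ((-3), (-1), 4, 0, 1, 3)), ((0, 0, 0, 0, 0, 0), ((-4), (-2), 9, 0, (-4), (-1))), (((-2), 0, 1, 0, 1, 4), (8, 8, (-21), 0, (-1), (-1))), ((0, (-1), 2, 0, (-2), 0), (1, 0, (-1), 0, 0, 1)), ((0, (-1), 2, 0, 0, 0), (4, 4, (-18), 0, (-6), 14)), ((2, 1, (-4), 0, 0, 1), (1, 2, (-4), 0, 1, 0)), ((4, 4, (-10), 0, (-2), (-1)), ((-3), (-2), 8, 0, 1, (-1))), ((0, 0, 0, 0, 0, 0), (0, 0, 0, 0, 0, 0)),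
    ((0, 0, 0, 0, 0, 0), (0, 0, 0, 0, 0, 0)), ((0, 0, 0, 0, 0, 0), (0, 1, (-1), 0, 0, 0)), ((0, 0, 0, 0, 0, 0), ((-2), (-1), 2, 0, 4, 4)), ((0, 0, 1, 0, 0, 0), (3, 4, (-4), 0, 1, (-11))), ((0, 0, 0, 0, 0, 0), ((-5), 0, 4, 1, (-8), 5)), ((0, 0, 0, 0, 0, 0), ((-3), (-1), 4, 0, 1, 3)), ((3, 3, (-8), 0, 1, 1), (1, 2, (-6), 0, 0, 4)), ((0, 0, 1, 0, 0, 0), (0, 0, 0, 0, 0, 0))]

/-- data -/
def mValPart27 : List ((ℤ × ℤ × ℤ × ℤ × ℤ × ℤ) × (ℤ × ℤ × ℤ × ℤ × ℤ × ℤ)) :=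
  [(((-1), 2, (-1), 1, (-3), (-1)), (1, 1, (-2), 0, (-2), 0)), (((-2), (-2), 6, 0, 1, (-1)), (1, 2, (-4), 0, (-3), 0)), ((1, 2, (-4), 0, (-2), 1), (0, 1, (-1), 0, 0, 0)), ((0, 0, 0, 0, 0, 0), ((-1), 1, 1, 0, 3, (-1))), ((19, 15, (-49), 0, 2, 6), ((-1), 0, 1, 0, 1, 2)), ((1, 0, (-1), 0, 0, 0), (0, 0, 0, 0, 0, 0)), ((0, 0, 1, 0, 0, 0), (0, 0, 0, 0, 0, 0)), ((0, (-1), 2, 0, 0, 0), (7, 1, (-12), (-1), 2, 4)),
    ((1, 0, (-1), 0, 0, 0), (1, 0, (-4), 0, (-1), 6)), ((7, 1, (-8), (-1), 2, (-4)), (2, 1, (-3), 0, 0, (-1))), ((0, 0, 1, 0, 0, 0), ((-5), (-1), 4, 1, 0, 8)), ((0, (-4), 4, (-1), (-6), 5), (0, 0, 0, 0, 0, 0)), (((-5), (-4), 9, 0, (-2), 7), (1, 1, (-2), 0, (-1), 0)), ((0, (-2), 4, 0, (-4), (-1)), (2, 1, (-4), 0, (-1), 1)), ((0, (-1), 2, 0, 0, 0), (1, 0, 0, 0, 0, (-1))), (((-3), (-3), 9, 0, 1, (-1)), (0, 1, (-1), 0, 0, 0)),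
    ((1, 0, (-1), 0, 0, 0), (5, 4, (-10), 0, 3, (-4))), ((0, 0, 1, 0, 0, 0), ((-7), (-6), 16, 0, 7, 5)), ((0, 0, 0, 0, 0, 0), (0, 0, 1, 0, 0, 0)), (((-1), 0, 2, 0, 1, (-1)), ((-1), 0, 2, 0, (-1), 0)), (((-3), (-4), 14, 0, 7, (-7)), ((-1), (-1), 3, 0, 3, 1)), ((0, (-1), 2, 0, 0, 1), (5, 4, (-16), 0, 5, 8)), (((-1), (-1), 6, 0, (-6), (-5)), (1, 0, 0, 0, (-1), (-1))), ((1, 0, 1, 0, (-2), (-4)), (0, 0, 0, 0, 0, 0)),
    (((-12), (-8), 22, 1, 14, 11), (0, 0, 0, 0, 0, 0)), (((-2), (-2), 5, 0, 0, 2), ((-1), 0, (-1), 0, (-2), 5)), (((-1), (-1), 1, 0, 1, 4), (0, 1, (-1), 0, 0, 0)), (((-3), (-7), 7, (-1), 27, 15), (0, 0, 1, 0, 0, 0)), ((0, 0, 3, 0, 1, (-4)), (2, 1, (-4), 0, (-1), 1)), ((0, 0, 0, 0, 0, 0), (1, 2, (-4), 0, (-1), 1)), ((2, 0, (-2), 0, 1, 1), (0, 0, 0, 0, 0, 0)), ((0, (-1), 2, 0, 0, 1), (0, 0, 1, 0, (-1), 0)),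
    ((1, 0, (-1), 0, 0, 0), ((-1), (-2), 5, 0, 3, (-1))), ((2, (-2), 0, (-1), 0, 2), ((-1), (-3), 8, (-1), 5, (-4))), ((0, 0, 1, 0, 0, 0), (0, (-1), 2, 0, 3, 0)), ((0, 0, 0, 0, 0, 0), (0, 0, 0, 0, 0, 0)), ((9, 7, (-17), 0, (-1), (-9)), (6, 1, (-12), (-1), 3, 6)), ((0, 0, 0, 0, 0, 0), (3, 3, (-8), 0, 1, 1)), ((1, (-1), 3, 0, (-2), (-4)), (0, 0, 0, 0, 0, 0)), ((1, 0, (-1), 0, 0, 0), (1, 0, 0, 0, 1, (-1))),
    ((0, 0, 1, 0, 0, 0), (0, 0, 0, 0, 0, 0)), ((5, 0, (-5), (-1), (-15), (-2)), ((-2), (-2), 7, 0, 1, (-1))), ((0, (-1), 4, 0, 2, (-3)), ((-1), (-1), 3, 0, 0, 0)), ((0, 0, (-2), 0, 0, 4), (0, 1, (-1), 0, 0, 0)), ((1, 0, (-1), 0, 1, 0), ((-1), (-1), 6, 0, 0, (-5))), (((-6), (-7), 22, 0, 5, (-7)), (0, 0, 0, 0, 0, 0)), ((0, (-1), 2, 0, 0, 0), (0, 0, 0, 0, 0, 0)), ((0, 0, 0, 0, 0, 0), (1, 1, (-4), 0, 1, 4)),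
    ((1, 1, (-2), 0, 0, (-1)), (13, 12, (-34), 0, 0, 0)), (((-4), (-3), 8, 0, 1, 4), (0, 0, 0, 0, 0, 0)), ((7, 6, (-18), 0, 0, 2), (1, 1, (-3), 0, 0, 1)), ((0, 0, 0, 0, 0, 0), (1, 1, (-3), 0, 1, 1)), ((0, 0, 0, 0, 0, 0), (0, 0, 0, 0, 1, 1)), ((3, 3, (-4), 0, (-2), (-7)), (0, 0, 0, 0, 0, 0)), (((-2), (-2), 7, 0, 0, (-1)), ((-8), (-7), 23, 0, 3, (-3))), ((0, 0, 0, 0, 0, 0), (3, 6, (-5), 1, (-25), (-15))),
    ((0, 0, 0, 0, 0, 0), ((-1), (-1), 3, 0, 1, 1)), (((-2), (-2), 7, 0, 6, (-2)), (2, 2, (-4), 0, 5, (-2))), ((0, 0, 0, 0, 0, 0), (0, 0, 1, 0, 0, 0)), (((-1), (-1), 4, 0, (-1), (-1)), (0, 0, 0, 0, 0, 0)), ((0, 0, 0, 0, 0, 0), ((-1), 0, 2, 0, 0, 0)), ((0, (-1), 2, 0, 1, 0), (0, 0, 0, 0, 0, 0)), (((-1), 0, 2, 0, (-1), (-1)), ((-1), 0, 4, 0, (-1), (-4))), ((0, 0, 0, 0, 0, 0), (0, 0, 0, 0, 0, 0))]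

/-- data -/
def mValPart28 : List ((ℤ × ℤ × ℤ × ℤ × ℤ × ℤ) × (ℤ × ℤ × ℤ × ℤ × ℤ × ℤ)) :=
  [((0, 0, 0, 0, 0, 1), (0, 0, 1, 0, (-1), 0)), ((0, 0, 0, 0, 0, 0), (0, 0, 0, 0, (-5), 0)), (((-1), (-1), 4, 0, 0, (-2)), (3, 0, (-3), (-1), 0, (-1))), (((-1), (-1), 4, 0, 1, (-1)), ((-1), 0, 1, 0, 1, 1)), ((10, 8, (-20), 0, 2, (-8)), ((-3), (-3), 9, 0, 0, 0)), ((1, 1, (-2), 0, 0, (-1)), ((-1), 0, 1, 0, 0, 1)), (((-1), 0, 2, 0, 0, 0), ((-2), 0, 3, 0, (-1), (-1))), ((1, 1, (-2), 0, 0, 0), (2, 3, (-9), 0, 0, 5)),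
    (((-1), 0, 2, 0, (-2), 0), ((-1), 0, 2, 0, 1, 0)), ((0, 0, 0, 0, 0, 0), (0, 0, 0, 0, 0, 0)), ((0, 0, 0, 0, 0, 0), (0, 0, 0, 0, 0, 0)), ((0, 0, 0, 0, 0, 0), (1, 1, (-2), 0, 0, 0)), ((0, 0, 0, 0, 0, 0), (5, 4, (-3), 0, (-1), (-18))), ((0, 0, 1, 0, 0, 0), ((-7), (-1), 14, 1, 2, (-7))), ((0, 0, 0, 0, 0, 0), ((-6), (-1), 7, 1, 2, 5)), (((-2), (-1), 3, 0, 2, 3), ((-7), (-1), 10, 1, (-9), 1)),
    ((3, 3, (-14), 0, 16, 13), (1, 2, 0, 0, (-1), (-7))), ((0, 0, 1, 0, 0, 0), ((-3), (-2), 10, 0, (-1), (-5))), ((0, 0, 0, 0, 0, 0), ((-1), 1, 1, 0, 3, (-1))), ((1, 0, (-1), 0, 0, 0), (0, 0, 0, 0, 0, 0)), ((0, 0, 1, 0, 0, 0), (0, 0, 0, 0, 0, 0)), ((5, (-1), (-2), (-1), 1, (-5)), (0, (-1), (-1), 0, 2, 5)), (((-6), (-6), 9, 0, 3, 15), ((-4), (-4), 11, 0, 0, 0)), (((-2), 1, 3, 1, (-2), (-4)), (0, 1, (-1), 0, 0, 0)),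
    ((0, 0, 0, 0, 0, 0), (0, 0, 1, 0, 0, 0)), (((-3), 4, (-4), 2, (-4), 4), ((-3), (-2), 7, 0, 0, 0)), ((0, 0, 2, 0, (-2), (-4)), ((-1), 0, 2, 0, 0, 0)), (((-1), 1, 1, 1, (-1), (-1)), (0, 0, 0, 0, 0, 0)), (((-2), (-3), 8, 0, 3, (-1)), (2, 1, (-3), 0, 3, 0)), ((1, 1, (-1), 0, 6, (-3)), (0, 0, 0, 0, 0, 0)), (((-4), (-4), 10, 0, (-2), 3), (0, 0, 0, 0, 4, 1)), ((1, 0, (-1), 0, 0, 0), (0, 0, 0, 0, 0, 0)),
    ((0, 0, 1, 0, 0, 0), (2, 3, (-5), 0, 5, (-4))), ((2, 0, (-2), 0, 1, (-1)), (3, (-1), 2, (-1), (-5), (-8))), ((3, (-1), (-4), (-1), 0, 4), (0, 0, 0, 0, 0, 0)), ((0, 0, 1, 0, 3, (-1)), (0, 0, 1, 0, 0, 0)), (((-11), (-10), 36, 0, (-6), (-13)), (10, 5, (-17), (-1), (-13), (-6))), (((-1), (-1), 5, 0, (-4), (-4)), (0, 1, (-1), 0, 0, 0)), (((-5), (-1), 10, 1, (-1), (-3)), ((-1), 0, 1, 0, 0, 1)), ((0, 0, 1, 0, 0, 0), (0, 0, 0, 0, 0, 0)),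
    ((0, (-1), 2, 0, 0, 0), (2, 1, (-5), 0, 5, 2)), ((2, 1, (-3), 0, (-2), (-1)), (1, 0, (-2), 0, 1, 2)), (((-4), (-4), 13, 0, 1, (-3)), ((-2), (-1), 4, 0, 2, 1)), (((-1), (-1), 3, 0, 0, 1), (10, 9, (-27), 0, (-6), 2)), (((-2), (-1), 3, 0, 1, 3), (0, 0, 1, 0, (-1), (-1))), ((3, 2, (-7), 0, 1, 1), (0, 1, (-4), 0, 1, 5)), ((3, 6, (-12), 1, 0, 0), (5, 5, (-15), 0, (-2), 3)), ((1, (-3), 3, (-1), (-1), 1), (0, 1, (-1), 0, 0, 0)),
    (((-2), (-2), (-4), 0, (-1), 19), ((-1), 0, 2, 0, 0, 0)), (((-7), (-6), 15, 0, 6, 6), ((-1), (-1), 3, 0, (-3), 0)), ((0, 3, (-3), 1, (-2), (-3)), (2, 1, (-4), 0, 0, 1)), ((2, 0, (-2), 0, (-1), 0), (0, (-1), 2, 0, 2, 0)), (((-2), (-2), 1, 0, 6, 9), ((-8), (-7), 20, 0, (-3), 2)), (((-6), (-1), 11, 1, (-2), (-4)), (1, 1, (-2), 0, 0, (-1))), (((-4), (-1), 3, 1, (-5), 7), (2, 1, (-5), 0, 1, 2)), (((-2), (-1), 4, 0, (-3), 0), (0, 1, (-1),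 0, 0, 0)),
    ((0, 0, 0, 0, 0, 0), (4, 4, (-11), 0, (-1), 0)), ((0, 0, 0, 0, 0, 0), ((-2), 0, 2, 0, 1, 2)), (((-6), (-5), 16, 0, 0, (-2)), (0, 0, 1, 0, 0, 0)), (((-1), (-1), 3, 0, 2, 1), (3, 3, (-4), 0, (-7), (-7))), ((8, 7, (-21), 0, (-2), 1), ((-1), (-1), 3, 0, 0, 0)), ((2, 2, (-10), 0, 9, 10), ((-4), (-3), 10, 0, (-1), (-1))), (((-2), 1, (-2), 1, 4, 7), (0, 0, (-4), 0, 5, 8)), ((1, 1, (-2), 0, 0, 0), (1, 2, (-4), 0, (-2), 1))]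

/-- data -/
def mValPart29 : List ((ℤ × ℤ × ℤ × ℤ × ℤ × ℤ) × (ℤ × ℤ × ℤ × ℤ × ℤ × ℤ)) :=
  [((0, 0, 0, 0, 0, 0), (0, 0, 1, 0, 0, 0)), (((-5), 0, 5, 1, 1, 3), ((-1), 0, 2, 0, 0, 0)), (((-2), 0, 1, 0, 1, 4), ((-4), (-2), 7, 0, 0, 3)), ((0, 0, (-2), 0, 5, 4), (0, 1, (-1), 0, (-2), 0)), (((-2), (-1), 3, 0, 1, 2), (19, 14, (-44), (-1), (-14), (-1))), ((0, 0, 0, 0, 0, 0), ((-3), (-1), 4, 0, 7, 3)), ((0, 0, 1, 0, 0, 0), (4, (-1), (-4), (-1), (-5), 2)), ((1, (-1), (-1), 0, 1, 4), (0, 0, 0, 0, 0, 0)),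
    (((-4), 0, 8, 1, (-4), (-6)), (0, 0, 1, 0, 0, 0)), ((0, (-1), 2, 0, 0, 0), (0, 0, 0, 0, 0, 0)), ((3, 3, (-12), 0, (-7), 9), ((-1), 0, 1, 0, 1, 1)), ((4, 1, (-5), 0, (-1), (-2)), (1, 1, (-3), 0, (-3), 1)), (((-5), (-1), 7, 1, 1, 3), ((-1), (-1), 3, 0, 1, 1)), (((-2), (-2), 3, 0, (-1), 6), (2, 1, (-2), 0, (-1), (-2))), (((-6), (-1), 8, 1, 1, 4), ((-1), 0, 2, 0, 0, 0)), ((3, 1, (-3), 0, 9, (-3)), (0, 0, 0, 0, 0, 0)),
    (((-1), (-1), 4, 0, 1, (-1)), ((-1), 0, 1, 0, 0, 1)), (((-3), (-3), 15, 0, 1, (-13)), ((-3), (-3), 10, 0, (-2), (-2))), ((0, 0, 0, 0, 0, 0), (0, 0, 0, 0, 0, 0)), ((4, 0, (-3), (-1), (-6), (-3)), (1, 1, (-2), 0, 0, 0)), ((0, 0, 1, 0, 0, 0), ((-3), (-2), 8, 0, 5, (-1))), ((0, 0, 0, 0, 0, 0), ((-5), 1, 9, 1, (-12), (-7))), ((1, 0, (-1), 0, 0, 0), (4, 4, (-11), 0, 1, 1)), ((0, 0, 1, 0, 0, 0), (0, 0, 0, 0, 0, 0)),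
    (((-6), (-6), 11, 0, (-4), 11), (1, 0, (-1), 0, 1, 1)), ((2, 0, (-2), 0, (-2), (-1)), (5, 4, (-10), 0, (-5), (-4))), (((-11), (-10), 30, 0, 6, (-1)), ((-12), (-10), 31, 0, 8, (-2))), (((-7), (-6), 13, 0, 3, 10), (0, 1, (-1), 0, 0, 0)), (((-1), (-1), 4, 0, (-2), (-1)), ((-1), 0, 1, 0, 0, 1)), ((0, 0, 1, 0, (-1), 0), (0, 0, 0, 0, 0, 0)), (((-1), (-1), 1, 0, (-4), 4), (0, 0, 0, 0, (-1), 1)), ((30, 18, (-61), (-2), (-9), (-7)), (2, 1, (-4), 0, (-1), 1)),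
    ((2, 0, (-2), 0, 0, 0), (0, (-1), 2, 0, 2, 0)), (((-5), (-5), 12, 0, (-2), 5), (0, 0, 1, 0, 0, 0)), (((-1), (-1), 3, 0, 3, 1), (3, 3, (-6), 0, (-7), (-3))), ((0, (-1), 3, 0, 0, (-2)), ((-1), (-1), 3, 0, 0, 0)), ((2, 2, 2, 0, (-7), (-14)), ((-8), (-3), 16, 1, (-4), (-2))), ((2, 1, (-2), 0, (-7), (-3)), ((-4), (-4), 12, 0, (-1), (-1))), ((1, 1, (-2), 0, 0, 0), (1, 2, (-4), 0, (-2), 1)), (((-2), (-2), 5, 0, 3, 2), (0, 0, 1, 0, 0, 0)),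
    ((0, 0, 2, 0, 4, (-4)), (0, 1, (-1), 0, (-2), 0)), (((-2), (-1), 5, 0, 0, (-1)), (4, 4, (-5), 0, (-4), (-11))), (((-11), (-5), 19, 1, 1, 5), ((-1), 0, 2, 0, 0, 0)), ((0, (-2), 4, 0, (-5), (-1)), ((-8), (-4), 12, 1, 3, 9)), (((-3), 0, 5, 1, 3, (-2)), (4, 0, (-8), (-1), 15, 6)), ((0, 0, 1, 0, (-1), 0), (6, 1, (-6), (-1), 8, (-5))), (((-2), (-2), (-1), 0, (-7), 14), ((-3), (-2), 4, 0, 1, 7)), ((0, 0, 1, 0, 0, 0), (4, 0, (-3), (-1), 0, (-3))),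
    ((0, 0, 0, 0, 2, 0), (1, 1, (-3), 0, (-4), 1)), ((1, 0, 0, 0, (-1), (-1)), (0, 4, (-2), 1, (-4), (-7))), ((2, (-1), (-1), (-1), 1, 1), ((-2), (-1), 5, 0, 4, (-1))), ((2, 2, (-3), 0, (-1), (-4)), (2, 3, (-5), 0, (-3), (-3))), (((-12), (-5), 20, 1, (-5), 6), ((-1), 0, 2, 0, 0, 0)), ((7, 1, (-9), (-1), 9, (-1)), (0, 0, 0, 0, 0, 0)), ((2, 1, (-3), 0, 3, 0), ((-18), (-13), 42, 1, 14, 1)), ((0, 0, 1, 0, (-3), 0), (0, 0, 0, 0, 0, 0)),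
    ((12, 9, (-29), 0, (-8), 2), ((-2), (-2), 4, 0, 1, 4)), (((-2), 2, 4, 1, 0, (-7)), (3, 3, (-4), 0, (-1), (-7))), (((-12), 0, 18, 3, (-14), (-6)), (0, 0, 1, 0, 1, 0)), ((3, 3, (-4), 0, (-16), (-7)), ((-1), 0, 2, 0, 3, 0)), (((-8), 0, 8, 2, (-1), 4), ((-5), 1, 3, 1, (-3), 5)), ((0, 0, 1, 0, 0, 0), (0, 0, 0, 0, 0, 0)), ((0, 0, (-2), 0, (-11), 4), (10, 5, (-9), (-1), (-22), (-20))), ((0, 0, 1, 0, 11, 0), (0, 0, 1, 0, 7, 0))]

/-- data -/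
def mVal : List (List ((ℤ × ℤ × ℤ × ℤ × ℤ × ℤ) × (ℤ × ℤ × ℤ × ℤ × ℤ × ℤ))) :=
  [mValPart0, mValPart1, mValPart2, mValPart3, mValPart4, mValPart5, mValPart6, mValPart7, mValPart8, mValPart9, mValPart10, mValPart11, mValPart12, mValPart13, mValPart14, mValPart15, mValPart16, mValPart17, mValPart18, mValPart19, mValPart20, mValPart21, mValPart22, mValPart23, mValPart24, mValPart25, mValPart26, mValPart27, mValPart28, mValPart29]

/-- data -/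
def mRankPart0 : List (ℕ × ℕ) :=
  [(0, 0), (0, 0), (0, 0), (0, 0), (0, 0), (0, 0), (0, 0), (305, 0),
    (0, 0), (0, 1), (0, 0), (0, 0), (3, 0), (0, 0), (0, 0), (0, 0),
    (0, 2), (0, 0), (0, 0), (0, 0), (0, 0), (306, 0), (0, 0), (0, 0),
    (0, 0), (6, 0), (0, 0), (0, 435), (0, 4), (0, 0), (0, 0), (0, 0),
    (0, 0), (307, 0), (527, 0), (0, 0), (7, 0), (0, 0), (0, 436), (0, 0),
    (0, 5), (0, 0), (0, 526), (0, 0), (308, 0), (0, 0), (0, 0), (0, 0),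
    (10, 0), (0, 0), (0, 0), (0, 0), (0, 0), (309, 0), (528, 0), (0, 0),
    (11, 0), (0, 0), (0, 437), (0, 0), (0, 0), (310, 0), (0, 0), (0, 0)]

/-- data -/
def mRankPart1 : List (ℕ × ℕ) :=
  [(0, 0), (14, 0), (0, 0), (0, 8), (0, 0), (0, 0), (0, 0), (0, 0),
    (0, 0), (0, 0), (0, 438), (0, 0), (0, 9), (0, 0), (0, 529), (0, 0),
    (311, 0), (0, 0), (0, 0), (0, 0), (17, 0), (312, 0), (530, 0), (0, 0),
    (18, 0), (0, 0), (0, 689), (0, 0), (0, 0), (313, 0), (0, 0), (0, 0),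
    (0, 0), (21, 0), (0, 0), (0, 12), (0, 0), (0, 1022), (0, 0), (0, 0),
    (0, 13), (0, 0), (0, 531), (0, 0), (314, 0), (0, 0), (0, 0), (0, 0),
    (24, 0), (0, 0), (0, 0), (0, 0), (315, 0), (532, 0), (0, 0), (25, 0),
    (0, 0), (0, 439), (316, 0), (1021, 0), (0, 0), (26, 0), (0, 0), (0, 15)]

/-- data -/
def mRankPart2 : List (ℕ × ℕ) :=
  [(0, 0), (0, 0), (0, 0), (0, 0), (0, 0), (0, 0), (0, 440), (0, 0),
    (0, 16), (268, 0), (0, 533), (0, 0), (887, 0), (0, 0), (0, 0), (0, 0),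
    (0, 0), (317, 0), (0, 0), (0, 0), (0, 672), (31, 0), (0, 0), (0, 19),
    (0, 0), (0, 1024), (0, 0), (0, 0), (0, 20), (0, 0), (0, 534), (0, 0),
    (318, 0), (0, 0), (0, 0), (0, 0), (34, 0), (0, 0), (0, 0), (0, 0),
    (0, 0), (0, 0), (0, 441), (0, 22), (0, 0), (0, 0), (0, 0), (0, 0),
    (0, 0), (0, 0), (0, 442), (0, 0), (0, 23), (269, 0), (0, 535), (0, 0),
    (888, 0), (0, 0), (0, 0), (319, 0), (536, 0), (0, 0), (37, 0), (0, 0)]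

/-- data -/
def mRankPart3 : List (ℕ × ℕ) :=
  [(0, 709), (0, 0), (0, 0), (320, 0), (0, 0), (0, 0), (0, 0), (40, 0),
    (0, 0), (0, 0), (0, 0), (321, 0), (0, 0), (0, 0), (0, 273), (43, 0),
    (0, 0), (0, 0), (0, 0), (322, 0), (537, 0), (0, 0), (44, 0), (0, 0),
    (0, 443), (323, 0), (1023, 0), (0, 0), (45, 0), (0, 0), (0, 27), (0, 0),
    (0, 0), (0, 0), (0, 0), (0, 0), (0, 444), (0, 0), (0, 28), (270, 0),
    (0, 538), (0, 0), (0, 29), (0, 0), (0, 1026), (0, 0), (0, 0), (0, 30),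
    (0, 0), (0, 539), (0, 0), (324, 0), (0, 0), (0, 811), (48, 0), (0, 0),
    (0, 0), (0, 734), (0, 0), (0, 0), (0, 445), (0, 32), (0, 0), (0, 550)]

/-- data -/
def mRankPart4 : List (ℕ × ℕ) :=
  [(0, 0), (0, 0), (0, 285), (0, 0), (277, 446), (0, 0), (0, 33), (671, 0),
    (0, 540), (0, 0), (889, 0), (0, 0), (0, 0), (325, 0), (541, 0), (0, 0),
    (51, 0), (0, 0), (0, 722), (326, 0), (0, 0), (0, 0), (53, 0), (0, 0),
    (0, 0), (576, 0), (0, 0), (327, 299), (542, 0), (0, 0), (54, 0), (0, 0),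
    (0, 447), (328, 0), (760, 0), (0, 0), (55, 0), (0, 0), (0, 35), (0, 0),
    (0, 0), (0, 0), (0, 0), (0, 0), (0, 448), (0, 0), (0, 36), (1191, 0),
    (0, 543), (0, 0), (0, 0), (0, 0), (329, 555), (0, 0), (0, 0), (0, 675),
    (59, 0), (1036, 0), (0, 38), (0, 0), (0, 1029), (0, 0), (0, 574), (304, 39)]

/-- data -/
def mRankPart5 : List (ℕ × ℕ) :=
  [(0, 0), (0, 544), (0, 678), (330, 0), (0, 0), (0, 0), (0, 0), (62, 0),
    (0, 41), (0, 0), (0, 1857), (0, 0), (0, 0), (0, 42), (271, 0), (0, 545),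
    (0, 0), (890, 0), (0, 0), (331, 0), (546, 0), (0, 0), (64, 1031), (0, 0),
    (0, 728), (0, 0), (0, 0), (332, 551), (298, 0), (0, 472), (892, 0), (66, 0),
    (0, 0), (0, 0), (0, 0), (333, 0), (0, 1193), (0, 0), (0, 677), (69, 0),
    (0, 0), (1234, 0), (0, 0), (334, 0), (547, 0), (0, 0), (0, 449), (335, 0),
    (1025, 0), (0, 0), (70, 0), (0, 0), (0, 46), (0, 0), (894, 0), (0, 0),
    (0, 0), (0, 0), (0, 450), (0, 0), (0, 0), (0, 968), (0, 847), (0, 0)]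

/-- data -/
def mRankPart6 : List (ℕ × ℕ) :=
  [(0, 451), (0, 47), (1458, 0), (0, 565), (776, 0), (0, 0), (0, 286), (1468, 0),
    (279, 452), (0, 0), (0, 548), (0, 0), (1809, 0), (0, 0), (336, 0), (549, 0),
    (0, 0), (72, 0), (0, 0), (337, 0), (0, 0), (0, 0), (74, 0), (0, 0),
    (359, 0), (710, 570), (0, 0), (338, 703), (0, 0), (75, 0), (0, 0), (0, 453),
    (339, 0), (350, 572), (76, 0), (0, 49), (840, 0), (0, 0), (0, 0), (0, 0),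
    (0, 0), (0, 454), (1255, 0), (0, 50), (1192, 0), (0, 552), (0, 0), (0, 0),
    (0, 0), (340, 712), (553, 0), (290, 272), (0, 680), (78, 0), (906, 0), (0, 590),
    (825, 52), (0, 0), (341, 0), (0, 0), (0, 0), (0, 681), (81, 0), (342, 0)]

/-- data -/
def mRankPart7 : List (ℕ × ℕ) :=
  [(554, 0), (82, 683), (0, 1033), (0, 740), (0, 0), (343, 566), (301, 0), (0, 478),
    (898, 0), (83, 0), (0, 0), (0, 0), (295, 0), (344, 0), (0, 1832), (0, 0),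
    (0, 276), (86, 0), (0, 0), (870, 0), (0, 0), (345, 0), (556, 0), (0, 0),
    (0, 455), (346, 0), (1028, 0), (0, 0), (87, 0), (0, 0), (0, 56), (0, 0),
    (1507, 0), (0, 0), (0, 0), (0, 0), (0, 456), (0, 57), (0, 0), (0, 1035),
    (0, 0), (0, 58), (0, 0), (0, 557), (291, 0), (347, 0), (0, 0), (88, 0),
    (897, 0), (0, 294), (0, 970), (0, 0), (0, 0), (0, 457), (0, 60), (0, 583),
    (0, 0), (0, 287), (0, 0), (0, 0), (0, 61), (673, 0), (0, 558), (0, 0)]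

/-- data -/
def mRankPart8 : List (ℕ × ℕ) :=
  [(891, 0), (0, 1417), (0, 0), (0, 0), (610, 0), (0, 971), (0, 806), (0, 0),
    (0, 458), (0, 63), (1464, 0), (0, 1037), (0, 0), (0, 775), (1475, 0), (711, 459),
    (0, 0), (0, 559), (0, 0), (0, 0), (0, 0), (348, 1027), (1194, 0), (0, 685),
    (93, 0), (1525, 0), (0, 65), (0, 0), (0, 1038), (0, 0), (0, 0), (0, 560),
    (0, 0), (1039, 0), (0, 0), (95, 0), (0, 67), (0, 0), (0, 789), (0, 0),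
    (1640, 0), (0, 68), (0, 561), (0, 0), (893, 0), (0, 0), (349, 0), (562, 0),
    (96, 1054), (0, 0), (1062, 723), (0, 0), (0, 0), (901, 0), (98, 0), (915, 0),
    (0, 0), (0, 0), (351, 0), (0, 1195), (0, 0), (0, 687), (101, 0), (0, 1235)]

/-- data -/
def mRankPart9 : List (ℕ × ℕ) :=
  [(1206, 0), (1214, 1196), (563, 0), (0, 0), (1497, 460), (352, 0), (1030, 0), (0, 0),
    (102, 0), (0, 0), (353, 0), (564, 0), (0, 0), (103, 0), (0, 0), (354, 1044),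
    (0, 0), (104, 0), (0, 0), (903, 0), (0, 0), (355, 717), (105, 852), (1308, 851),
    (0, 461), (356, 0), (106, 0), (0, 71), (824, 0), (0, 0), (1312, 0), (0, 969),
    (1858, 1908), (0, 567), (0, 0), (0, 0), (0, 0), (357, 724), (568, 0), (292, 274),
    (0, 690), (108, 0), (0, 616), (1460, 73), (0, 0), (358, 0), (0, 0), (0, 0),
    (0, 691), (111, 0), (569, 684), (0, 1043), (0, 749), (360, 850), (571, 0), (0, 493),
    (1456, 0), (112, 0), (0, 0), (0, 0), (0, 0), (0, 0), (0, 0), (895, 0)]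

/-- data -/
def mRankPart10 : List (ℕ × ℕ) :=
  [(573, 0), (0, 0), (0, 462), (361, 0), (1032, 0), (0, 0), (114, 0), (0, 0),
    (0, 1202), (1270, 0), (0, 1623), (0, 802), (0, 0), (0, 463), (0, 77), (0, 753),
    (0, 1049), (0, 0), (0, 0), (362, 857), (0, 0), (115, 0), (0, 79), (0, 1050),
    (0, 0), (0, 0), (0, 80), (674, 0), (0, 575), (0, 0), (896, 0), (0, 0),
    (0, 0), (0, 0), (0, 692), (1486, 0), (0, 1052), (0, 974), (0, 0), (0, 577),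
    (0, 0), (830, 0), (0, 0), (119, 0), (0, 84), (0, 0), (0, 0), (1629, 0),
    (0, 85), (0, 578), (784, 0), (899, 0), (0, 0), (363, 0), (579, 0), (120, 1244),
    (0, 0), (1082, 735), (0, 0), (0, 0), (909, 0), (122, 0), (928, 0), (0, 0)]

/-- data -/
def mRankPart11 : List (ℕ × ℕ) :=
  [(0, 0), (364, 0), (0, 1222), (0, 0), (0, 694), (125, 0), (0, 1453), (1218, 0),
    (1223, 1199), (580, 0), (0, 0), (1512, 464), (365, 0), (1034, 0), (0, 0), (126, 0),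
    (0, 0), (0, 0), (0, 0), (0, 975), (0, 866), (0, 0), (0, 465), (0, 602),
    (779, 0), (1514, 976), (0, 288), (284, 466), (0, 0), (0, 581), (0, 0), (0, 0),
    (582, 0), (0, 0), (794, 0), (366, 0), (0, 0), (0, 0), (129, 0), (0, 0),
    (390, 0), (0, 0), (0, 0), (0, 467), (367, 0), (374, 608), (130, 0), (0, 89),
    (873, 0), (0, 0), (0, 0), (0, 0), (0, 0), (1225, 468), (1298, 1197), (0, 90),
    (0, 584), (0, 0), (368, 0), (585, 0), (131, 697), (0, 1056), (369, 603), (1810, 0)]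

/-- data -/
def mRankPart12 : List (ℕ × ℕ) :=
  [(132, 0), (0, 0), (1073, 0), (0, 0), (370, 782), (908, 861), (0, 469), (371, 0),
    (133, 0), (0, 91), (1097, 0), (0, 0), (1598, 0), (0, 470), (0, 92), (0, 0),
    (0, 1059), (863, 0), (0, 1661), (372, 0), (1523, 0), (134, 0), (912, 0), (0, 297),
    (0, 978), (0, 0), (0, 0), (0, 471), (0, 613), (0, 485), (0, 289), (0, 94),
    (676, 0), (0, 0), (900, 0), (0, 1834), (834, 746), (0, 0), (637, 0), (0, 979),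
    (0, 1060), (0, 0), (0, 473), (1478, 0), (0, 1061), (0, 777), (1495, 0), (729, 474),
    (1041, 0), (0, 586), (0, 973), (0, 0), (812, 0), (0, 699), (137, 0), (0, 97),
    (0, 980), (1299, 1063), (0, 0), (0, 0), (1046, 0), (139, 0), (0, 99), (0, 0)]

/-- data -/
def mRankPart13 : List (ℕ × ℕ) :=
  [(0, 798), (1246, 0), (1042, 0), (1106, 100), (0, 587), (0, 0), (902, 0), (1066, 0),
    (373, 0), (140, 1304), (0, 0), (1048, 0), (141, 0), (0, 0), (0, 0), (375, 0),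
    (0, 1467), (0, 0), (0, 700), (144, 0), (0, 0), (0, 0), (376, 1057), (588, 0),
    (293, 275), (0, 869), (146, 0), (377, 0), (0, 0), (0, 0), (0, 1068), (148, 0),
    (589, 1201), (0, 1639), (0, 972), (0, 1213), (0, 1237), (0, 0), (0, 0), (0, 0),
    (378, 0), (1045, 0), (150, 0), (0, 1352), (0, 1481), (0, 0), (0, 1307), (0, 107),
    (0, 983), (0, 1071), (0, 0), (0, 0), (1327, 1072), (0, 0), (0, 109), (0, 1016),
    (0, 0), (0, 0), (0, 110), (679, 0), (0, 591), (0, 0), (904, 1205), (0, 0)]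

/-- data -/
def mRankPart14 : List (ℕ × ℕ) :=
  [(1656, 701), (1498, 1236), (0, 0), (0, 592), (0, 803), (1075, 0), (0, 702), (153, 0),
    (0, 113), (0, 0), (0, 593), (792, 0), (905, 0), (594, 0), (0, 1040), (1232, 767),
    (0, 0), (0, 0), (921, 0), (155, 0), (942, 0), (0, 0), (0, 0), (379, 0),
    (1047, 1198), (0, 856), (0, 705), (157, 0), (1323, 1708), (595, 1408), (1490, 0), (380, 0),
    (0, 0), (158, 0), (0, 0), (923, 0), (0, 0), (0, 1485), (0, 0), (0, 475),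
    (783, 1077), (1602, 981), (0, 596), (1729, 0), (1078, 0), (401, 0), (0, 0), (0, 0),
    (0, 476), (0, 116), (864, 1084), (0, 0), (0, 0), (0, 0), (1505, 0), (1245, 477),
    (1337, 1200), (0, 597), (0, 0), (0, 117), (0, 0), (0, 1080), (1538, 0), (381, 0)]

/-- data -/
def mRankPart15 : List (ℕ × ℕ) :=
  [(159, 0), (0, 0), (0, 0), (0, 626), (0, 497), (0, 1275), (0, 118), (682, 0),
    (0, 0), (907, 1470), (0, 1870), (842, 756), (0, 0), (651, 0), (0, 985), (0, 628),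
    (0, 479), (819, 0), (1582, 1081), (0, 778), (741, 480), (599, 0), (0, 598), (0, 483),
    (0, 1510), (820, 0), (0, 707), (162, 0), (0, 121), (0, 770), (1338, 1083), (0, 0),
    (0, 0), (1242, 0), (164, 0), (0, 123), (0, 0), (0, 1085), (1266, 0), (1378, 0),
    (1487, 124), (0, 600), (0, 0), (910, 0), (1086, 0), (382, 0), (165, 1586), (0, 0),
    (1576, 0), (166, 1531), (0, 0), (0, 0), (383, 0), (0, 1473), (0, 0), (0, 1051),
    (169, 0), (384, 0), (601, 0), (0, 1088), (170, 0), (0, 0), (385, 1089), (0, 708)]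

/-- data -/
def mRankPart16 : List (ℕ × ℕ) :=
  [(171, 0), (0, 0), (386, 787), (172, 876), (387, 0), (0, 127), (1134, 0), (1803, 0),
    (1367, 0), (0, 977), (0, 604), (817, 0), (0, 0), (388, 762), (1901, 1517), (173, 1383),
    (0, 653), (1589, 128), (0, 0), (389, 0), (0, 0), (0, 0), (0, 1093), (176, 859),
    (605, 698), (391, 875), (606, 0), (1593, 0), (177, 0), (0, 0), (607, 0), (0, 0),
    (0, 821), (0, 988), (911, 0), (609, 1912), (1862, 1644), (0, 481), (392, 0), (1055, 0),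
    (0, 0), (178, 0), (1595, 0), (0, 822), (0, 0), (745, 482), (0, 0), (0, 0),
    (0, 1657), (0, 0), (1095, 0), (0, 1096), (181, 0), (611, 846), (0, 1286), (1250, 772),
    (949, 879), (0, 1785), (0, 0), (0, 1454), (1252, 1317), (393, 0), (1058, 0), (183, 0)]

/-- data -/
def mRankPart17 : List (ℕ × ℕ) :=
  [(0, 1461), (0, 0), (0, 0), (0, 989), (0, 1291), (1254, 484), (788, 0), (0, 0),
    (0, 0), (1556, 0), (612, 0), (0, 1069), (809, 0), (394, 0), (0, 0), (1389, 1099),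
    (186, 0), (1566, 1596), (0, 0), (835, 0), (913, 1100), (865, 0), (1282, 1482), (0, 1231),
    (1257, 486), (1315, 1390), (1349, 135), (395, 0), (614, 0), (187, 714), (0, 1101), (396, 786),
    (1813, 0), (188, 0), (0, 0), (1698, 0), (1652, 796), (397, 0), (189, 0), (1558, 0),
    (0, 0), (1819, 0), (0, 136), (715, 1619), (818, 0), (914, 0), (1374, 1440), (935, 0),
    (0, 300), (0, 0), (1535, 487), (1362, 138), (686, 0), (827, 0), (839, 751), (0, 0),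
    (1388, 0), (0, 992), (0, 1105), (0, 488), (1655, 998), (0, 780), (1480, 0), (748, 489)]

/-- data -/
def mRankPart18 : List (ℕ × ℕ) :=
  [(1067, 0), (0, 986), (0, 0), (1866, 1107), (0, 1397), (0, 0), (1094, 0), (0, 142),
    (836, 0), (0, 1108), (1905, 0), (1667, 0), (823, 143), (0, 615), (0, 0), (916, 0),
    (849, 0), (0, 145), (1098, 994), (0, 1111), (0, 0), (0, 1006), (917, 1112), (0, 0),
    (0, 1613), (0, 147), (688, 0), (0, 617), (0, 0), (918, 1216), (0, 0), (1771, 716),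
    (1394, 1357), (0, 1399), (0, 149), (0, 618), (800, 1238), (919, 1189), (1070, 0), (0, 1053),
    (1509, 773), (0, 1565), (0, 0), (0, 868), (0, 719), (398, 0), (0, 0), (194, 0),
    (0, 0), (937, 0), (815, 0), (0, 1114), (0, 0), (0, 490), (791, 1115), (1603, 1313),
    (0, 619), (1532, 0), (938, 0), (0, 0), (1555, 0), (0, 491), (0, 151), (872, 1360)]

/-- data -/
def mRankPart19 : List (ℕ × ℕ) :=
  [(939, 0), (1664, 0), (0, 1472), (1534, 0), (1609, 492), (0, 620), (1533, 0), (0, 1116),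
    (0, 996), (0, 1293), (1363, 152), (0, 0), (920, 1668), (854, 1318), (0, 0), (662, 0),
    (750, 997), (0, 781), (752, 494), (0, 1790), (1151, 0), (0, 720), (954, 154), (0, 1331),
    (1366, 1117), (0, 0), (1076, 0), (1553, 0), (196, 0), (0, 156), (738, 0), (0, 1118),
    (1136, 0), (1387, 0), (0, 621), (922, 0), (1407, 0), (197, 1554), (0, 0), (399, 0),
    (1674, 1484), (0, 0), (0, 1074), (199, 0), (622, 0), (0, 1499), (200, 0), (400, 1325),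
    (0, 721), (201, 0), (956, 0), (1369, 0), (1271, 982), (826, 0), (623, 706), (402, 883),
    (624, 0), (1814, 0), (202, 0), (1581, 0), (0, 828), (924, 0), (625, 1624), (1371, 1065)]

/-- data -/
def mRankPart20 : List (ℕ × ℕ) :=
  [(1203, 495), (403, 0), (1079, 0), (203, 0), (0, 829), (0, 0), (755, 984), (0, 0),
    (0, 0), (0, 1001), (0, 1567), (1520, 496), (0, 0), (1516, 1249), (404, 0), (0, 0),
    (1521, 1578), (206, 0), (0, 0), (843, 0), (925, 1217), (1332, 1579), (1276, 1627), (0, 1123),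
    (1277, 498), (1372, 160), (405, 758), (627, 0), (207, 725), (0, 1124), (1721, 1125), (844, 0),
    (1825, 0), (926, 1328), (1583, 0), (0, 0), (1541, 0), (1375, 161), (1281, 0), (927, 0),
    (848, 1448), (944, 765), (0, 302), (1247, 1303), (934, 499), (1376, 163), (693, 1601), (1411, 0),
    (1122, 1377), (0, 0), (1432, 0), (0, 1003), (1412, 1128), (0, 500), (1691, 1009), (0, 785),
    (1543, 0), (759, 501), (1087, 0), (0, 999), (0, 0), (1544, 1129), (0, 1833), (1666, 0)]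

/-- data -/
def mRankPart21 : List (ℕ × ℕ) :=
  [(0, 167), (845, 0), (0, 1092), (1209, 0), (1913, 0), (1634, 168), (0, 629), (0, 1400),
    (929, 0), (1587, 0), (0, 1147), (0, 0), (406, 1102), (296, 278), (0, 1130), (210, 0),
    (407, 0), (0, 1637), (0, 1131), (211, 0), (1090, 1251), (0, 0), (0, 1414), (1091, 1546),
    (212, 884), (0, 1465), (0, 832), (1164, 987), (1606, 1137), (0, 1384), (0, 174), (1759, 1489),
    (1872, 1779), (0, 1907), (1584, 175), (695, 1344), (0, 630), (0, 1334), (930, 1224), (0, 0),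
    (1700, 1210), (1139, 736), (0, 1615), (214, 1642), (1528, 1835), (1466, 631), (807, 1004), (931, 0),
    (0, 1064), (1828, 1552), (958, 0), (0, 1385), (1594, 0), (1573, 1651), (1395, 1211), (0, 1109),
    (632, 1243), (408, 0), (0, 1503), (216, 1732), (0, 179), (1227, 1446), (0, 1141), (1290, 0)]

/-- data -/
def mRankPart22 : List (ℕ × ℕ) :=
  [(1811, 1863), (0, 180), (696, 0), (0, 0), (932, 1226), (860, 771), (1665, 727), (0, 182),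
    (0, 633), (1474, 1704), (933, 1280), (0, 1597), (0, 0), (0, 1347), (0, 1229), (409, 862),
    (634, 0), (1348, 1143), (218, 0), (1649, 1424), (1812, 1457), (219, 1215), (0, 184), (1168, 1705),
    (1815, 0), (1701, 990), (1292, 1648), (1526, 0), (410, 1455), (220, 1253), (1309, 1420), (1421, 185),
    (1256, 1471), (1422, 1240), (411, 885), (635, 0), (221, 0), (636, 1711), (0, 853), (0, 0),
    (0, 0), (0, 1233), (1568, 0), (1145, 1239), (0, 1146), (223, 0), (1571, 991), (0, 1153),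
    (0, 0), (1296, 1425), (412, 1864), (1103, 0), (225, 0), (0, 0), (1297, 502), (1104, 1789),
    (638, 0), (1462, 1132), (1426, 730), (226, 0), (1430, 1515), (1300, 503), (413, 0), (639, 0)]

/-- data -/
def mRankPart23 : List (ℕ × ℕ) :=
  [(227, 1212), (0, 1548), (1654, 797), (0, 0), (414, 0), (228, 0), (1351, 0), (1824, 0),
    (1310, 190), (731, 1880), (0, 1611), (1719, 191), (1204, 0), (1288, 0), (953, 1273), (0, 1354),
    (0, 1560), (1720, 504), (1529, 1287), (0, 790), (1513, 0), (764, 505), (1110, 1398), (1429, 1005),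
    (1709, 0), (0, 1149), (0, 0), (0, 506), (799, 1150), (1365, 640), (1305, 0), (0, 192),
    (1725, 0), (1781, 0), (0, 1867), (1564, 0), (1726, 507), (0, 641), (1563, 0), (936, 1285),
    (0, 0), (0, 1142), (1614, 0), (1433, 732), (0, 193), (0, 1152), (1158, 0), (0, 642),
    (1643, 1608), (1393, 0), (415, 1519), (1418, 1434), (813, 0), (1730, 1113), (229, 1410), (643, 0),
    (230, 0), (416, 1459), (0, 733), (231, 0), (1677, 0), (831, 1333), (1314, 993), (644, 1219)]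

/-- data -/
def mRankPart24 : List (ℕ × ℕ) :=
  [(417, 867), (645, 0), (232, 1174), (1618, 1416), (1361, 837), (646, 1706), (1207, 508), (418, 0),
    (233, 0), (0, 838), (766, 995), (0, 1437), (855, 0), (940, 774), (0, 1868), (1320, 509),
    (419, 747), (647, 0), (234, 737), (941, 1148), (1404, 195), (1321, 0), (1662, 0), (1405, 303),
    (1268, 1358), (1438, 510), (704, 1671), (1439, 1011), (1155, 1737), (0, 0), (0, 1012), (955, 871),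
    (833, 511), (1269, 1406), (1689, 793), (1119, 0), (0, 1010), (0, 198), (1267, 0), (1739, 1735),
    (0, 648), (0, 1741), (943, 0), (1621, 1622), (726, 0), (1743, 1326), (805, 280), (420, 1744),
    (1537, 1650), (235, 1449), (1121, 1294), (768, 1000), (0, 0), (1861, 1902), (1159, 1263), (236, 1626),
    (1679, 1160), (1547, 1575), (0, 1409), (1694, 0), (0, 1682), (421, 0), (0, 1138), (238, 1504)]

/-- data -/
def mRankPart25 : List (ℕ × ℕ) :=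
  [(422, 1625), (649, 0), (1506, 1272), (239, 0), (1684, 1522), (1816, 1906), (0, 204), (1176, 1733),
    (1747, 1577), (1686, 205), (742, 1483), (1419, 1279), (423, 886), (650, 0), (240, 0), (1750, 1540),
    (0, 0), (1820, 1628), (241, 0), (1329, 1002), (1335, 1443), (424, 1135), (1126, 0), (242, 0),
    (1336, 512), (1127, 1752), (1165, 874), (1492, 513), (425, 0), (652, 0), (243, 1221), (0, 1574),
    (0, 0), (426, 0), (244, 0), (1488, 0), (1605, 0), (1755, 208), (1545, 1859), (1916, 1915),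
    (1208, 1837), (959, 1316), (0, 1441), (1818, 1871), (1778, 514), (1756, 1722), (0, 795), (1551, 0),
    (1758, 1695), (1588, 1014), (0, 209), (1696, 1163), (0, 0), (1751, 1636), (1635, 1839), (0, 1380),
    (0, 654), (945, 1248), (0, 1381), (946, 1676), (1133, 0), (0, 1860), (1592, 743), (1817, 0)]

/-- data -/
def mRankPart26 : List (ℕ × ℕ) :=
  [(0, 1641), (960, 877), (1415, 213), (0, 1491), (1746, 0), (0, 1019), (0, 1015), (947, 1341),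
    (0, 1289), (1685, 744), (247, 1278), (0, 215), (1763, 0), (0, 655), (1140, 0), (948, 1659),
    (1702, 0), (0, 1638), (1831, 515), (1822, 1914), (1865, 1910), (1909, 1873), (1911, 516), (0, 0),
    (0, 1463), (0, 217), (0, 1144), (1230, 0), (0, 656), (950, 1647), (0, 0), (1631, 281),
    (0, 1874), (248, 1753), (0, 1707), (1241, 0), (1169, 763), (1559, 1274), (0, 222), (1258, 1770),
    (1604, 1170), (1350, 0), (1536, 1391), (713, 1713), (951, 1445), (880, 1392), (0, 224), (0, 657),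
    (1493, 1772), (718, 1306), (1494, 1714), (952, 881), (658, 1693), (754, 1500), (1364, 1715), (0, 0),
    (0, 0), (0, 1259), (0, 1612), (250, 1717), (0, 1849), (0, 1427), (1353, 1428), (252, 0)]

/-- data -/
def mRankPart27 : List (ℕ × ℕ) :=
  [(1903, 1261), (1875, 1013), (1157, 517), (0, 1120), (1918, 1479), (427, 0), (253, 0), (659, 1265),
    (428, 1469), (1776, 1262), (254, 1762), (1777, 0), (1829, 1007), (1431, 1173), (660, 1724), (1220, 518),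
    (429, 1765), (255, 1530), (0, 1562), (1356, 1008), (1580, 757), (661, 1561), (1447, 1162), (1885, 0),
    (1716, 0), (963, 882), (841, 519), (1742, 801), (1311, 1345), (0, 1295), (739, 0), (814, 282),
    (430, 1600), (1774, 1783), (256, 1585), (0, 0), (1801, 1850), (0, 1734), (1718, 0), (431, 878),
    (257, 0), (1764, 1557), (1435, 1423), (1508, 520), (1156, 1847), (1784, 0), (663, 0), (0, 1617),
    (1502, 1646), (1620, 0), (1786, 1675), (0, 1838), (0, 804), (1569, 0), (1869, 1843), (0, 1723),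
    (0, 1171), (1678, 1787), (0, 237), (1549, 0), (0, 664), (1161, 0), (957, 1591), (0, 0)]

/-- data -/
def mRankPart28 : List (ℕ × ℕ) :=
  [(1670, 283), (0, 1806), (1264, 1496), (1177, 769), (1745, 1166), (1373, 1017), (858, 1342), (1228, 1599),
    (1879, 1840), (0, 0), (0, 0), (0, 1283), (0, 1782), (259, 1805), (0, 1688), (1511, 1800),
    (1692, 1795), (261, 1542), (0, 1154), (432, 0), (262, 0), (1663, 1343), (1796, 1697), (1185, 521),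
    (0, 245), (1797, 1518), (1876, 665), (1738, 0), (1878, 761), (1798, 0), (1761, 1590), (433, 0),
    (263, 1799), (1710, 1882), (1444, 0), (1442, 246), (1658, 1727), (1386, 522), (1186, 808), (1346, 0),
    (666, 1610), (1821, 1476), (1703, 1319), (1167, 1853), (1823, 1175), (1826, 1690), (1767, 1673), (1570, 523),
    (1768, 810), (1524, 1842), (1900, 1841), (961, 1355), (1669, 1632), (1450, 1018), (1748, 1653), (1607, 524),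
    (0, 1550), (0, 1477), (1886, 249), (1302, 1845), (1680, 1180), (1396, 1844), (1773, 1899), (962, 1301)]

/-- data -/
def mRankPart29 : List (ℕ × ℕ) :=
  [(0, 251), (1188, 667), (1527, 1260), (1827, 1883), (1172, 1775), (0, 1436), (264, 1630), (1780, 0),
    (1898, 1836), (668, 0), (1660, 1181), (1401, 1451), (1187, 1178), (1731, 1020), (1501, 669), (1616, 0),
    (1182, 1359), (1736, 1672), (0, 0), (1452, 1322), (265, 1572), (0, 1877), (434, 1740), (266, 0),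
    (1889, 1179), (1749, 1852), (1788, 1804), (1890, 525), (1766, 816), (1370, 0), (1539, 1330), (1892, 1846),
    (964, 1379), (1791, 258), (1340, 1645), (1687, 1183), (1794, 1792), (1793, 1754), (965, 1339), (1413, 260),
    (1683, 1681), (1881, 1856), (1757, 1284), (1633, 1712), (1894, 1896), (1382, 1769), (1802, 1699), (267, 1190),
    (1888, 1848), (966, 1760), (1830, 1728), (967, 1368), (1807, 670), (1884, 0), (1891, 1854), (1402, 0),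
    (1887, 1184), (1904, 1851), (1921, 1917), (1808, 1324), (1897, 1403), (1920, 0), (1893, 1919), (1895, 1855)]

/-- data -/
def mRank : List (List (ℕ × ℕ)) :=
  [mRankPart0, mRankPart1, mRankPart2, mRankPart3, mRankPart4, mRankPart5, mRankPart6, mRankPart7, mRankPart8, mRankPart9, mRankPart10, mRankPart11, mRankPart12, mRankPart13, mRankPart14, mRankPart15, mRankPart16, mRankPart17, mRankPart18, mRankPart19, mRankPart20, mRankPart21, mRankPart22, mRankPart23, mRankPart24, mRankPart25, mRankPart26, mRankPart27, mRankPart28, mRankPart29]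

/-- data -/
def mPotPart0 : List (ℤ × ℤ) :=
  [(0, 0), (1, 0), (0, 1), (2, 0), (1, 1), (1, 1), (0, 2), (3, 0),
    (2, 1), (2, 1), (1, 2), (2, 1), (1, 2), (1, 2), (0, 3), (3, 1),
    (3, 1), (2, 2), (3, 1), (2, 2), (1, 3), (3, 1), (2, 2), (1, 3),
    (2, 2), (1, 3), (1, 3), (0, 4), (4, 1), (3, 2), (4, 1), (3, 2),
    (2, 3), (4, 1), (3, 2), (3, 2), (2, 3), (2, 3), (1, 4), (3, 2),
    (3, 2), (2, 3), (2, 3), (1, 4), (3, 2), (2, 3), (1, 4), (2, 3),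
    (1, 4), (1, 4), (5, 1), (4, 2), (3, 3), (5, 1), (4, 2), (4, 2),
    (3, 3), (3, 3), (2, 4), (4, 2), (3, 3), (4, 2), (3, 3), (2, 4)]

/-- data -/
def mPotPart1 : List (ℤ × ℤ) :=
  [(3, 3), (2, 4), (2, 4), (4, 2), (3, 3), (4, 2), (3, 3), (2, 4),
    (3, 3), (2, 4), (1, 5), (3, 3), (3, 3), (2, 4), (2, 4), (1, 5),
    (3, 3), (2, 4), (1, 5), (2, 4), (1, 5), (6, 1), (5, 2), (5, 2),
    (4, 3), (4, 3), (3, 4), (5, 2), (4, 3), (5, 2), (4, 3), (3, 4),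
    (4, 3), (3, 4), (3, 4), (5, 2), (4, 3), (4, 3), (3, 4), (4, 3),
    (4, 3), (3, 4), (3, 4), (2, 5), (4, 3), (3, 4), (2, 5), (3, 4),
    (2, 5), (5, 2), (4, 3), (3, 4), (5, 2), (4, 3), (4, 3), (3, 4),
    (3, 4), (2, 5), (4, 3), (3, 4), (3, 4), (2, 5), (2, 5), (4, 3)]

/-- data -/
def mPotPart2 : List (ℤ × ℤ) :=
  [(3, 4), (4, 3), (3, 4), (2, 5), (3, 4), (2, 5), (1, 6), (3, 4),
    (3, 4), (2, 5), (2, 5), (1, 6), (3, 4), (2, 5), (1, 6), (6, 2),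
    (5, 3), (6, 2), (5, 3), (4, 4), (5, 3), (4, 4), (4, 4), (6, 2),
    (5, 3), (5, 3), (4, 4), (5, 3), (5, 3), (4, 4), (4, 4), (3, 5),
    (5, 3), (4, 4), (3, 5), (4, 4), (3, 5), (6, 2), (5, 3), (4, 4),
    (5, 3), (4, 4), (3, 5), (5, 3), (4, 4), (5, 3), (4, 4), (3, 5),
    (4, 4), (3, 5), (2, 6), (4, 4), (4, 4), (3, 5), (3, 5), (2, 6),
    (4, 4), (3, 5), (2, 6), (6, 2), (5, 3), (5, 3), (4, 4), (4, 4)]

/-- data -/
def mPotPart3 : List (ℤ × ℤ) :=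
  [(3, 5), (5, 3), (4, 4), (5, 3), (4, 4), (3, 5), (4, 4), (3, 5),
    (3, 5), (4, 4), (3, 5), (4, 4), (3, 5), (2, 6), (3, 5), (2, 6),
    (5, 3), (4, 4), (3, 5), (5, 3), (4, 4), (4, 4), (3, 5), (3, 5),
    (2, 6), (4, 4), (3, 5), (3, 5), (2, 6), (2, 6), (4, 4), (3, 5),
    (4, 4), (2, 6), (3, 5), (2, 6), (1, 7), (3, 5), (3, 5), (2, 6),
    (2, 6), (1, 7), (7, 2), (6, 3), (6, 3), (5, 4), (6, 3), (6, 3),
    (5, 4), (5, 4), (4, 5), (6, 3), (4, 5), (5, 4), (4, 5), (7, 2),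
    (6, 3), (5, 4), (6, 3), (5, 4), (4, 5), (6, 3), (5, 4), (6, 3)]

/-- data -/
def mPotPart4 : List (ℤ × ℤ) :=
  [(5, 4), (4, 5), (5, 4), (4, 5), (3, 6), (5, 4), (5, 4), (4, 5),
    (4, 5), (3, 6), (5, 4), (4, 5), (3, 6), (7, 2), (6, 3), (6, 3),
    (5, 4), (5, 4), (4, 5), (6, 3), (5, 4), (5, 4), (4, 5), (4, 5),
    (6, 3), (5, 4), (4, 5), (6, 3), (5, 4), (5, 4), (4, 5), (4, 5),
    (3, 6), (5, 4), (4, 5), (4, 5), (3, 6), (3, 6), (5, 4), (4, 5),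
    (5, 4), (3, 6), (4, 5), (3, 6), (2, 7), (4, 5), (4, 5), (3, 6),
    (3, 6), (2, 7), (6, 3), (5, 4), (6, 3), (5, 4), (4, 5), (5, 4),
    (4, 5), (4, 5), (6, 3), (5, 4), (5, 4), (4, 5), (5, 4), (5, 4)]

/-- data -/
def mPotPart5 : List (ℤ × ℤ) :=
  [(4, 5), (4, 5), (3, 6), (5, 4), (4, 5), (3, 6), (4, 5), (3, 6),
    (5, 4), (4, 5), (4, 5), (3, 6), (4, 5), (4, 5), (3, 6), (3, 6),
    (2, 7), (4, 5), (2, 7), (6, 3), (5, 4), (5, 4), (4, 5), (4, 5),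
    (3, 6), (5, 4), (4, 5), (5, 4), (4, 5), (3, 6), (4, 5), (3, 6),
    (3, 6), (4, 5), (3, 6), (4, 5), (3, 6), (2, 7), (3, 6), (2, 7),
    (5, 4), (4, 5), (3, 6), (5, 4), (4, 5), (3, 6), (2, 7), (4, 5),
    (3, 6), (3, 6), (2, 7), (2, 7), (4, 5), (3, 6), (4, 5), (2, 7),
    (3, 6), (2, 7), (1, 8), (8, 2), (7, 3), (6, 4), (7, 3), (6, 4)]

/-- data -/
def mPotPart6 : List (ℤ × ℤ) :=
  [(5, 5), (7, 3), (6, 4), (7, 3), (6, 4), (5, 5), (6, 4), (5, 5),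
    (4, 6), (6, 4), (5, 5), (4, 6), (6, 4), (4, 6), (8, 2), (7, 3),
    (7, 3), (6, 4), (6, 4), (7, 3), (6, 4), (6, 4), (5, 5), (5, 5),
    (7, 3), (6, 4), (5, 5), (7, 3), (6, 4), (5, 5), (5, 5), (4, 6),
    (6, 4), (5, 5), (4, 6), (6, 4), (5, 5), (6, 4), (4, 6), (5, 5),
    (4, 6), (3, 7), (5, 5), (5, 5), (4, 6), (4, 6), (3, 7), (7, 3),
    (6, 4), (7, 3), (6, 4), (5, 5), (6, 4), (5, 5), (5, 5), (6, 4),
    (6, 4), (5, 5), (6, 4), (5, 5), (4, 6), (5, 5), (4, 6), (7, 3)]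

/-- data -/
def mPotPart7 : List (ℤ × ℤ) :=
  [(6, 4), (5, 5), (5, 5), (4, 6), (5, 5), (6, 4), (5, 5), (4, 6),
    (5, 5), (4, 6), (4, 6), (5, 5), (4, 6), (5, 5), (4, 6), (3, 7),
    (4, 6), (3, 7), (6, 4), (5, 5), (4, 6), (6, 4), (5, 5), (4, 6),
    (3, 7), (5, 5), (4, 6), (4, 6), (3, 7), (3, 7), (5, 5), (4, 6),
    (5, 5), (3, 7), (4, 6), (3, 7), (2, 8), (7, 3), (6, 4), (6, 4),
    (5, 5), (6, 4), (5, 5), (5, 5), (4, 6), (6, 4), (4, 6), (4, 6),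
    (7, 3), (6, 4), (5, 5), (6, 4), (5, 5), (4, 6), (6, 4), (5, 5),
    (4, 6), (5, 5), (4, 6), (5, 5), (5, 5), (4, 6), (4, 6), (3, 7)]

/-- data -/
def mPotPart8 : List (ℤ × ℤ) :=
  [(5, 5), (4, 6), (3, 7), (6, 4), (5, 5), (4, 6), (5, 5), (4, 6),
    (3, 7), (5, 5), (4, 6), (5, 5), (3, 7), (4, 6), (3, 7), (2, 8),
    (4, 6), (3, 7), (2, 8), (6, 4), (5, 5), (6, 4), (5, 5), (5, 5),
    (4, 6), (4, 6), (6, 4), (5, 5), (5, 5), (4, 6), (4, 6), (4, 6),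
    (4, 6), (3, 7), (4, 6), (3, 7), (5, 5), (4, 6), (4, 6), (3, 7),
    (4, 6), (4, 6), (3, 7), (2, 8), (4, 6), (2, 8), (6, 4), (5, 5),
    (4, 6), (4, 6), (3, 7), (5, 5), (4, 6), (4, 6), (3, 7), (3, 7),
    (4, 6), (3, 7), (4, 6), (3, 7), (2, 8), (3, 7), (2, 8), (5, 5)]

/-- data -/
def mPotPart9 : List (ℤ × ℤ) :=
  [(4, 6), (3, 7), (4, 6), (3, 7), (2, 8), (4, 6), (3, 7), (3, 7),
    (2, 8), (2, 8), (9, 2), (8, 3), (8, 3), (7, 4), (7, 4), (8, 3),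
    (7, 4), (6, 5), (6, 5), (8, 3), (6, 5), (8, 3), (6, 5), (6, 5),
    (5, 6), (7, 4), (5, 6), (7, 4), (6, 5), (6, 5), (5, 6), (4, 7),
    (6, 5), (5, 6), (4, 7), (8, 3), (7, 4), (8, 3), (7, 4), (6, 5),
    (7, 4), (6, 5), (7, 4), (7, 4), (6, 5), (7, 4), (6, 5), (5, 6),
    (6, 5), (5, 6), (7, 4), (6, 5), (5, 6), (7, 4), (6, 5), (5, 6),
    (6, 5), (5, 6), (5, 6), (6, 5), (4, 7), (7, 4), (5, 6), (7, 4)]

/-- data -/
def mPotPart10 : List (ℤ × ℤ) :=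
  [(6, 5), (5, 6), (4, 7), (6, 5), (5, 6), (5, 6), (4, 7), (4, 7),
    (5, 6), (6, 5), (4, 7), (5, 6), (4, 7), (3, 8), (8, 3), (7, 4),
    (7, 4), (6, 5), (6, 5), (7, 4), (5, 6), (5, 6), (7, 4), (6, 5),
    (5, 6), (6, 5), (6, 5), (5, 6), (5, 6), (4, 7), (6, 5), (4, 7),
    (7, 4), (6, 5), (6, 5), (5, 6), (6, 5), (5, 6), (5, 6), (5, 6),
    (5, 6), (4, 7), (5, 6), (4, 7), (6, 5), (5, 6), (4, 7), (5, 6),
    (5, 6), (4, 7), (3, 8), (5, 6), (3, 8), (7, 4), (6, 5), (5, 6),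
    (5, 6), (4, 7), (6, 5), (5, 6), (5, 6), (4, 7), (4, 7), (5, 6)]

/-- data -/
def mPotPart11 : List (ℤ × ℤ) :=
  [(4, 7), (5, 6), (4, 7), (3, 8), (4, 7), (3, 8), (6, 5), (5, 6),
    (4, 7), (5, 6), (4, 7), (3, 8), (5, 6), (4, 7), (4, 7), (3, 8),
    (3, 8), (8, 3), (7, 4), (6, 5), (7, 4), (6, 5), (5, 6), (7, 4),
    (6, 5), (5, 6), (6, 5), (4, 7), (6, 5), (5, 6), (4, 7), (4, 7),
    (7, 4), (7, 4), (6, 5), (7, 4), (6, 5), (6, 5), (5, 6), (5, 6),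
    (7, 4), (6, 5), (5, 6), (4, 7), (6, 5), (5, 6), (4, 7), (6, 5),
    (5, 6), (6, 5), (4, 7), (5, 6), (4, 7), (3, 8), (5, 6), (5, 6),
    (4, 7), (3, 8), (7, 4), (6, 5), (5, 6), (5, 6), (6, 5), (5, 6)]

/-- data -/
def mPotPart12 : List (ℤ × ℤ) :=
  [(4, 7), (4, 7), (6, 5), (4, 7), (6, 5), (4, 7), (3, 8), (5, 6),
    (3, 8), (5, 6), (4, 7), (4, 7), (3, 8), (2, 9), (7, 4), (6, 5),
    (6, 5), (5, 6), (5, 6), (6, 5), (4, 7), (4, 7), (7, 4), (6, 5),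
    (5, 6), (6, 5), (5, 6), (4, 7), (5, 6), (4, 7), (5, 6), (5, 6),
    (4, 7), (3, 8), (5, 6), (4, 7), (3, 8), (6, 5), (5, 6), (4, 7),
    (5, 6), (4, 7), (3, 8), (4, 7), (5, 6), (4, 7), (3, 8), (2, 9),
    (4, 7), (3, 8), (2, 9), (6, 5), (5, 6), (5, 6), (4, 7), (6, 5),
    (5, 6), (5, 6), (4, 7), (4, 7), (3, 8), (3, 8), (5, 6), (4, 7)]

/-- data -/
def mPotPart13 : List (ℤ × ℤ) :=
  [(4, 7), (3, 8), (4, 7), (4, 7), (3, 8), (2, 9), (4, 7), (2, 9),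
    (6, 5), (4, 7), (4, 7), (4, 7), (3, 8), (4, 7), (3, 8), (4, 7),
    (3, 8), (2, 9), (3, 8), (2, 9), (9, 3), (8, 4), (9, 3), (8, 4),
    (7, 5), (8, 4), (7, 5), (8, 4), (7, 5), (6, 6), (7, 5), (6, 6),
    (8, 4), (7, 5), (6, 6), (6, 6), (7, 5), (5, 7), (8, 4), (6, 6),
    (7, 5), (6, 6), (5, 7), (5, 7), (6, 6), (5, 7), (4, 8), (9, 3),
    (8, 4), (8, 4), (7, 5), (7, 5), (8, 4), (6, 6), (8, 4), (7, 5),
    (6, 6), (7, 5), (7, 5), (6, 6), (6, 6), (5, 7), (7, 5), (5, 7)]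

/-- data -/
def mPotPart14 : List (ℤ × ℤ) :=
  [(7, 5), (6, 6), (6, 6), (6, 6), (6, 6), (5, 7), (6, 6), (5, 7),
    (7, 5), (6, 6), (5, 7), (4, 8), (8, 4), (7, 5), (6, 6), (5, 7),
    (7, 5), (6, 6), (6, 6), (5, 7), (5, 7), (6, 6), (5, 7), (6, 6),
    (5, 7), (4, 8), (5, 7), (4, 8), (6, 6), (6, 6), (5, 7), (6, 6),
    (5, 7), (4, 8), (4, 8), (9, 3), (8, 4), (8, 4), (7, 5), (6, 6),
    (7, 5), (6, 6), (6, 6), (5, 7), (5, 7), (8, 4), (7, 5), (6, 6),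
    (5, 7), (7, 5), (6, 6), (7, 5), (5, 7), (6, 6), (5, 7), (4, 8),
    (6, 6), (5, 7), (4, 8), (8, 4), (7, 5), (7, 5), (6, 6), (7, 5)]

/-- data -/
def mPotPart15 : List (ℤ × ℤ) :=
  [(5, 7), (7, 5), (6, 6), (6, 6), (5, 7), (6, 6), (6, 6), (5, 7),
    (4, 8), (6, 6), (5, 7), (4, 8), (7, 5), (6, 6), (5, 7), (5, 7),
    (4, 8), (5, 7), (6, 6), (5, 7), (3, 9), (5, 7), (4, 8), (3, 9),
    (7, 5), (6, 6), (6, 6), (5, 7), (7, 5), (6, 6), (6, 6), (5, 7),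
    (5, 7), (4, 8), (4, 8), (6, 6), (5, 7), (5, 7), (4, 8), (5, 7),
    (5, 7), (4, 8), (3, 9), (5, 7), (3, 9), (7, 5), (5, 7), (5, 7),
    (5, 7), (4, 8), (5, 7), (4, 8), (5, 7), (4, 8), (3, 9), (4, 8),
    (3, 9), (9, 3), (8, 4), (8, 4), (7, 5), (7, 5), (8, 4), (7, 5)]

/-- data -/
def mPotPart16 : List (ℤ × ℤ) :=
  [(6, 6), (6, 6), (8, 4), (6, 6), (7, 5), (7, 5), (6, 6), (6, 6),
    (5, 7), (4, 8), (5, 7), (4, 8), (7, 5), (8, 4), (7, 5), (6, 6),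
    (7, 5), (7, 5), (6, 6), (7, 5), (6, 6), (5, 7), (6, 6), (5, 7),
    (7, 5), (7, 5), (6, 6), (6, 6), (5, 7), (5, 7), (6, 6), (4, 8),
    (7, 5), (5, 7), (7, 5), (6, 6), (5, 7), (4, 8), (6, 6), (5, 7),
    (5, 7), (4, 8), (6, 6), (5, 7), (4, 8), (3, 9), (7, 5), (6, 6),
    (6, 6), (5, 7), (4, 8), (5, 7), (4, 8), (6, 6), (5, 7), (4, 8),
    (4, 8), (5, 7), (3, 9), (6, 6), (4, 8), (5, 7), (4, 8), (3, 9)]

/-- data -/
def mPotPart17 : List (ℤ × ℤ) :=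
  [(3, 9), (8, 4), (7, 5), (6, 6), (7, 5), (5, 7), (6, 6), (6, 6),
    (4, 8), (4, 8), (7, 5), (7, 5), (6, 6), (7, 5), (6, 6), (6, 6),
    (5, 7), (5, 7), (6, 6), (5, 7), (6, 6), (6, 6), (4, 8), (4, 8),
    (3, 9), (5, 7), (5, 7), (7, 5), (6, 6), (5, 7), (5, 7), (6, 6),
    (5, 7), (4, 8), (4, 8), (4, 8), (6, 6), (5, 7), (3, 9), (4, 8),
    (4, 8), (3, 9), (7, 5), (6, 6), (5, 7), (6, 6), (4, 8), (7, 5),
    (6, 6), (5, 7), (4, 8), (5, 7), (4, 8), (3, 9), (3, 9), (6, 6),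
    (5, 7), (4, 8), (5, 7), (3, 9), (4, 8), (4, 8), (3, 9), (2, 10)]

/-- data -/
def mPotPart18 : List (ℤ × ℤ) :=
  [(4, 8), (2, 10), (6, 6), (5, 7), (4, 8), (4, 8), (3, 9), (5, 7),
    (4, 8), (4, 8), (3, 9), (4, 8), (4, 8), (3, 9), (2, 10), (4, 8),
    (2, 10), (10, 3), (9, 4), (9, 4), (8, 5), (8, 5), (9, 4), (7, 6),
    (8, 5), (8, 5), (7, 6), (7, 6), (6, 7), (8, 5), (6, 7), (8, 5),
    (7, 6), (7, 6), (8, 5), (6, 7), (5, 8), (9, 4), (8, 5), (7, 6),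
    (6, 7), (7, 6), (6, 7), (5, 8), (6, 7), (7, 6), (6, 7), (5, 8),
    (5, 8), (10, 3), (9, 4), (9, 4), (8, 5), (7, 6), (8, 5), (7, 6),
    (7, 6), (6, 7), (9, 4), (8, 5), (7, 6), (6, 7), (8, 5), (7, 6)]

/-- data -/
def mPotPart19 : List (ℤ × ℤ) :=
  [(8, 5), (6, 7), (7, 6), (6, 7), (5, 8), (6, 7), (5, 8), (7, 6),
    (6, 7), (7, 6), (7, 6), (5, 8), (7, 6), (5, 8), (8, 5), (7, 6),
    (6, 7), (6, 7), (4, 9), (8, 5), (7, 6), (7, 6), (8, 5), (7, 6),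
    (7, 6), (6, 7), (6, 7), (5, 8), (5, 8), (7, 6), (6, 7), (6, 7),
    (5, 8), (6, 7), (5, 8), (6, 7), (4, 9), (5, 8), (6, 7), (6, 7),
    (5, 8), (4, 9), (5, 8), (4, 9), (9, 4), (9, 4), (8, 5), (9, 4),
    (8, 5), (7, 6), (7, 6), (7, 6), (5, 8), (5, 8), (8, 5), (8, 5),
    (7, 6), (7, 6), (6, 7), (6, 7), (8, 5), (8, 5), (7, 6), (6, 7)]

/-- data -/
def mPotPart20 : List (ℤ × ℤ) :=
  [(5, 8), (7, 6), (6, 7), (5, 8), (6, 7), (5, 8), (4, 9), (9, 4),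
    (8, 5), (7, 6), (8, 5), (6, 7), (7, 6), (5, 8), (8, 5), (7, 6),
    (7, 6), (6, 7), (7, 6), (6, 7), (7, 6), (7, 6), (5, 8), (5, 8),
    (4, 9), (6, 7), (8, 5), (7, 6), (6, 7), (6, 7), (6, 7), (5, 8),
    (5, 8), (6, 7), (5, 8), (5, 8), (4, 9), (8, 5), (6, 7), (7, 6),
    (5, 8), (8, 5), (7, 6), (6, 7), (5, 8), (6, 7), (5, 8), (4, 9),
    (4, 9), (7, 6), (6, 7), (5, 8), (6, 7), (4, 9), (5, 8), (5, 8),
    (4, 9), (3, 10), (5, 8), (3, 10), (7, 6), (6, 7), (5, 8), (5, 8)]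

/-- data -/
def mPotPart21 : List (ℤ × ℤ) :=
  [(6, 7), (5, 8), (5, 8), (4, 9), (5, 8), (5, 8), (4, 9), (3, 10),
    (5, 8), (3, 10), (9, 4), (8, 5), (9, 4), (7, 6), (8, 5), (7, 6),
    (8, 5), (6, 7), (7, 6), (6, 7), (7, 6), (8, 5), (6, 7), (6, 7),
    (5, 8), (5, 8), (6, 7), (4, 9), (8, 5), (7, 6), (8, 5), (7, 6),
    (6, 7), (7, 6), (7, 6), (6, 7), (6, 7), (5, 8), (7, 6), (6, 7),
    (6, 7), (5, 8), (6, 7), (5, 8), (6, 7), (5, 8), (4, 9), (8, 5),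
    (6, 7), (7, 6), (5, 8), (6, 7), (5, 8), (6, 7), (5, 8), (4, 9),
    (6, 7), (6, 7), (5, 8), (4, 9), (8, 5), (7, 6), (7, 6), (6, 7)]

/-- data -/
def mPotPart22 : List (ℤ × ℤ) :=
  [(7, 6), (6, 7), (5, 8), (4, 9), (6, 7), (4, 9), (6, 7), (6, 7),
    (4, 9), (3, 10), (7, 6), (5, 8), (4, 9), (3, 10), (4, 9), (9, 4),
    (8, 5), (8, 5), (7, 6), (7, 6), (8, 5), (6, 7), (7, 6), (6, 7),
    (5, 8), (4, 9), (4, 9), (7, 6), (8, 5), (6, 7), (7, 6), (7, 6),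
    (6, 7), (5, 8), (7, 6), (6, 7), (5, 8), (6, 7), (5, 8), (7, 6),
    (6, 7), (6, 7), (5, 8), (4, 9), (5, 8), (4, 9), (4, 9), (5, 8),
    (3, 10), (4, 9), (5, 8), (4, 9), (3, 10), (8, 5), (5, 8), (6, 7),
    (7, 6), (7, 6), (6, 7), (5, 8), (4, 9), (3, 10), (7, 6), (6, 7)]

/-- data -/
def mPotPart23 : List (ℤ × ℤ) :=
  [(5, 8), (5, 8), (6, 7), (4, 9), (5, 8), (3, 10), (4, 9), (3, 10),
    (7, 6), (6, 7), (5, 8), (5, 8), (4, 9), (3, 10), (6, 7), (4, 9),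
    (5, 8), (3, 10), (4, 9), (4, 9), (3, 10), (2, 11), (4, 9), (2, 11),
    (11, 3), (10, 4), (9, 5), (8, 6), (9, 5), (8, 6), (7, 7), (9, 5),
    (9, 5), (7, 7), (8, 6), (7, 7), (6, 8), (7, 7), (6, 8), (8, 6),
    (9, 5), (7, 7), (8, 6), (8, 6), (8, 6), (7, 7), (6, 8), (6, 8),
    (7, 7), (7, 7), (7, 7), (6, 8), (5, 9), (6, 8), (5, 9), (10, 4),
    (9, 5), (10, 4), (9, 5), (8, 6), (8, 6), (8, 6), (6, 8), (9, 5)]

/-- data -/
def mPotPart24 : List (ℤ × ℤ) :=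
  [(9, 5), (8, 6), (7, 7), (7, 7), (9, 5), (8, 6), (6, 8), (8, 6),
    (6, 8), (7, 7), (5, 9), (8, 6), (7, 7), (8, 6), (6, 8), (5, 9),
    (9, 5), (8, 6), (7, 7), (7, 7), (9, 5), (7, 7), (8, 6), (8, 6),
    (7, 7), (6, 8), (6, 8), (5, 9), (5, 9), (8, 6), (6, 8), (7, 7),
    (5, 9), (6, 8), (6, 8), (6, 8), (4, 10), (7, 7), (6, 8), (6, 8),
    (5, 9), (4, 10), (6, 8), (4, 10), (9, 5), (10, 4), (8, 6), (9, 5),
    (7, 7), (7, 7), (7, 7), (5, 9), (7, 7), (7, 7), (6, 8), (6, 8),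
    (9, 5), (8, 6), (7, 7), (6, 8), (5, 9), (7, 7), (6, 8), (5, 9)]

/-- data -/
def mPotPart25 : List (ℤ × ℤ) :=
  [(10, 4), (9, 5), (9, 5), (8, 6), (8, 6), (9, 5), (8, 6), (7, 7),
    (8, 6), (8, 6), (7, 7), (6, 8), (8, 6), (7, 7), (6, 8), (6, 8),
    (7, 7), (7, 7), (5, 9), (5, 9), (5, 9), (6, 8), (5, 9), (4, 10),
    (6, 8), (7, 7), (8, 6), (4, 10), (8, 6), (7, 7), (6, 8), (6, 8),
    (5, 9), (6, 8), (4, 10), (5, 9), (4, 10), (8, 6), (7, 7), (6, 8),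
    (5, 9), (7, 7), (5, 9), (6, 8), (4, 10), (5, 9), (5, 9), (4, 10),
    (5, 9), (3, 11), (10, 4), (9, 5), (8, 6), (9, 5), (7, 7), (8, 6),
    (7, 7), (8, 6), (6, 8), (9, 5), (8, 6), (7, 7), (6, 8), (7, 7)]

/-- data -/
def mPotPart26 : List (ℤ × ℤ) :=
  [(8, 6), (9, 5), (8, 6), (7, 7), (6, 8), (7, 7), (6, 8), (7, 7),
    (8, 6), (7, 7), (5, 9), (7, 7), (5, 9), (5, 9), (6, 8), (6, 8),
    (9, 5), (8, 6), (6, 8), (7, 7), (5, 9), (5, 9), (4, 10), (7, 7),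
    (5, 9), (6, 8), (5, 9), (4, 10), (4, 10), (5, 9), (8, 6), (7, 7),
    (8, 6), (5, 9), (7, 7), (6, 8), (5, 9), (6, 8), (8, 6), (7, 7),
    (7, 7), (6, 8), (7, 7), (5, 9), (6, 8), (4, 10), (6, 8), (4, 10),
    (3, 11), (4, 10), (3, 11), (9, 5), (8, 6), (7, 7), (5, 9), (7, 7),
    (6, 8), (6, 8), (5, 9), (4, 10), (5, 9), (3, 11), (4, 10), (3, 11)]

/-- data -/
def mPotPart27 : List (ℤ × ℤ) :=
  [(6, 8), (4, 10), (3, 11), (5, 9), (6, 8), (5, 9), (3, 11), (11, 4),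
    (11, 4), (10, 5), (9, 6), (9, 6), (7, 8), (10, 5), (9, 6), (7, 8),
    (9, 6), (7, 8), (8, 7), (6, 9), (10, 5), (9, 6), (8, 7), (8, 7),
    (9, 6), (8, 7), (6, 9), (7, 8), (7, 8), (5, 10), (10, 5), (9, 6),
    (10, 5), (8, 7), (8, 7), (8, 7), (8, 7), (6, 9), (8, 7), (9, 6),
    (7, 8), (7, 8), (8, 7), (7, 8), (8, 7), (9, 6), (8, 7), (7, 8),
    (6, 9), (5, 10), (8, 7), (6, 9), (6, 9), (5, 10), (6, 9), (9, 6),
    (8, 7), (7, 8), (8, 7), (6, 9), (6, 9), (7, 8), (7, 8), (9, 6)]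

/-- data -/
def mPotPart28 : List (ℤ × ℤ) :=
  [(8, 7), (9, 6), (7, 8), (6, 9), (8, 7), (7, 8), (5, 10), (5, 10),
    (4, 11), (8, 7), (7, 8), (7, 8), (6, 9), (5, 10), (6, 9), (4, 11),
    (5, 10), (4, 11), (6, 9), (6, 9), (4, 11), (11, 4), (9, 6), (8, 7),
    (9, 6), (8, 7), (7, 8), (8, 7), (8, 7), (7, 8), (9, 6), (8, 7),
    (6, 9), (8, 7), (7, 8), (9, 6), (8, 7), (5, 10), (6, 9), (6, 9),
    (9, 6), (9, 6), (8, 7), (7, 8), (6, 9), (7, 8), (6, 9), (4, 11),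
    (5, 10), (9, 6), (8, 7), (9, 6), (8, 7), (6, 9), (9, 6), (6, 9),
    (7, 8), (5, 10), (8, 7), (7, 8), (7, 8), (6, 9), (7, 8), (6, 9)]

/-- data -/
def mPotPart29 : List (ℤ × ℤ) :=
  [(6, 9), (4, 11), (3, 12), (6, 9), (5, 10), (3, 12), (9, 7), (9, 7),
    (8, 8), (9, 7), (6, 10), (10, 6), (9, 7), (8, 8), (7, 9), (8, 8),
    (7, 9), (9, 7), (8, 8), (8, 8), (5, 11), (7, 9), (7, 9), (5, 11),
    (10, 6), (9, 7), (9, 7), (6, 10), (7, 9), (7, 9), (10, 6), (9, 7),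
    (10, 6), (9, 7), (8, 8), (8, 8), (7, 9), (8, 8), (7, 9), (7, 9),
    (7, 9), (6, 10), (4, 12), (10, 6), (8, 8), (7, 9), (8, 8), (7, 9),
    (6, 10), (8, 8), (6, 10), (7, 9), (4, 12), (9, 8), (9, 8), (8, 9),
    (9, 8), (8, 9), (8, 9), (5, 12), (7, 10), (9, 9), (8, 10), (9, 10)]

/-- data -/
def mPot : List (List (ℤ × ℤ)) :=
  [mPotPart0, mPotPart1, mPotPart2, mPotPart3, mPotPart4, mPotPart5, mPotPart6, mPotPart7, mPotPart8, mPotPart9, mPotPart10, mPotPart11, mPotPart12, mPotPart13, mPotPart14, mPotPart15, mPotPart16, mPotPart17, mPotPart18, mPotPart19, mPotPart20, mPotPart21, mPotPart22, mPotPart23, mPotPart24, mPotPart25, mPotPart26, mPotPart27, mPotPart28, mPotPart29]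

/-- data -/
def mCertPart0 : List (ℕ × ℕ × ℕ) :=
  [(2, 0, 3), (2, 1, 3), (2, 2, 2), (2, 3, 3), (2, 5, 3), (2, 6, 2), (2, 10, 2), (2, 11, 3),
    (2, 13, 3), (2, 14, 2), (2, 17, 2), (2, 18, 3), (2, 19, 3), (2, 20, 2), (2, 24, 3), (2, 26, 3),
    (2, 27, 2), (2, 29, 2), (2, 30, 3), (2, 31, 3), (2, 32, 2), (2, 35, 3), (2, 37, 3), (2, 38, 2),
    (2, 41, 2), (2, 43, 2), (2, 47, 3), (2, 49, 3), (2, 50, 3), (2, 51, 3), (2, 52, 2), (2, 55, 3),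
    (2, 57, 3), (2, 58, 2), (2, 64, 3), (2, 66, 3), (2, 68, 2), (2, 69, 3), (2, 70, 3), (2, 71, 2),
    (2, 72, 3), (2, 73, 3), (2, 74, 2), (2, 77, 2), (2, 79, 2), (2, 83, 3), (2, 87, 3), (2, 90, 2),
    (2, 96, 3), (2, 98, 3), (2, 100, 2), (2, 101, 3), (2, 102, 2), (2, 105, 2), (2, 107, 2), (2, 111, 3),
    (2, 113, 3), (2, 114, 3), (2, 115, 2), (2, 118, 3), (2, 120, 3), (2, 121, 2), (2, 124, 3), (2, 128, 2)]

/-- data -/
def mCertPart1 : List (ℕ × ℕ × ℕ) :=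
  [(2, 129, 3), (2, 131, 2), (2, 132, 3), (2, 133, 3), (2, 134, 2), (2, 139, 2), (2, 148, 3), (2, 152, 2),
    (2, 153, 3), (2, 154, 2), (2, 157, 2), (2, 159, 2), (2, 165, 3), (2, 167, 2), (2, 168, 3), (2, 169, 3),
    (2, 170, 2), (2, 172, 2), (2, 175, 2), (2, 176, 3), (2, 177, 3), (2, 178, 2), (2, 183, 2), (2, 192, 2),
    (2, 198, 3), (2, 200, 3), (2, 206, 3), (2, 208, 3), (2, 210, 2), (2, 215, 3), (2, 216, 2), (2, 223, 2),
    (2, 224, 3), (2, 225, 2), (2, 226, 3), (2, 227, 3), (2, 228, 2), (2, 233, 2), (2, 235, 2), (2, 237, 2),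
    (2, 240, 2), (2, 242, 2), (2, 247, 3), (2, 249, 2), (2, 250, 3), (2, 251, 3), (2, 252, 2), (2, 257, 2),
    (2, 258, 3), (2, 265, 2), (2, 274, 2), (2, 277, 3), (2, 280, 3), (2, 287, 3), (2, 288, 2), (2, 295, 2),
    (2, 296, 3), (2, 297, 2), (2, 298, 3), (2, 299, 3), (2, 300, 2), (2, 305, 2), (2, 311, 3), (2, 316, 3)]

/-- data -/
def mCertPart2 : List (ℕ × ℕ × ℕ) :=
  [(2, 317, 2), (2, 322, 2), (2, 329, 2), (2, 331, 2), (2, 336, 2), (2, 344, 2), (2, 352, 3), (2, 360, 3),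
    (2, 362, 2), (2, 365, 3), (2, 366, 2), (2, 373, 2), (2, 375, 2), (2, 376, 3), (2, 377, 3), (2, 378, 2),
    (2, 379, 3), (2, 381, 2), (2, 383, 3), (2, 384, 2), (2, 390, 3), (2, 395, 2), (2, 405, 3), (2, 414, 3),
    (2, 415, 2), (2, 421, 3), (2, 422, 2), (2, 423, 3), (2, 425, 2), (2, 430, 2), (2, 451, 2), (2, 458, 3),
    (2, 466, 3), (2, 468, 2), (2, 471, 3), (2, 472, 2), (2, 479, 2), (2, 481, 2), (2, 482, 3), (2, 483, 3),
    (2, 484, 2), (2, 486, 2), (2, 488, 2), (2, 490, 2), (2, 498, 2), (2, 499, 3), (2, 500, 3), (2, 501, 2),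
    (2, 504, 2), (2, 511, 2), (2, 515, 3), (2, 519, 3), (2, 520, 2), (2, 525, 3), (2, 530, 2), (2, 535, 3),
    (2, 540, 3), (2, 541, 2), (2, 549, 2), (2, 551, 2), (2, 555, 2), (2, 575, 3), (2, 579, 3), (2, 592, 3)]

/-- data -/
def mCertPart3 : List (ℕ × ℕ × ℕ) :=
  [(2, 605, 3), (2, 610, 2), (2, 637, 3), (2, 642, 2), (2, 650, 2), (2, 651, 3), (2, 653, 2), (2, 655, 2),
    (2, 657, 2), (2, 664, 2), (2, 669, 2), (2, 674, 3), (2, 676, 3), (2, 677, 2), (2, 685, 2), (2, 710, 3),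
    (2, 721, 3), (2, 723, 2), (2, 726, 2), (2, 734, 2), (2, 741, 3), (2, 747, 2), (2, 755, 3), (2, 761, 2),
    (2, 779, 3), (2, 783, 2), (2, 786, 2), (2, 792, 2), (2, 797, 2), (2, 805, 3), (2, 810, 2), (2, 813, 3),
    (2, 818, 2), (2, 826, 2), (2, 831, 2), (2, 837, 2), (2, 878, 2), (2, 880, 2), (2, 882, 2), (2, 888, 2),
    (2, 893, 2), (2, 905, 2), (2, 935, 2), (2, 944, 2), (2, 949, 3), (2, 954, 2), (2, 956, 2), (2, 964, 2),
    (2, 976, 2), (2, 983, 2), (2, 996, 2), (2, 1002, 2), (2, 1023, 3), (2, 1056, 3), (2, 1061, 2), (2, 1096, 2),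
    (2, 1143, 3), (2, 1147, 2), (2, 1149, 3), (2, 1153, 2), (2, 1166, 2), (2, 1172, 2), (2, 1180, 2), (2, 1205, 2)]

/-- data -/
def mCertPart4 : List (ℕ × ℕ × ℕ) :=
  [(2, 1224, 2), (2, 1329, 3), (2, 1333, 2), (2, 1335, 3), (2, 1339, 2), (2, 1351, 2), (2, 1381, 2), (2, 1499, 2),
    (2, 1572, 2), (2, 1577, 2), (2, 1670, 2), (4, 0, 7), (4, 1, 7), (4, 2, 7), (4, 5, 7), (4, 9, 8),
    (4, 12, 5), (4, 16, 8), (4, 28, 8), (4, 36, 5), (4, 56, 3), (4, 67, 8), (4, 88, 3), (4, 99, 8),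
    (4, 127, 8), (4, 151, 8), (4, 171, 8), (4, 190, 3), (5, 0, 9), (5, 1, 9), (5, 2, 9), (5, 5, 9),
    (5, 6, 9), (5, 9, 7), (5, 12, 10), (5, 16, 7), (5, 28, 7), (5, 40, 5), (5, 63, 4), (5, 67, 7),
    (5, 76, 5), (5, 95, 4), (5, 104, 2), (5, 136, 5), (5, 147, 4), (5, 180, 5), (5, 262, 5), (5, 319, 0),
    (0, 0, 3), (0, 2, 3), (0, 4, 3), (0, 6, 3), (0, 8, 3), (0, 10, 3), (0, 14, 3), (0, 15, 3),
    (0, 17, 3), (0, 20, 3), (0, 22, 3), (0, 23, 3), (0, 29, 3), (0, 32, 3), (0, 39, 3), (0, 41, 3)]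

/-- data -/
def mCertPart5 : List (ℕ × ℕ × ℕ) :=
  [(0, 43, 3), (0, 45, 3), (0, 46, 3), (0, 52, 3), (0, 59, 3), (0, 60, 3), (0, 62, 3), (0, 63, 3),
    (0, 68, 3), (0, 71, 3), (0, 75, 3), (0, 77, 3), (0, 79, 3), (0, 81, 3), (0, 82, 3), (0, 91, 3),
    (0, 92, 3), (0, 94, 3), (0, 95, 3), (0, 100, 3), (0, 102, 3), (0, 103, 3), (0, 105, 3), (0, 107, 3),
    (0, 109, 3), (0, 110, 3), (0, 115, 3), (0, 128, 3), (0, 135, 3), (0, 137, 3), (0, 139, 3), (0, 142, 3),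
    (0, 143, 3), (0, 144, 3), (0, 146, 3), (0, 147, 3), (0, 152, 3), (0, 154, 3), (0, 155, 2), (0, 157, 3),
    (0, 162, 3), (0, 167, 3), (0, 179, 3), (0, 183, 3), (0, 186, 3), (0, 194, 3), (0, 197, 3), (0, 201, 3),
    (0, 202, 3), (0, 204, 3), (0, 205, 3), (0, 210, 3), (0, 229, 3), (0, 231, 3), (0, 233, 3), (0, 235, 3),
    (0, 237, 3), (0, 244, 3), (0, 265, 3), (0, 268, 3), (0, 282, 3), (0, 301, 3), (0, 305, 3), (0, 306, 3)]

/-- data -/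
def mCertPart6 : List (ℕ × ℕ × ℕ) :=
  [(0, 307, 3), (0, 309, 3), (0, 310, 3), (0, 315, 3), (0, 317, 3), (0, 318, 2), (0, 320, 3), (0, 325, 3),
    (0, 338, 3), (0, 346, 3), (0, 353, 3), (0, 354, 3), (0, 357, 3), (0, 397, 3), (0, 430, 3), (0, 432, 3),
    (0, 439, 2), (0, 441, 3), (0, 444, 3), (0, 452, 3), (0, 459, 3), (0, 486, 3), (0, 488, 3), (0, 514, 3),
    (0, 531, 3), (0, 539, 3), (0, 542, 3), (0, 557, 3), (0, 568, 3), (0, 572, 3), (0, 610, 3), (0, 612, 3),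
    (0, 620, 3), (0, 623, 3), (0, 635, 3), (0, 657, 3), (0, 671, 3), (0, 672, 3), (0, 678, 3), (0, 692, 3),
    (0, 703, 3), (0, 707, 3), (0, 849, 3), (0, 853, 3), (0, 861, 3), (0, 882, 3), (0, 898, 3), (0, 1014, 3),
    (0, 1045, 3), (0, 1257, 3), (1, 0, 4), (1, 1, 4), (1, 3, 4), (1, 5, 4), (1, 11, 4), (1, 13, 4),
    (1, 18, 4), (1, 19, 4), (1, 24, 4), (1, 26, 4), (1, 30, 4), (1, 31, 4), (1, 35, 4), (1, 37, 4)]

/-- data -/
def mCertPart7 : List (ℕ × ℕ × ℕ) :=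
  [(1, 47, 4), (1, 49, 4), (1, 50, 4), (1, 51, 4), (1, 55, 4), (1, 57, 4), (1, 64, 4), (1, 66, 4),
    (1, 69, 4), (1, 72, 4), (1, 73, 4), (1, 83, 4), (1, 87, 4), (1, 96, 4), (1, 98, 4), (1, 111, 4),
    (1, 113, 4), (1, 114, 4), (1, 118, 4), (1, 120, 4), (1, 124, 4), (1, 126, 4), (1, 129, 4), (1, 130, 2),
    (1, 132, 4), (1, 133, 4), (1, 165, 4), (1, 168, 4), (1, 169, 4), (1, 174, 2), (1, 176, 4), (1, 177, 4),
    (1, 198, 4), (1, 200, 4), (1, 206, 4), (1, 208, 4), (1, 213, 3), (1, 215, 4), (1, 224, 4), (1, 226, 4),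
    (1, 227, 4), (1, 247, 4), (1, 250, 4), (1, 251, 4), (1, 256, 2), (1, 259, 4), (1, 277, 4), (1, 280, 4),
    (1, 285, 3), (1, 287, 4), (1, 296, 4), (1, 298, 4), (1, 299, 4), (1, 360, 4), (1, 365, 4), (1, 376, 4),
    (1, 377, 4), (1, 379, 4), (1, 383, 4), (1, 405, 4), (1, 414, 4), (1, 421, 4), (1, 423, 4), (1, 466, 4)]

/-- data -/
def mCertPart8 : List (ℕ × ℕ × ℕ) :=
  [(1, 471, 4), (1, 482, 4), (1, 515, 4), (1, 519, 4), (1, 579, 4), (1, 592, 4), (1, 605, 4), (1, 637, 4),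
    (1, 721, 4), (1, 755, 4), (1, 779, 4), (1, 805, 4), (1, 949, 4), (2, 7, 3), (2, 9, 2), (2, 16, 2),
    (2, 21, 3), (2, 28, 2), (2, 33, 3), (2, 40, 2), (2, 44, 3), (2, 53, 3), (2, 61, 3), (2, 67, 2),
    (2, 76, 2), (2, 80, 3), (2, 85, 3), (2, 93, 3), (2, 99, 2), (2, 104, 2), (2, 108, 3), (2, 116, 3),
    (2, 122, 3), (2, 127, 2), (2, 136, 2), (2, 145, 3), (2, 151, 2), (2, 156, 1), (2, 158, 3), (2, 160, 3),
    (2, 166, 2), (2, 171, 2), (2, 173, 3), (2, 180, 2), (2, 187, 3), (2, 195, 3), (2, 203, 3), (2, 211, 3),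
    (2, 217, 3), (2, 222, 2), (2, 230, 2), (2, 234, 2), (2, 239, 1), (2, 241, 3), (2, 243, 3), (2, 248, 2),
    (2, 253, 2), (2, 254, 1), (2, 256, 2), (2, 259, 1), (2, 262, 2), (2, 269, 3), (2, 275, 3), (2, 281, 0)]

/-- data -/
def mCertPart9 : List (ℕ × ℕ × ℕ) :=
  [(2, 283, 3), (2, 289, 3), (2, 294, 2), (2, 302, 2), (2, 308, 3), (2, 314, 2), (2, 320, 1), (2, 323, 3),
    (2, 328, 2), (2, 355, 3), (2, 367, 3), (2, 380, 2), (2, 385, 2), (2, 398, 3), (2, 403, 3), (2, 411, 3),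
    (2, 416, 3), (2, 419, 2), (2, 427, 2), (2, 433, 3), (2, 442, 3), (2, 461, 3), (2, 464, 2), (2, 473, 3),
    (2, 485, 2), (2, 489, 1), (2, 491, 3), (2, 493, 3), (2, 502, 2), (2, 503, 2), (2, 505, 2), (2, 506, 1),
    (2, 508, 2), (2, 516, 0), (2, 521, 2), (2, 538, 2), (2, 542, 1), (2, 548, 2), (2, 581, 3), (2, 586, 3),
    (2, 591, 3), (2, 601, 3), (2, 613, 3), (2, 621, 3), (2, 643, 3), (2, 654, 2), (2, 662, 2), (2, 663, 2),
    (2, 666, 2), (2, 678, 1), (2, 684, 2), (2, 686, 1), (2, 716, 3), (2, 739, 3), (2, 748, 3), (2, 759, 2),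
    (2, 775, 3), (2, 782, 2), (2, 796, 2), (2, 799, 2), (2, 806, 0), (2, 823, 2), (2, 830, 2), (2, 854, 3)]

/-- data -/
def mCertPart10 : List (ℕ × ℕ × ℕ) :=
  [(2, 859, 3), (2, 872, 3), (2, 879, 2), (2, 886, 2), (2, 887, 2), (2, 890, 2), (2, 904, 2), (2, 927, 3),
    (2, 955, 2), (2, 963, 2), (2, 973, 0), (2, 995, 2), (2, 1017, 3), (2, 1022, 3), (2, 1062, 3), (2, 1085, 3),
    (2, 1125, 3), (2, 1130, 2), (2, 1169, 2), (2, 1177, 2), (2, 1186, 2), (2, 1231, 0), (2, 1245, 2), (2, 1281, 3),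
    (2, 1360, 3), (2, 1404, 2), (2, 1476, 3), (2, 1516, 2), (2, 1543, 3), (2, 1733, 3), (4, 3, 7), (4, 7, 5),
    (4, 11, 7), (4, 18, 7), (4, 21, 5), (4, 24, 7), (4, 25, 5), (4, 27, 10), (4, 30, 7), (4, 33, 5),
    (4, 34, 5), (4, 35, 7), (4, 40, 8), (4, 41, 8), (4, 44, 5), (4, 47, 7), (4, 48, 5), (4, 50, 7),
    (4, 52, 1), (4, 53, 5), (4, 54, 5), (4, 61, 5), (4, 64, 7), (4, 65, 5), (4, 69, 7), (4, 72, 7),
    (4, 76, 8), (4, 77, 8), (4, 80, 5), (4, 84, 5), (4, 93, 5), (4, 94, 5), (4, 95, 5), (4, 96, 7)]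

/-- data -/
def mCertPart11 : List (ℕ × ℕ × ℕ) :=
  [(4, 97, 5), (4, 105, 8), (4, 108, 5), (4, 113, 5), (4, 115, 1), (4, 119, 3), (4, 125, 3), (4, 130, 5),
    (4, 132, 7), (4, 136, 8), (4, 137, 7), (4, 145, 5), (4, 147, 5), (4, 148, 7), (4, 149, 5), (4, 160, 5),
    (4, 165, 5), (4, 167, 1), (4, 170, 8), (4, 174, 5), (4, 180, 8), (4, 195, 7), (4, 203, 5), (4, 210, 1),
    (4, 220, 3), (4, 224, 5), (4, 231, 7), (4, 243, 5), (4, 247, 5), (4, 249, 0), (4, 252, 8), (4, 253, 8),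
    (4, 262, 8), (4, 264, 11), (4, 275, 7), (4, 282, 1), (4, 292, 3), (4, 308, 7), (4, 312, 5), (4, 323, 5),
    (4, 327, 3), (4, 347, 8), (4, 348, 5), (4, 370, 3), (4, 410, 1), (4, 416, 3), (4, 417, 8), (4, 418, 3),
    (4, 431, 1), (4, 433, 7), (4, 446, 3), (4, 453, 8), (4, 454, 5), (4, 460, 5), (4, 476, 3), (4, 492, 14),
    (4, 493, 5), (4, 497, 13), (4, 502, 8), (4, 584, 3), (4, 613, 5), (4, 625, 3), (4, 638, 1), (4, 661, 3)]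

/-- data -/
def mCertPart12 : List (ℕ × ℕ × ℕ) :=
  [(4, 662, 8), (4, 698, 1), (4, 766, 8), (4, 771, 1), (4, 871, 1), (4, 899, 13), (5, 3, 9), (5, 7, 10),
    (5, 11, 9), (5, 18, 9), (5, 21, 10), (5, 24, 9), (5, 30, 9), (5, 32, 9), (5, 33, 10), (5, 34, 10),
    (5, 35, 9), (5, 42, 9), (5, 43, 9), (5, 44, 10), (5, 46, 5), (5, 47, 9), (5, 53, 10), (5, 54, 10),
    (5, 55, 9), (5, 61, 10), (5, 64, 9), (5, 71, 9), (5, 78, 9), (5, 82, 5), (5, 85, 10), (5, 86, 10),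
    (5, 87, 9), (5, 93, 9), (5, 94, 12), (5, 96, 9), (5, 99, 7), (5, 114, 12), (5, 117, 10), (5, 118, 9),
    (5, 122, 10), (5, 124, 9), (5, 134, 9), (5, 135, 4), (5, 148, 7), (5, 151, 7), (5, 154, 10), (5, 168, 9),
    (5, 173, 10), (5, 176, 7), (5, 177, 4), (5, 179, 4), (5, 188, 9), (5, 195, 9), (5, 225, 7), (5, 243, 15),
    (5, 248, 10), (5, 255, 10), (5, 259, 4), (5, 270, 9), (5, 275, 9), (5, 283, 7), (5, 289, 10), (5, 308, 9)]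

/-- data -/
def mCertPart13 : List (ℕ × ℕ × ℕ) :=
  [(5, 311, 7), (5, 347, 7), (5, 348, 14), (5, 362, 11), (5, 399, 9), (5, 403, 9), (5, 417, 7), (5, 425, 11),
    (5, 436, 7), (5, 453, 7), (5, 454, 14), (5, 460, 14), (5, 468, 11), (5, 505, 5), (5, 516, 12), (5, 566, 11),
    (5, 581, 7), (5, 589, 13), (5, 597, 5), (5, 598, 17), (5, 613, 9), (5, 629, 7), (5, 630, 14), (5, 646, 16),
    (5, 659, 17), (5, 730, 7), (5, 741, 2), (5, 766, 7), (5, 772, 5), (5, 782, 2), (5, 785, 0), (5, 797, 7),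
    (5, 801, 14), (5, 806, 12), (5, 849, 5), (5, 874, 16), (5, 895, 3), (5, 907, 8), (5, 918, 2), (5, 964, 7),
    (5, 976, 7), (5, 989, 2), (5, 1020, 13), (5, 1027, 17), (5, 1047, 9), (5, 1052, 13), (5, 1077, 2), (5, 1119, 7),
    (5, 1130, 2), (5, 1194, 2), (5, 1262, 13), (5, 1368, 17), (5, 1426, 13), (5, 1603, 13), (0, 27, 3), (0, 38, 3),
    (0, 58, 3), (0, 74, 3), (0, 121, 3), (0, 131, 2), (0, 134, 3), (0, 141, 2), (0, 161, 3), (0, 170, 3)]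

/-- data -/
def mCertPart14 : List (ℕ × ℕ × ℕ) :=
  [(0, 172, 4), (0, 175, 2), (0, 178, 3), (0, 216, 3), (0, 225, 2), (0, 228, 3), (0, 238, 2), (0, 252, 3),
    (0, 261, 3), (0, 274, 1), (0, 288, 3), (0, 295, 3), (0, 297, 2), (0, 300, 3), (0, 324, 3), (0, 329, 4),
    (0, 349, 3), (0, 362, 3), (0, 366, 1), (0, 378, 3), (0, 381, 3), (0, 384, 3), (0, 393, 3), (0, 415, 3),
    (0, 422, 2), (0, 425, 3), (0, 431, 2), (0, 443, 3), (0, 455, 3), (0, 463, 3), (0, 468, 3), (0, 472, 1),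
    (0, 484, 3), (0, 501, 3), (0, 507, 3), (0, 520, 3), (0, 528, 3), (0, 544, 3), (0, 549, 4), (0, 600, 3),
    (0, 611, 2), (0, 618, 2), (0, 622, 2), (0, 631, 3), (0, 636, 3), (0, 642, 1), (0, 653, 3), (0, 685, 4),
    (0, 726, 3), (0, 732, 3), (0, 747, 3), (0, 761, 3), (0, 774, 1), (0, 781, 3), (0, 810, 3), (0, 819, 3),
    (0, 845, 2), (0, 905, 3), (0, 918, 2), (0, 935, 1), (0, 954, 3), (0, 976, 3), (0, 1010, 2), (0, 1040, 2)]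

/-- data -/
def mCertPart15 : List (ℕ × ℕ × ℕ) :=
  [(0, 1095, 3), (0, 1147, 3), (0, 1194, 2), (0, 1292, 3), (0, 1333, 3), (0, 1455, 3), (0, 1568, 3), (1, 85, 3),
    (1, 89, 4), (1, 116, 3), (1, 122, 3), (1, 145, 4), (1, 148, 4), (1, 173, 3), (1, 187, 3), (1, 189, 3),
    (1, 191, 4), (1, 211, 3), (1, 217, 3), (1, 255, 3), (1, 271, 3), (1, 273, 4), (1, 275, 4), (1, 279, 4),
    (1, 289, 3), (1, 311, 4), (1, 313, 4), (1, 323, 3), (1, 339, 3), (1, 343, 4), (1, 355, 4), (1, 367, 3),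
    (1, 402, 4), (1, 403, 4), (1, 407, 4), (1, 412, 3), (1, 416, 3), (1, 424, 5), (1, 436, 4), (1, 438, 4),
    (1, 447, 3), (1, 461, 4), (1, 473, 3), (1, 506, 3), (1, 535, 4), (1, 588, 2), (1, 590, 4), (1, 594, 4),
    (1, 606, 5), (1, 616, 4), (1, 641, 3), (1, 643, 3), (1, 651, 4), (1, 674, 4), (1, 745, 3), (1, 770, 5),
    (1, 972, 3), (1, 1106, 3), (1, 1107, 3), (1, 1211, 3), (2, 42, 2), (2, 60, 1), (2, 78, 2), (2, 92, 1)]

/-- data -/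
def mCertPart16 : List (ℕ × ℕ × ℕ) :=
  [(2, 138, 2), (2, 144, 1), (2, 150, 3), (2, 182, 2), (2, 194, 1), (2, 232, 2), (2, 236, 3), (2, 264, 2),
    (2, 282, 1), (2, 304, 2), (2, 307, 1), (2, 313, 0), (2, 333, 1), (2, 346, 1), (2, 347, 2), (2, 350, 3),
    (2, 358, 2), (2, 369, 2), (2, 374, 3), (2, 382, 1), (2, 394, 2), (2, 417, 2), (2, 424, 2), (2, 429, 2),
    (2, 432, 1), (2, 441, 1), (2, 450, 3), (2, 452, 1), (2, 456, 3), (2, 487, 3), (2, 510, 2), (2, 517, 1),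
    (2, 523, 3), (2, 529, 2), (2, 532, 1), (2, 550, 1), (2, 553, 1), (2, 562, 0), (2, 564, 1), (2, 565, 3),
    (2, 567, 3), (2, 570, 2), (2, 573, 2), (2, 594, 1), (2, 597, 3), (2, 603, 2), (2, 612, 1), (2, 616, 1),
    (2, 620, 2), (2, 627, 3), (2, 629, 2), (2, 641, 2), (2, 658, 1), (2, 659, 2), (2, 668, 2), (2, 673, 1),
    (2, 688, 1), (2, 697, 0), (2, 699, 1), (2, 700, 1), (2, 704, 1), (2, 705, 2), (2, 708, 2), (2, 722, 1)]

/-- data -/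
def mCertPart17 : List (ℕ × ℕ × ℕ) :=
  [(2, 724, 1), (2, 730, 2), (2, 733, 2), (2, 738, 3), (2, 743, 1), (2, 749, 2), (2, 766, 2), (2, 769, 1),
    (2, 778, 0), (2, 785, 2), (2, 794, 1), (2, 798, 1), (2, 807, 1), (2, 812, 3), (2, 817, 2), (2, 821, 2),
    (2, 832, 1), (2, 835, 0), (2, 842, 1), (2, 846, 1), (2, 847, 3), (2, 850, 2), (2, 853, 1), (2, 857, 1),
    (2, 865, 3), (2, 881, 1), (2, 883, 1), (2, 898, 1), (2, 913, 1), (2, 918, 1), (2, 922, 2), (2, 931, 3),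
    (2, 938, 2), (2, 946, 2), (2, 968, 1), (2, 974, 1), (2, 975, 1), (2, 982, 2), (2, 986, 2), (2, 997, 1),
    (2, 1007, 1), (2, 1021, 1), (2, 1025, 1), (2, 1026, 3), (2, 1029, 2), (2, 1030, 0), (2, 1034, 3), (2, 1035, 2),
    (2, 1036, 1), (2, 1043, 3), (2, 1049, 2), (2, 1067, 2), (2, 1071, 1), (2, 1089, 3), (2, 1090, 1), (2, 1100, 3),
    (2, 1119, 2), (2, 1122, 1), (2, 1132, 1), (2, 1165, 3), (2, 1171, 1), (2, 1173, 1), (2, 1188, 2), (2, 1194, 1)]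

/-- data -/
def mCertPart18 : List (ℕ × ℕ × ℕ) :=
  [(2, 1197, 3), (2, 1201, 3), (2, 1215, 2), (2, 1237, 2), (2, 1246, 2), (2, 1269, 2), (2, 1271, 2), (2, 1276, 1),
    (2, 1284, 2), (2, 1350, 3), (2, 1355, 1), (2, 1371, 0), (2, 1379, 2), (2, 1394, 3), (2, 1415, 2), (2, 1431, 0),
    (2, 1442, 2), (2, 1448, 1), (2, 1486, 3), (2, 1491, 2), (2, 1503, 1), (2, 1536, 1), (2, 1576, 3), (2, 1607, 0),
    (2, 1612, 2), (2, 1641, 3), (2, 1679, 3), (2, 1720, 1), (2, 1757, 1), (2, 1767, 2), (2, 1802, 1), (2, 1874, 1),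
    (3, 51, 10), (3, 62, 12), (3, 64, 6), (3, 70, 8), (3, 105, 15), (3, 114, 11), (4, 4, 7), (4, 8, 7),
    (4, 13, 6), (4, 15, 7), (4, 26, 6), (4, 38, 9), (4, 39, 8), (4, 57, 6), (4, 58, 9), (4, 59, 8),
    (4, 60, 8), (4, 79, 8), (4, 81, 7), (4, 83, 7), (4, 91, 9), (4, 101, 4), (4, 109, 7), (4, 111, 7),
    (4, 116, 7), (4, 118, 6), (4, 120, 6), (4, 138, 9), (4, 139, 8), (4, 140, 3), (4, 142, 8), (4, 143, 9)]

/-- data -/
def mCertPart19 : List (ℕ × ℕ × ℕ) :=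
  [(4, 152, 9), (4, 153, 4), (4, 157, 8), (4, 161, 7), (4, 182, 9), (4, 183, 12), (4, 184, 3), (4, 193, 9),
    (4, 199, 3), (4, 201, 9), (4, 202, 7), (4, 206, 7), (4, 207, 5), (4, 211, 7), (4, 213, 10), (4, 215, 11),
    (4, 217, 5), (4, 223, 14), (4, 229, 13), (4, 230, 10), (4, 235, 6), (4, 237, 10), (4, 240, 8), (4, 241, 9),
    (4, 258, 7), (4, 261, 4), (4, 270, 5), (4, 274, 8), (4, 278, 3), (4, 283, 7), (4, 296, 4), (4, 306, 9),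
    (4, 314, 8), (4, 332, 3), (4, 334, 8), (4, 337, 3), (4, 338, 8), (4, 340, 3), (4, 342, 3), (4, 346, 11),
    (4, 351, 3), (4, 354, 7), (4, 367, 5), (4, 369, 8), (4, 374, 5), (4, 379, 5), (4, 385, 8), (4, 390, 7),
    (4, 403, 6), (4, 411, 7), (4, 420, 7), (4, 421, 4), (4, 424, 11), (4, 427, 14), (4, 437, 3), (4, 439, 10),
    (4, 441, 9), (4, 442, 5), (4, 455, 13), (4, 456, 3), (4, 457, 3), (4, 459, 8), (4, 464, 8), (4, 465, 5)]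

/-- data -/
def mCertPart20 : List (ℕ × ℕ × ℕ) :=
  [(4, 466, 3), (4, 470, 7), (4, 473, 5), (4, 482, 8), (4, 487, 5), (4, 501, 12), (4, 504, 8), (4, 506, 11),
    (4, 509, 6), (4, 515, 3), (4, 532, 13), (4, 535, 11), (4, 541, 12), (4, 549, 9), (4, 554, 8), (4, 556, 3),
    (4, 559, 3), (4, 560, 3), (4, 564, 14), (4, 566, 3), (4, 568, 9), (4, 569, 7), (4, 572, 5), (4, 575, 13),
    (4, 588, 11), (4, 590, 5), (4, 596, 9), (4, 599, 15), (4, 601, 3), (4, 602, 3), (4, 604, 7), (4, 606, 15),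
    (4, 614, 2), (4, 617, 3), (4, 618, 7), (4, 620, 9), (4, 626, 8), (4, 629, 8), (4, 630, 5), (4, 633, 3),
    (4, 637, 3), (4, 643, 5), (4, 648, 14), (4, 651, 8), (4, 656, 13), (4, 663, 5), (4, 665, 3), (4, 667, 9),
    (4, 671, 7), (4, 672, 10), (4, 679, 9), (4, 681, 4), (4, 685, 10), (4, 689, 8), (4, 691, 3), (4, 694, 3),
    (4, 695, 3), (4, 699, 14), (4, 703, 9), (4, 704, 7), (4, 708, 8), (4, 730, 8), (4, 739, 5), (4, 741, 2)]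

/-- data -/
def mCertPart21 : List (ℕ × ℕ × ℕ) :=
  [(4, 751, 8), (4, 752, 7), (4, 779, 12), (4, 796, 4), (4, 804, 3), (4, 805, 3), (4, 825, 3), (4, 833, 8),
    (4, 838, 3), (4, 845, 2), (4, 851, 5), (4, 863, 3), (4, 873, 13), (4, 880, 8), (4, 886, 8), (4, 889, 1),
    (4, 891, 4), (4, 895, 7), (4, 901, 3), (4, 902, 3), (4, 905, 11), (4, 913, 14), (4, 915, 3), (4, 917, 9),
    (4, 938, 14), (4, 946, 7), (4, 948, 14), (4, 971, 3), (4, 972, 3), (4, 977, 11), (4, 985, 3), (4, 993, 3),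
    (4, 994, 1), (4, 999, 15), (4, 1016, 5), (4, 1018, 8), (4, 1025, 2), (4, 1034, 11), (4, 1039, 0), (4, 1056, 8),
    (4, 1062, 1), (4, 1063, 3), (4, 1087, 3), (4, 1094, 3), (4, 1103, 15), (4, 1113, 0), (4, 1118, 13), (4, 1119, 8),
    (4, 1125, 3), (4, 1139, 7), (4, 1142, 4), (4, 1143, 3), (4, 1156, 0), (4, 1167, 1), (4, 1185, 0), (4, 1187, 8),
    (4, 1201, 3), (4, 1215, 7), (4, 1233, 8), (4, 1236, 3), (4, 1239, 14), (4, 1249, 1), (4, 1252, 15), (4, 1258, 13)]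

/-- data -/
def mCertPart22 : List (ℕ × ℕ × ℕ) :=
  [(4, 1281, 1), (4, 1323, 5), (4, 1327, 15), (4, 1332, 15), (4, 1363, 4), (4, 1366, 0), (4, 1379, 3), (4, 1385, 5),
    (4, 1418, 10), (4, 1425, 3), (4, 1437, 3), (4, 1438, 0), (4, 1439, 15), (4, 1441, 15), (4, 1442, 8), (4, 1451, 13),
    (4, 1457, 0), (4, 1466, 15), (4, 1477, 1), (4, 1478, 1), (4, 1495, 15), (4, 1501, 11), (4, 1503, 14), (4, 1511, 7),
    (4, 1515, 15), (4, 1523, 0), (4, 1536, 7), (4, 1537, 6), (4, 1547, 0), (4, 1561, 15), (4, 1563, 15), (4, 1567, 9),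
    (4, 1606, 9), (4, 1618, 3), (4, 1620, 0), (4, 1670, 14), (4, 1708, 0), (4, 1747, 8), (4, 1750, 15), (4, 1753, 9),
    (4, 1770, 5), (4, 1845, 15), (4, 1867, 0), (4, 1875, 15), (5, 8, 9), (5, 22, 9), (5, 29, 9), (5, 41, 11),
    (5, 49, 9), (5, 51, 4), (5, 57, 9), (5, 58, 7), (5, 62, 9), (5, 68, 8), (5, 72, 9), (5, 73, 4),
    (5, 81, 9), (5, 83, 10), (5, 84, 12), (5, 88, 14), (5, 89, 9), (5, 103, 6), (5, 106, 9), (5, 111, 9)]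

/-- data -/
def mCertPart23 : List (ℕ × ℕ × ℕ) :=
  [(5, 112, 12), (5, 123, 10), (5, 125, 14), (5, 126, 9), (5, 132, 9), (5, 133, 4), (5, 138, 9), (5, 143, 11),
    (5, 145, 9), (5, 149, 12), (5, 158, 9), (5, 164, 12), (5, 165, 13), (5, 172, 14), (5, 175, 7), (5, 181, 10),
    (5, 194, 5), (5, 203, 10), (5, 206, 9), (5, 215, 7), (5, 218, 10), (5, 219, 7), (5, 220, 14), (5, 226, 9),
    (5, 231, 15), (5, 233, 10), (5, 238, 5), (5, 241, 9), (5, 250, 8), (5, 263, 10), (5, 273, 9), (5, 277, 6),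
    (5, 278, 14), (5, 279, 7), (5, 282, 8), (5, 285, 10), (5, 287, 4), (5, 294, 3), (5, 298, 7), (5, 303, 15),
    (5, 306, 11), (5, 309, 15), (5, 312, 12), (5, 314, 7), (5, 315, 3), (5, 326, 9), (5, 327, 12), (5, 328, 7),
    (5, 329, 8), (5, 334, 9), (5, 339, 7), (5, 343, 7), (5, 344, 1), (5, 345, 4), (5, 369, 7), (5, 375, 10),
    (5, 377, 4), (5, 382, 6), (5, 386, 6), (5, 400, 4), (5, 405, 4), (5, 406, 14), (5, 415, 7), (5, 424, 11)]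

/-- data -/
def mCertPart24 : List (ℕ × ℕ × ℕ) :=
  [(5, 445, 7), (5, 448, 15), (5, 450, 7), (5, 457, 13), (5, 465, 14), (5, 475, 6), (5, 476, 14), (5, 480, 14),
    (5, 481, 11), (5, 494, 3), (5, 498, 10), (5, 502, 9), (5, 506, 11), (5, 509, 9), (5, 510, 4), (5, 511, 12),
    (5, 520, 8), (5, 522, 6), (5, 524, 10), (5, 533, 7), (5, 538, 9), (5, 556, 15), (5, 571, 10), (5, 576, 12),
    (5, 585, 9), (5, 591, 9), (5, 592, 4), (5, 593, 14), (5, 596, 12), (5, 601, 10), (5, 604, 9), (5, 606, 11),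
    (5, 611, 11), (5, 616, 7), (5, 633, 10), (5, 645, 6), (5, 649, 14), (5, 662, 9), (5, 669, 12), (5, 673, 11),
    (5, 676, 3), (5, 677, 2), (5, 680, 2), (5, 683, 11), (5, 685, 10), (5, 688, 1), (5, 691, 15), (5, 692, 7),
    (5, 703, 9), (5, 710, 2), (5, 716, 7), (5, 718, 4), (5, 722, 10), (5, 736, 13), (5, 739, 9), (5, 743, 10),
    (5, 746, 1), (5, 755, 15), (5, 759, 1), (5, 762, 9), (5, 771, 12), (5, 774, 10), (5, 790, 13), (5, 793, 9)]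

/-- data -/
def mCertPart25 : List (ℕ × ℕ × ℕ) :=
  [(5, 795, 3), (5, 798, 4), (5, 802, 11), (5, 805, 14), (5, 822, 10), (5, 829, 15), (5, 830, 7), (5, 833, 9),
    (5, 840, 10), (5, 843, 9), (5, 850, 5), (5, 857, 9), (5, 859, 16), (5, 870, 15), (5, 877, 3), (5, 879, 8),
    (5, 886, 9), (5, 905, 10), (5, 915, 9), (5, 923, 14), (5, 927, 7), (5, 928, 3), (5, 937, 3), (5, 945, 12),
    (5, 955, 2), (5, 963, 12), (5, 967, 16), (5, 974, 2), (5, 982, 15), (5, 984, 5), (5, 990, 4), (5, 992, 5),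
    (5, 995, 8), (5, 1013, 1), (5, 1017, 7), (5, 1021, 2), (5, 1024, 16), (5, 1030, 9), (5, 1039, 13), (5, 1041, 1),
    (5, 1046, 5), (5, 1051, 2), (5, 1053, 15), (5, 1058, 5), (5, 1061, 6), (5, 1064, 9), (5, 1088, 2), (5, 1097, 16),
    (5, 1101, 10), (5, 1102, 12), (5, 1107, 9), (5, 1124, 0), (5, 1135, 9), (5, 1146, 1), (5, 1151, 11), (5, 1156, 14),
    (5, 1182, 3), (5, 1187, 11), (5, 1197, 9), (5, 1199, 14), (5, 1207, 3), (5, 1208, 4), (5, 1211, 10), (5, 1217, 0)]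

/-- data -/
def mCertPart26 : List (ℕ × ℕ × ℕ) :=
  [(5, 1219, 8), (5, 1220, 1), (5, 1222, 4), (5, 1228, 17), (5, 1237, 8), (5, 1240, 4), (5, 1242, 16), (5, 1245, 3),
    (5, 1246, 9), (5, 1256, 0), (5, 1259, 9), (5, 1264, 9), (5, 1265, 10), (5, 1272, 15), (5, 1276, 1), (5, 1280, 4),
    (5, 1282, 9), (5, 1283, 16), (5, 1287, 10), (5, 1294, 10), (5, 1302, 10), (5, 1314, 15), (5, 1329, 14), (5, 1331, 12),
    (5, 1332, 11), (5, 1336, 9), (5, 1337, 11), (5, 1338, 15), (5, 1339, 2), (5, 1345, 7), (5, 1352, 16), (5, 1355, 1),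
    (5, 1362, 5), (5, 1374, 11), (5, 1380, 3), (5, 1384, 0), (5, 1386, 10), (5, 1404, 1), (5, 1406, 4), (5, 1417, 17),
    (5, 1431, 17), (5, 1434, 2), (5, 1435, 16), (5, 1436, 16), (5, 1443, 10), (5, 1444, 14), (5, 1445, 17), (5, 1446, 6),
    (5, 1450, 16), (5, 1460, 16), (5, 1467, 16), (5, 1468, 10), (5, 1474, 6), (5, 1477, 14), (5, 1483, 0), (5, 1489, 0),
    (5, 1491, 10), (5, 1494, 2), (5, 1496, 9), (5, 1503, 12), (5, 1504, 0), (5, 1508, 0), (5, 1516, 5), (5, 1521, 13)]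

/-- data -/
def mCertPart27 : List (ℕ × ℕ × ℕ) :=
  [(5, 1523, 7), (5, 1525, 0), (5, 1527, 10), (5, 1530, 9), (5, 1538, 13), (5, 1544, 16), (5, 1548, 5), (5, 1553, 14),
    (5, 1564, 17), (5, 1570, 7), (5, 1575, 0), (5, 1576, 2), (5, 1577, 17), (5, 1580, 10), (5, 1581, 0), (5, 1583, 17),
    (5, 1591, 15), (5, 1592, 10), (5, 1608, 0), (5, 1613, 15), (5, 1614, 14), (5, 1615, 0), (5, 1618, 10), (5, 1625, 17),
    (5, 1628, 9), (5, 1631, 2), (5, 1637, 0), (5, 1645, 0), (5, 1647, 15), (5, 1648, 0), (5, 1649, 11), (5, 1655, 9),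
    (5, 1664, 1), (5, 1673, 9), (5, 1676, 0), (5, 1677, 7), (5, 1679, 16), (5, 1680, 15), (5, 1690, 1), (5, 1692, 1),
    (5, 1702, 2), (5, 1703, 17), (5, 1711, 7), (5, 1712, 17), (5, 1721, 1), (5, 1723, 11), (5, 1733, 16), (5, 1737, 0),
    (5, 1739, 0), (5, 1741, 1), (5, 1742, 3), (5, 1746, 1), (5, 1750, 7), (5, 1753, 12), (5, 1761, 17), (5, 1773, 0),
    (5, 1776, 6), (5, 1778, 0), (5, 1785, 17), (5, 1786, 1), (5, 1790, 6), (5, 1792, 2), (5, 1801, 1), (5, 1802, 16)]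

/-- data -/
def mCertPart28 : List (ℕ × ℕ × ℕ) :=
  [(5, 1803, 1), (5, 1804, 4), (5, 1808, 17), (5, 1814, 0), (5, 1817, 0), (5, 1821, 0), (5, 1824, 17), (5, 1846, 12),
    (5, 1870, 15), (5, 1873, 1), (5, 1878, 4), (5, 1882, 17), (5, 1889, 12), (5, 1896, 16), (5, 1908, 0), (5, 1915, 0),
    (0, 90, 3), (0, 331, 2), (0, 517, 3), (0, 532, 3), (0, 551, 2), (0, 664, 2), (0, 669, 3), (0, 673, 3),
    (0, 735, 3), (0, 757, 3), (0, 818, 1), (0, 974, 2), (0, 1071, 3), (0, 1073, 2), (0, 1082, 3), (0, 1153, 1),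
    (0, 1209, 1), (0, 1293, 3), (0, 1318, 3), (0, 1388, 2), (0, 1448, 2), (0, 1456, 3), (0, 1682, 0), (1, 245, 5),
    (1, 480, 3), (1, 546, 1), (1, 748, 2), (1, 870, 4), (1, 876, 3), (1, 927, 3), (1, 1021, 2), (1, 1060, 3),
    (1, 1089, 3), (1, 1122, 3), (1, 1129, 5), (1, 1143, 3), (1, 1218, 5), (1, 1287, 3), (1, 1315, 4), (1, 1401, 3),
    (1, 1476, 1), (1, 1543, 1), (1, 1565, 3), (1, 1680, 3), (1, 1687, 1), (1, 1733, 4), (1, 1793, 4), (1, 1811, 1)]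

/-- data -/
def mCertPart29 : List (ℕ × ℕ × ℕ) :=
  [(2, 202, 1), (2, 245, 2), (2, 753, 3), (2, 767, 3), (2, 943, 2), (2, 1060, 0), (2, 1072, 1), (2, 1128, 1),
    (2, 1129, 2), (2, 1155, 0), (2, 1179, 1), (2, 1227, 1), (2, 1258, 2), (2, 1273, 3), (2, 1346, 1), (2, 1376, 0),
    (2, 1411, 1), (2, 1430, 1), (2, 1432, 2), (2, 1449, 2), (2, 1496, 3), (2, 1573, 2), (2, 1621, 2), (2, 1638, 1),
    (2, 1646, 2), (2, 1669, 1), (2, 1696, 3), (2, 1746, 2), (2, 1751, 0), (2, 1780, 2), (2, 1786, 2), (2, 1813, 2),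
    (2, 1823, 2), (2, 1837, 2), (2, 1847, 2), (2, 1887, 0), (2, 1896, 2), (2, 1900, 0), (3, 0, 10), (3, 1, 9),
    (3, 5, 8), (3, 14, 8), (3, 19, 9), (3, 68, 12), (3, 72, 16), (3, 115, 13), (3, 165, 6), (3, 176, 6),
    (3, 257, 12), (3, 259, 5), (3, 265, 13), (3, 291, 17), (3, 305, 16), (3, 332, 13), (3, 362, 16), (3, 511, 17),
    (3, 530, 14), (3, 658, 13), (4, 276, 6), (4, 480, 4), (4, 927, 5), (4, 1154, 3), (4, 1401, 5), (4, 1458, 7)]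

/-- data -/
def mCertPart30 : List (ℕ × ℕ × ℕ) :=
  [(4, 1660, 3)]

/-- data -/
def mCert : List (List (ℕ × ℕ × ℕ)) :=
  [mCertPart0, mCertPart1, mCertPart2, mCertPart3, mCertPart4, mCertPart5, mCertPart6, mCertPart7, mCertPart8, mCertPart9, mCertPart10, mCertPart11, mCertPart12, mCertPart13, mCertPart14, mCertPart15, mCertPart16, mCertPart17, mCertPart18, mCertPart19, mCertPart20, mCertPart21, mCertPart22, mCertPart23, mCertPart24, mCertPart25, mCertPart26, mCertPart27, mCertPart28, mCertPart29, mCertPart30]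

/-- data: a letter is a generator with a sign -/
def mRels : List (List (Bool × Bool)) :=
  [[(false, true), (false, true), (false, true), (false, true), (false, true)],
    [(true, true), (true, true), (true, true), (true, true), (true, true), (true, true)],
    [(false, true), (true, true), (false, true), (true, true)],
    [(false, true), (true, false), (false, true), (true, false), (false, true), (true, false), (false, true), (true, false), (false, true), (true, false), (false, true), (true, false), (false, true), (true, false), (false, true), (true, false), (false, true), (true, false), (false, true), (true, false)],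
    [(true, true), (true, true), (true, true), (false, true), (false, true), (true, true), (true, true), (false, true), (true, false), (true, false), (true, false), (false, false), (true, false), (true, false), (false, false), (false, false)],
    [(false, true), (false, true), (true, true), (true, true), (false, true), (true, true), (true, true), (false, true), (false, true), (true, true), (false, false), (false, false), (true, false), (true, false), (false, false), (false, false), (true, false), (true, false)]]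

/-- data -/
def mEqs : List (ℕ × ℕ) :=
  [(0, 356), (1, 711), (5, 1857), (3, 827)]

end CfsgLib.Recog.JankoTwo
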