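import Mathlib
import Cfsg.Agent.Lib.Recog.JankoTwo.Checks
import Cfsg.Agent.Lib.Recog.JankoTwo.MultiplierData

/-!
# The multiplier of a reflection centraliser in the Hall-Janko group: checks
-/

set_option autoImplicit false
set_option maxRecDepth 100000
set_option maxHeartbeats 0
set_option Elab.async false

namespace CfsgLib.Recog.JankoTwo

/-- exponent vectors of the six relators -/
abbrev V6 : Type := ℤ × ℤ × ℤ × ℤ × ℤ × ℤ

/-- lookup in a list of blocks -/
def look {α : Type} (T : List (List α)) (d : α) (i : ℕ) : α := (T.getD (i / 64) []).getD (i % 64) d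

/-- the next vertex -/
def mStep (g : ℕ) (l : Bool × Bool) : ℕ :=
  let t := look mNext (0, 0, 0, 0) g
  bif l.2 then (bif l.1 then t.2.1 else t.1) else (bif l.1 then t.2.2.2 else t.2.2.1)

/-- the starting vertex of the edge of a letter -/
def mEdge (g : ℕ) (l : Bool × Bool) : ℕ := bif l.2 then g else mStep g l

/-- the value of an edge -/
def mV (x : Bool) (g : ℕ) : V6 :=
  let t := look mVal (((0, 0, 0, 0, 0, 0) : V6), ((0, 0, 0, 0, 0, 0) : V6)) g
  bif x then t.2 else t.1

/-- the rank of an edge -/
def mR (x : Bool) (g : ℕ) : ℕ :=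
  let t := look mRank (0, 0) g
  bif x then t.2 else t.1

/-- the signed value of a letter at a vertex -/
def mLetter (g : ℕ) (l : Bool × Bool) : V6 := bif l.2 then mV l.1 g else -mV l.1 (mStep g l)

/-- the end of a path -/
def mEnd : List (Bool × Bool) → ℕ → ℕ
  | [], g => g
  | l :: w, g => mEnd w (mStep g l)

/-- the value of a path -/
def mSum : List (Bool × Bool) → ℕ → V6
  | [], _ => (0, 0, 0, 0, 0, 0)
  | l :: w, g => mLetter g l + mSum w (mStep g l)

/-- all edges of a path have rank below a bound -/
def mKnown (r : ℕ) : List (Bool × Bool) → ℕ → Bool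
  | [], _ => true
  | l :: w, g => decide (mR l.1 (mEdge g l) < r) && mKnown r w (mStep g l)

/-- a relator -/
def mRel (i : ℕ) : List (Bool × Bool) := mRels.getD i []

/-- a unit vector -/
def mUnit (i : ℕ) : V6 :=
  (bif i == 0 then 1 else 0, bif i == 1 then 1 else 0, bif i == 2 then 1 else 0, bif i == 3 then 1 else 0,
    bif i == 4 then 1 else 0, bif i == 5 then 1 else 0)

/-- a deduction -/
def mCertAt (i : ℕ) : ℕ × ℕ × ℕ := look mCert (0, 0, 0) i

/-- a deduction is valid -/
def mDedOK (i : ℕ) : Bool :=
  let c := mCertAt i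
  let w := mRel c.1
  let g := mEnd (w.take c.2.2) c.2.1
  let l := w.getD c.2.2 (false, false)
  decide (c.1 < 6) && decide (c.2.2 < w.length) && decide (c.2.1 < 1920) &&
    mR l.1 (mEdge g l) == i + 1 && mKnown (i + 1) (w.take c.2.2) c.2.1 && mKnown (i + 1) (w.drop (c.2.2 + 1)) (mStep g l) &&
    mEnd (w.drop (c.2.2 + 1)) (mStep g l) == c.2.1 &&
    mSum (w.take c.2.2) c.2.1 + mLetter g l + mSum (w.drop (c.2.2 + 1)) (mStep g l) == mUnit c.1

/-- the edge of a vertex is determined -/
def mEdgeOK (x : Bool) (g : ℕ) : Bool :=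
  decide (mStep g (x, true) < 1920) && mStep (mStep g (x, true)) (x, false) == g &&
    decide (mStep g (x, false) < 1920) && mStep (mStep g (x, false)) (x, true) == g &&
  bif mR x g == 0 then
    look mTree (0, false) (mStep g (x, true)) == (g, x) && !(mStep g (x, true) == 0) && decide (g < mStep g (x, true)) &&
      mV x g == (0, 0, 0, 0, 0, 0)
  else
    decide (mR x g ≤ 1921) &&
      (let c := mCertAt (mR x g - 1)
       let gg := mEnd ((mRel c.1).take c.2.2) c.2.1
       let l := (mRel c.1).getD c.2.2 (false, false)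
       l.1 == x && mEdge gg l == g)

theorem mEdge_check : ((List.range 1920).all fun g => mEdgeOK false g && mEdgeOK true g) = true := by decide +kernel

/-- a block of deductions -/
def mDedBlock (k : ℕ) : Bool := (List.range 641).all fun j => decide (1921 ≤ 641 * k + j) || mDedOK (641 * k + j)

theorem mDed_check0 : mDedBlock 0 = true := by decide +kernel
theorem mDed_check1 : mDedBlock 1 = true := by decide +kernel
theorem mDed_check2 : mDedBlock 2 = true := by decide +kernel

theorem mDed_check {i : ℕ} (hi : i < 1921) : mDedOK i = true := by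
  have h : ∀ k < 3, mDedBlock k = true := by
    intro k hk
    interval_cases k
    exacts [mDed_check0, mDed_check1, mDed_check2]
  have h' := h (i / 641) (by omega)
  simp only [mDedBlock, List.all_eq_true, List.mem_range, Bool.or_eq_true, decide_eq_true_eq] at h'
  have h'' := h' (i % 641) (Nat.mod_lt _ (by norm_num))
  rw [Nat.div_add_mod] at h''
  exact h''.resolve_left (by omega)

/-- the potential of a vertex -/
def mPhi (g : ℕ) : ℤ × ℤ := look mPot (0, 0) g

/-- exponent sums of the relators -/
def mExp (v : V6) : ℤ × ℤ :=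
  (5 * v.1 + 2 * v.2.2.1 + 10 * v.2.2.2.1 + v.2.2.2.2.2, 6 * v.2.1 + 2 * v.2.2.1 - 10 * v.2.2.2.1 + v.2.2.2.2.2)

/-- the exponent sum of a letter -/
def mBase (x : Bool) : ℤ × ℤ := bif x then (0, 1) else (1, 0)

theorem mPot_check : ((List.range 1920).all fun g =>
    (mPhi g + mBase false == mPhi (mStep g (false, true)) + mExp (mV false g)) &&
    (mPhi g + mBase true == mPhi (mStep g (true, true)) + mExp (mV true g))) = true ∧ mPhi 0 = (0, 0) := by
  decide +kernel

/-- a loop giving an equation -/
def mEqn (j : ℕ) : V6 := mSum (mRel (mEqs.getD j (0, 0)).1) (mEqs.getD j (0, 0)).2 - mUnit (mEqs.getD j (0, 0)).1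

theorem mEq_check : (((List.range 4).all fun j => decide ((mEqs.getD j (0, 0)).1 < 6) && decide ((mEqs.getD j (0, 0)).2 < 1920) &&
      mEnd (mRel (mEqs.getD j (0, 0)).1) (mEqs.getD j (0, 0)).2 == (mEqs.getD j (0, 0)).2) &&
    mEqn 0 == (0, 0, 0, 0, -1, 0) && mEqn 1 == (0, 0, -2, 0, 0, 4) && mEqn 2 == (-4, 0, 4, 1, 0, 2) &&
    mEqn 3 == (2, -5, 6, -2, 0, -2)) = true := by
  decide +kernel

/-- a letter evaluated on points, an inverse letter as a power -/
def mPerm (l : Bool × Bool) (x : ℕ) : ℕ :=
  let p := strong1.getD (bif l.1 then 1 else 0) 0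
  bif l.2 then pget p x else iterAt (pget p) (bif l.1 then 5 else 4) x

theorem mRel_perm : (mRels.length == 6 && (List.range 6).all fun i =>
    basePts fun x => (mRel i).foldr mPerm x == x) = true ∧
    (basePts fun x => iterAt (pget (strong1.getD 0 0)) 5 x == x) = true ∧
    (basePts fun x => iterAt (pget (strong1.getD 1 0)) 6 x == x) = true := by
  decide +kernel

end CfsgLib.Recog.JankoTwo
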