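import Mathlib
import Cfsg.Agent.Lib.Recog.JankoTwo.Centralizer
import Cfsg.Agent.Lib.Recog.JankoTwo.MultiplierChecks

/-!
# Central extensions of a reflection centraliser in the Hall-Janko group
-/

set_option autoImplicit false
set_option maxRecDepth 20000

namespace CfsgLib.Recog.JankoTwo

open scoped commutatorElement

attribute [local irreducible] pget t0 t1 t2 t3 look mStep mV mR mRel mCertAt mPhi elemAt stAt iterAt

/-- a letter evaluated in a group -/
def lett {G : Type*} [Group G] (a b : G) (l : Bool × Bool) : G :=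
  bif l.2 then (bif l.1 then b else a) else (bif l.1 then b else a)⁻¹

/-- a word evaluated in a group -/
def wval {G : Type*} [Group G] (a b : G) (w : List (Bool × Bool)) : G := (w.map (lett a b)).prod

/-- the exponent sum of a word -/
def expo (w : List (Bool × Bool)) : ℤ × ℤ := (w.map fun l => bif l.2 then mBase l.1 else -mBase l.1).sum

/-- the inverse word -/
def invWord (w : List (Bool × Bool)) : List (Bool × Bool) := w.reverse.map fun l => (l.1, !l.2)

theorem wval_cons {G : Type*} [Group G] (a b : G) (l : Bool × Bool) (w : List (Bool × Bool)) :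
    wval a b (l :: w) = lett a b l * wval a b w := by simp [wval]

theorem wval_append {G : Type*} [Group G] (a b : G) (w w' : List (Bool × Bool)) :
    wval a b (w ++ w') = wval a b w * wval a b w' := by simp [wval]

theorem wval_invWord {G : Type*} [Group G] (a b : G) (w : List (Bool × Bool)) :
    wval a b (invWord w) = (wval a b w)⁻¹ := by
  induction w with
  | nil => simp [wval, invWord]
  | cons l w ih =>
    have e : invWord (l :: w) = invWord w ++ [(l.1, !l.2)] := by simp [invWord]
    rw [e, wval_append, ih, wval_cons a b l w, mul_inv_rev]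
    congr 1
    obtain ⟨x, s⟩ := l
    cases s <;> simp [wval, lett]

theorem expo_append (w w' : List (Bool × Bool)) : expo (w ++ w') = expo w + expo w' := by simp [expo]

theorem expo_invWord (w : List (Bool × Bool)) : expo (invWord w) = -expo w := by
  induction w with
  | nil => simp [expo, invWord]
  | cons l w ih =>
    have e : invWord (l :: w) = invWord w ++ [(l.1, !l.2)] := by simp [invWord]
    rw [e, expo_append, ih, show l :: w = [l] ++ w from rfl, expo_append]
    obtain ⟨x, s⟩ := l
    cases s <;> simp [expo, add_comm]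

theorem map_wval {G H : Type*} [Group G] [Group H] (f : G →* H) (a b : G) (w : List (Bool × Bool)) :
    f (wval a b w) = wval (f a) (f b) w := by
  induction w with
  | nil => simp [wval]
  | cons l w ih =>
    rw [wval_cons, wval_cons, map_mul, ih]
    obtain ⟨x, s⟩ := l
    cases s <;> cases x <;> simp [lett]

/-- exponents to elements -/
def mEv {M : Type*} [CommGroup M] (R : ℕ → M) (v : V6) : M :=
  R 0 ^ v.1 * R 1 ^ v.2.1 * R 2 ^ v.2.2.1 * R 3 ^ v.2.2.2.1 * R 4 ^ v.2.2.2.2.1 * R 5 ^ v.2.2.2.2.2

theorem mEv_add {M : Type*} [CommGroup M] (R : ℕ → M) (v w : V6) : mEv R (v + w) = mEv R v * mEv R w := by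
  simp only [mEv, Prod.fst_add, Prod.snd_add, zpow_add]
  ac_rfl

theorem mEv_smul {M : Type*} [CommGroup M] (R : ℕ → M) (n : ℤ) (v : V6) : mEv R (n • v) = mEv R v ^ n := by
  simp only [mEv, Prod.smul_fst, Prod.smul_snd, smul_eq_mul, mul_zpow, ← zpow_mul, mul_comm n]

theorem mEv_zero {M : Type*} [CommGroup M] (R : ℕ → M) : mEv R (0, 0, 0, 0, 0, 0) = 1 := by simp [mEv]

theorem mEv_unit {M : Type*} [CommGroup M] (R : ℕ → M) {i : ℕ} (hi : i < 6) : mEv R (mUnit i) = R i := by
  interval_cases i <;> simp [mEv, mUnit]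

theorem mExp_add (v w : V6) : mExp (v + w) = mExp v + mExp w := by
  refine Prod.ext ?_ ?_ <;> simp [mExp] <;> ring

theorem mExp_neg (v : V6) : mExp (-v) = -mExp v := by
  refine Prod.ext ?_ ?_ <;> simp [mExp] <;> ring

theorem edge_ok (x : Bool) {g : ℕ} (hg : g < 1920) : mEdgeOK x g = true := by
  have h := mEdge_check
  simp only [List.all_eq_true, List.mem_range, Bool.and_eq_true] at h
  cases x
  exacts [(h g hg).1, (h g hg).2]

theorem step_spec (x : Bool) {g : ℕ} (hg : g < 1920) :
    mStep g (x, true) < 1920 ∧ mStep (mStep g (x, true)) (x, false) = g ∧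
      mStep g (x, false) < 1920 ∧ mStep (mStep g (x, false)) (x, true) = g := by
  have h := edge_ok x hg
  simp only [mEdgeOK, Bool.and_eq_true, decide_eq_true_eq, beq_iff_eq] at h
  exact ⟨h.1.1.1.1, h.1.1.1.2, h.1.1.2, h.1.2⟩

theorem step_lt (l : Bool × Bool) {g : ℕ} (hg : g < 1920) : mStep g l < 1920 := by
  obtain ⟨x, s⟩ := l
  cases s
  exacts [(step_spec x hg).2.2.1, (step_spec x hg).1]

theorem edge_lt (l : Bool × Bool) {g : ℕ} (hg : g < 1920) : mEdge g l < 1920 := by
  obtain ⟨x, s⟩ := l
  cases s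
  exacts [step_lt (x, false) hg, hg]

theorem end_lt : ∀ (w : List (Bool × Bool)) {g : ℕ}, g < 1920 → mEnd w g < 1920
  | [], _, hg => hg
  | l :: w, g, hg => end_lt w (step_lt l hg)

theorem rank_le (x : Bool) {g : ℕ} (hg : g < 1920) : mR x g ≤ 1921 := by
  have h := edge_ok x hg
  simp only [mEdgeOK, Bool.and_eq_true] at h
  have h' := h.2
  by_cases h0 : mR x g = 0
  · omega
  · rw [beq_false_of_ne h0] at h'
    simp only [cond_false, Bool.and_eq_true, decide_eq_true_eq] at h'
    exact h'.1

theorem known_all : ∀ (w : List (Bool × Bool)) {g : ℕ}, g < 1920 → mKnown 1922 w g = true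
  | [], _, _ => rfl
  | l :: w, g, hg => by
    simp only [mKnown, Bool.and_eq_true, decide_eq_true_eq]
    exact ⟨Nat.lt_succ_of_le (rank_le _ (edge_lt l hg)), known_all w (step_lt l hg)⟩

theorem path_phi : ∀ (w : List (Bool × Bool)) {g : ℕ}, g < 1920 →
    mPhi g + expo w = mPhi (mEnd w g) + mExp (mSum w g)
  | [], _, _ => by simp [expo, mEnd, mSum, mExp]
  | l :: w, g, hg => by
    have ih := path_phi w (step_lt l hg)
    have hp := mPot_check.1
    simp only [List.all_eq_true, List.mem_range, Bool.and_eq_true, beq_iff_eq] at hp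
    have key : mPhi g + (bif l.2 then mBase l.1 else -mBase l.1) = mPhi (mStep g l) + mExp (mLetter g l) := by
      obtain ⟨x, s⟩ := l
      cases s
      · have e : mPhi (mStep g (x, false)) + mBase x = mPhi g + mExp (mV x (mStep g (x, false))) := by
          have hs := step_spec x hg
          conv_rhs => arg 1; rw [← hs.2.2.2]
          cases x
          exacts [(hp _ hs.2.2.1).1, (hp _ hs.2.2.1).2]
        simp only [cond_false, mLetter, mExp_neg]
        linear_combination -e
      · simp only [cond_true, mLetter]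
        cases x
        exacts [(hp g hg).1, (hp g hg).2]
    show mPhi g + expo ([l] ++ w) = mPhi (mEnd w (mStep g l)) + mExp (mLetter g l + mSum w (mStep g l))
    rw [expo_append, mExp_add, show expo [l] = bif l.2 then mBase l.1 else -mBase l.1 by simp [expo]]
    linear_combination key + ih

/-- the lifts of the vertices along the tree -/
def sv {G : Type*} [Group G] (a b : G) (n : ℕ) : G :=
  if _h : n ≠ 0 ∧ (look mTree (0, false) n).1 < n then
    sv a b (look mTree (0, false) n).1 * lett a b ((look mTree (0, false) n).2, true)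
  else 1
termination_by n
decreasing_by exact _h.2

theorem sv_zero {G : Type*} [Group G] (a b : G) : sv a b 0 = 1 := by
  rw [sv, dif_neg (fun h => h.1 rfl)]

theorem rep_stab {H : Subgroup S315} (h : Inside H strong1) : Inside H trans1 ∧ Inside H trans2 ∧ Inside H trans3 := by
  have hw := word_check
  simp only [Bool.and_eq_true, beq_iff_eq, List.all_eq_true, decide_eq_true_eq, allPts_iff] at hw
  obtain ⟨⟨⟨⟨⟨l1, l2⟩, l3⟩, -⟩, h2⟩, h3⟩ := hw
  obtain ⟨g1, g2, g3, g4⟩ := gens_check.1
  have s2 : Inside H strong2 := exists_rep_of_word h (by rw [l2, g3])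
    (fun e he j hj => by rw [g2]; exact (h2 e he).1 j hj) fun e he x => (h2 e he).2 x
  have s3 : Inside H strong3 := exists_rep_of_word s2 (by rw [l3, g4])
    (fun e he j hj => by rw [g3]; exact (h3 e he).1 j hj) fun e he x => (h3 e he).2 x
  exact ⟨(inside_of_tree tree_check1 h).1, (inside_of_tree tree_check2 s2).1, (inside_of_tree tree_check3 s3).1⟩

theorem exists_gens : ∃ A B : stab, Subgroup.closure {A, B} = ⊤ ∧
    ∀ i < 6, wval A B (mRel i) = 1 := by
  have hfix : ∀ j < 2, ∃ σ : stab, Rep (σ : S315) (strong1.getD j 0) := by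
    intro j hj
    obtain ⟨σ, hσ, rσ⟩ := inside_strong.1 j (by rw [gens_check.1.2.1]; exact hj)
    have hb := base_check.2.2.2.2.2
    simp only [List.all_eq_true, beq_iff_eq] at hb
    have hm : strong1.getD j 0 ∈ strong1 := by
      rw [List.getD_eq_getElem _ _ (by rw [gens_check.1.2.1]; exact hj)]; exact List.getElem_mem _
    exact ⟨⟨σ, hσ, Fin.ext ((rσ 0).symm.trans (hb _ hm))⟩, rσ⟩
  obtain ⟨A, rA⟩ := hfix 0 (by norm_num)
  obtain ⟨B, rB⟩ := hfix 1 (by norm_num)
  obtain ⟨⟨hlen, hrel⟩, h5, h6⟩ := (⟨by simpa using mRel_perm.1, mRel_perm.2.1, mRel_perm.2.2⟩ :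
    (mRels.length = 6 ∧ ∀ i < 6, basePts (fun x => (mRel i).foldr mPerm x == x) = true) ∧ _ ∧ _)
  rw [basePts_iff] at h5 h6
  have hA : A ^ 5 = 1 := Subtype.ext <| eq_one_of_base (A ^ 5).2.1 fun x hx => by
    have := h5 x hx
    rw [iterAt_pow (g := (A : S315)) rA] at this
    simpa using this
  have hB : B ^ 6 = 1 := Subtype.ext <| eq_one_of_base (B ^ 6).2.1 fun x hx => by
    have := h6 x hx
    rw [iterAt_pow (g := (B : S315)) rB] at this
    simpa using this
  have hw : ∀ (w : List (Bool × Bool)) (x : Fin 315), w.foldr mPerm x.1 = (((wval A B w : stab) : S315) x).1 := by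
    intro w x
    induction w with
    | nil => rfl
    | cons l w ih =>
      rw [List.foldr_cons, ih, wval_cons, Subgroup.coe_mul, Equiv.Perm.mul_apply]
      obtain ⟨c, s⟩ := l
      cases c <;> cases s <;> simp only [mPerm, lett, cond_true, cond_false]
      · rw [iterAt_pow (g := (A : S315)) rA, show A⁻¹ = A ^ 4 from inv_eq_of_mul_eq_one_right (by rw [← pow_succ']; exact hA),
          Subgroup.coe_pow]
      · exact rA _
      · rw [iterAt_pow (g := (B : S315)) rB, show B⁻¹ = B ^ 5 from inv_eq_of_mul_eq_one_right (by rw [← pow_succ']; exact hB),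
          Subgroup.coe_pow]
      · exact rB _
  refine ⟨A, B, ?_, fun i hi => Subtype.ext <| eq_one_of_base (wval A B (mRel i)).2.1 fun x hx => ?_⟩
  · have hS : Inside ((Subgroup.closure {A, B}).map stab.subtype) strong1 := fun j hj => by
      rw [gens_check.1.2.1] at hj
      interval_cases j
      · exact ⟨A, Subgroup.mem_map_of_mem _ (Subgroup.subset_closure (Or.inl rfl)), rA⟩
      · exact ⟨B, Subgroup.mem_map_of_mem _ (Subgroup.subset_closure (Or.inr rfl)), rB⟩
    obtain ⟨r1, r2, r3⟩ := rep_stab hS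
    obtain ⟨-, l1, l2, l3⟩ := base_check.2.2.2.2.1
    rw [eq_top_iff]
    rintro g -
    obtain ⟨b, c, d, e, -⟩ := stab_triple g.2.1 g.2.2
    have hmem : (g : S315) ∈ (Subgroup.closure {A, B}).map stab.subtype := by
      rw [e]
      refine mul_mem ?_ (mul_mem ?_ ?_)
      · obtain ⟨σ, hσ, r⟩ := r1 b.1 (by rw [l1]; exact b.2)
        have := U1_rep b; unfold t1 at this
        exact this.unique r ▸ hσ
      · obtain ⟨σ, hσ, r⟩ := r2 c.1 (by rw [l2]; exact c.2)
        have := U2_rep c; unfold t2 at this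
        exact this.unique r ▸ hσ
      · obtain ⟨σ, hσ, r⟩ := r3 d.1 (by rw [l3]; exact d.2)
        have := U3_rep d; unfold t3 at this
        exact this.unique r ▸ hσ
    obtain ⟨g', hg', eg⟩ := hmem
    exact Subtype.ext eg ▸ hg'
  · have := basePts_iff.mp (hrel i hi) x hx
    rw [hw] at this
    simpa using this

/-- a central extension of a reflection centraliser meets the commutator subgroup in at most two elements -/
theorem card_ker_inf_le {Γ : Type*} [Group Γ] (σ : Γ →* stab) (hs : Function.Surjective σ)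
    (hc : σ.ker ≤ Subgroup.center Γ) : Nat.card (σ.ker ⊓ commutator Γ : Subgroup Γ) ≤ 2 := by
  classical
  let _ : CommGroup (Subgroup.center Γ) :=
    { (inferInstance : Group (Subgroup.center Γ)) with
      mul_comm := fun u v => Subtype.ext (Subgroup.mem_center_iff.mp v.2 u) }
  obtain ⟨A, B, hgen, hrel⟩ := exists_gens
  obtain ⟨a, ha⟩ := hs A
  obtain ⟨b, hb⟩ := hs B
  have hW : ∀ w, σ (wval a b w) = wval A B w := fun w => by rw [map_wval, ha, hb]
  let R : ℕ → Subgroup.center Γ := fun i =>
    if h : i < 6 then ⟨wval a b (mRel i), hc (by rw [MonoidHom.mem_ker, hW, hrel i h])⟩ else 1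
  let E : V6 → Γ := fun v => ((mEv R v : Subgroup.center Γ) : Γ)
  have hE : ∀ v w, E (v + w) = E v * E w := fun v w => by simp only [E, mEv_add, Subgroup.coe_mul]
  have hEs : ∀ (n : ℤ) v, E (n • v) = E v ^ n := fun n v => by simp only [E, mEv_smul, Subgroup.coe_zpow]
  have hEc : ∀ v (y : Γ), y * E v = E v * y := fun v => Subgroup.mem_center_iff.mp (mEv R v).2
  have hEu : ∀ i < 6, E (mUnit i) = wval a b (mRel i) := fun i hi => by simp only [E, mEv_unit R hi, R, dif_pos hi]
  have hE0 : E (0, 0, 0, 0, 0, 0) = 1 := by simp only [E, mEv_zero, Subgroup.coe_one]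
  have hEn : ∀ v, E v * E (-v) = 1 := fun v => by
    rw [← hE, add_neg_cancel]; exact hE0
  have hEk : ∀ v, σ (E v) = 1 := fun v => by
    have hR : ∀ i, σ ((R i : Subgroup.center Γ) : Γ) = 1 := fun i => by
      simp only [R]
      split_ifs with h
      · exact (hW _).trans (hrel i h)
      · exact map_one σ
    simp only [E, mEv, Subgroup.coe_mul, Subgroup.coe_zpow, map_mul, map_zpow, hR, one_zpow, mul_one]
  let s : ℕ → Γ := sv a b
  let Edge : Bool → ℕ → Prop := fun x g => s g * lett a b (x, true) = s (mStep g (x, true)) * E (mV x g)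
  have hpath : ∀ r, (∀ x g, g < 1920 → mR x g < r → Edge x g) → ∀ (w : List (Bool × Bool)) (g : ℕ), g < 1920 →
      mKnown r w g = true → s g * wval a b w = s (mEnd w g) * E (mSum w g) := by
    intro r H w
    induction w with
    | nil => intro g _ _; simp [wval, mEnd, mSum, hE0]
    | cons l w ih =>
      intro g hg hk
      simp only [mKnown, Bool.and_eq_true, decide_eq_true_eq] at hk
      have hl : s g * lett a b l = s (mStep g l) * E (mLetter g l) := by
        have he := H _ _ (edge_lt l hg) hk.1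
        obtain ⟨x, t⟩ := l
        cases t
        · simp only [Edge, mEdge, cond_false] at he
          rw [(step_spec x hg).2.2.2] at he
          simp only [lett, cond_true] at he
          simp only [lett, cond_false, mLetter]
          rw [← mul_one (s g), ← hEn (mV x (mStep g (x, false))), ← mul_assoc, ← he, mul_assoc _ _ (E _), hEc,
            ← mul_assoc, mul_inv_cancel_right]
        · exact he
      show s g * wval a b (l :: w) = s (mEnd w (mStep g l)) * E (mLetter g l + mSum w (mStep g l))
      rw [wval_cons, ← mul_assoc, hl, mul_assoc, ← hEc, ← mul_assoc, ih _ (step_lt l hg) hk.2, hE, mul_assoc, hEc]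
  have hedge : ∀ r, ∀ x g, g < 1920 → mR x g = r → Edge x g := by
    intro r
    induction r using Nat.strong_induction_on with
    | _ r ih =>
      intro x g hg hr
      have H : ∀ x g, g < 1920 → mR x g < r → Edge x g := fun x g hg h => ih _ h x g hg rfl
      have hok := edge_ok x hg
      simp only [mEdgeOK, Bool.and_eq_true] at hok
      have hc2 := hok.2
      by_cases h0 : mR x g = 0
      · rw [h0, beq_self_eq_true] at hc2
        simp only [cond_true, Bool.and_eq_true, beq_iff_eq, Bool.not_eq_true', beq_eq_false_iff_ne,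
          decide_eq_true_eq] at hc2
        obtain ⟨⟨⟨ht, hne⟩, hlt⟩, hv⟩ := hc2
        show s g * lett a b (x, true) = s (mStep g (x, true)) * E (mV x g)
        rw [hv, hE0, mul_one]
        show _ = sv a b (mStep g (x, true))
        conv_rhs => rw [sv]
        rw [dif_pos ⟨hne, by rw [ht]; exact hlt⟩, ht]
      · rw [beq_false_of_ne h0] at hc2
        simp only [cond_false, Bool.and_eq_true, decide_eq_true_eq, beq_iff_eq] at hc2
        obtain ⟨hle, hlx, hlg⟩ := hc2
        have hd := mDed_check (i := mR x g - 1) (by omega)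
        simp only [mDedOK, Bool.and_eq_true, decide_eq_true_eq, beq_iff_eq] at hd
        rw [show mR x g - 1 + 1 = r by omega] at hd
        obtain ⟨⟨⟨⟨⟨⟨⟨hi, hp⟩, hg0⟩, -⟩, hk1⟩, hk2⟩, hend⟩, hsum⟩ := hd
        set c := mCertAt (mR x g - 1)
        set w := mRel c.1
        set gg := mEnd (w.take c.2.2) c.2.1
        set l := w.getD c.2.2 (false, false) with hldef
        set gp := mStep gg l
        have hgg : gg < 1920 := end_lt _ hg0
        have h1 := hpath r H _ _ hg0 hk1
        have h2 := hpath r H _ _ (step_lt l hgg) hk2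
        rw [hend] at h2
        have hsplit : wval a b w = wval a b (w.take c.2.2) * lett a b l * wval a b (w.drop (c.2.2 + 1)) := by
          conv_lhs => rw [← List.take_append_drop c.2.2 w, List.drop_eq_getElem_cons hp, wval_append, wval_cons]
          rw [hldef, List.getD_eq_getElem _ _ hp, mul_assoc]
        set Ws := wval a b (w.drop (c.2.2 + 1))
        set vp := mSum (w.take c.2.2) c.2.1
        set vs := mSum (w.drop (c.2.2 + 1)) gp
        have key : s gg * lett a b l = s gp * E (mLetter gg l) := by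
          refine mul_right_cancel (b := Ws * E vp) ?_
          calc s gg * lett a b l * (Ws * E vp) = s gg * (lett a b l * Ws * E vp) := by simp only [mul_assoc]
            _ = s gg * E vp * (lett a b l * Ws) := by rw [hEc]; simp only [mul_assoc]
            _ = s c.2.1 * wval a b w := by rw [← h1, hsplit]; simp only [mul_assoc]
            _ = s c.2.1 * E (mUnit c.1) := by rw [hEu _ hi]
            _ = s c.2.1 * E (vs + (mLetter gg l + vp)) := by rw [← hsum]; congr 2; abel
            _ = s gp * Ws * E (mLetter gg l + vp) := by rw [hE, ← mul_assoc, ← h2]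
            _ = s gp * E (mLetter gg l) * (Ws * E vp) := by
              rw [mul_assoc (s gp), mul_assoc (s gp), hE, ← mul_assoc Ws, hEc _ Ws]; simp only [mul_assoc]
        show s g * lett a b (x, true) = s (mStep g (x, true)) * E (mV x g)
        have key' : s gg * lett a b l = s (mStep gg l) * E (mLetter gg l) := key
        clear key
        revert hlx hlg key'
        generalize l = l'
        obtain ⟨x', t⟩ := l'
        intro hlx hlg key
        obtain rfl : x' = x := hlx
        cases t
        · have hgg' : mStep g (x', true) = gg := by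
            rw [← hlg]; exact (step_spec x' hgg).2.2.2
          simp only [mEdge, cond_false] at hlg
          simp only [lett, cond_false, mLetter, hlg] at key
          rw [hgg']
          have e : s gg = s g * E (-mV x' g) * lett a b (x', true) := by
            rw [← key]; simp only [lett, cond_true, inv_mul_cancel_right]
          rw [e, mul_assoc (s g), ← hEc, ← mul_assoc, mul_assoc _ (E (-mV x' g)), ← hEc (-mV x' g), hEn, mul_one]
        · simp only [mEdge, cond_true] at hlg
          simp only [mLetter, cond_true, hlg] at key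
          exact key
  have hfull : ∀ (w : List (Bool × Bool)) (g : ℕ), g < 1920 → s g * wval a b w = s (mEnd w g) * E (mSum w g) :=
    fun w g hg => hpath 1922 (fun x g hg _ => hedge _ x g hg rfl) w g hg (known_all w hg)
  have hs0 : s 0 = 1 := sv_zero a b
  have hpres : ∀ h : stab, ∃ w, wval A B w = h := by
    intro h
    have hm : h ∈ Subgroup.closure {A, B} := hgen ▸ Subgroup.mem_top h
    induction hm using Subgroup.closure_induction with
    | mem y hy =>
      rcases hy with rfl | rfl
      · exact ⟨[(false, true)], by simp [wval, lett]⟩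
      · exact ⟨[(true, true)], by simp [wval, lett]⟩
    | one => exact ⟨[], rfl⟩
    | mul y z _ _ ihy ihz =>
      obtain ⟨w, rfl⟩ := ihy; obtain ⟨w', rfl⟩ := ihz
      exact ⟨w ++ w', wval_append _ _ _ _⟩
    | inv y _ ih =>
      obtain ⟨w, rfl⟩ := ih
      exact ⟨invWord w, wval_invWord _ _ _⟩
  have hinj : Function.Injective fun g : Fin 1920 => σ (s g.1) := by
    refine ((Nat.bijective_iff_surjective_and_card _).2 ⟨fun h => ?_, by rw [Nat.card_fin, card_stab]⟩).1
    obtain ⟨w, rfl⟩ := hpres h
    refine ⟨⟨_, end_lt w (show 0 < 1920 by norm_num)⟩, ?_⟩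
    have := congrArg σ (hfull w 0 (by norm_num))
    rw [hs0, one_mul, map_mul, hEk, mul_one, hW] at this
    exact this.symm
  let S : Subgroup Γ :=
    { carrier := {γ | ∃ w, expo w = 0 ∧ wval a b w = γ}
      one_mem' := ⟨[], rfl, rfl⟩
      mul_mem' := by
        rintro _ _ ⟨w, hw, rfl⟩ ⟨w', hw', rfl⟩
        exact ⟨w ++ w', by rw [expo_append, hw, hw', add_zero], wval_append _ _ _ _⟩
      inv_mem' := by
        rintro _ ⟨w, hw, rfl⟩
        exact ⟨invWord w, by rw [expo_invWord, hw, neg_zero], wval_invWord _ _ _⟩ }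
  have hcom : commutator Γ ≤ S := by
    rw [commutator_def, Subgroup.commutator_le]
    intro g₁ _ g₂ _
    obtain ⟨w, hw⟩ := hpres (σ g₁)
    obtain ⟨w', hw'⟩ := hpres (σ g₂)
    obtain ⟨k, hk, rfl⟩ : ∃ k ∈ σ.ker, g₁ = wval a b w * k :=
      ⟨(wval a b w)⁻¹ * g₁, by simp [hW, hw], by group⟩
    obtain ⟨k', hk', rfl⟩ : ∃ k ∈ σ.ker, g₂ = wval a b w' * k :=
      ⟨(wval a b w')⁻¹ * g₂, by simp [hW, hw'], by group⟩
    refine ⟨w ++ w' ++ invWord w ++ invWord w', by simp only [expo_append, expo_invWord]; abel, ?_⟩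
    have c1 := Subgroup.mem_center_iff.mp (hc hk)
    have c2 := Subgroup.mem_center_iff.mp (hc hk')
    simp only [wval_append, wval_invWord, commutatorElement_def, mul_inv_rev]
    generalize wval a b w = u
    generalize wval a b w' = u'
    calc u * u' * u⁻¹ * u'⁻¹ = u * u' * (k * k⁻¹) * u⁻¹ * (k' * k'⁻¹) * u'⁻¹ := by group
      _ = u * (u' * k) * k⁻¹ * (u⁻¹ * k') * k'⁻¹ * u'⁻¹ := by group
      _ = u * (k * u') * k⁻¹ * (k' * u⁻¹) * k'⁻¹ * u'⁻¹ := by rw [c1, c2]
      _ = u * k * u' * (k⁻¹ * k') * u⁻¹ * k'⁻¹ * u'⁻¹ := by group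
      _ = u * k * u' * (k' * k⁻¹) * u⁻¹ * k'⁻¹ * u'⁻¹ := by rw [c2]
      _ = _ := by group
  have hzero : ∀ j < 4, E (mEqn j) = 1 := by
    intro j hj
    have he := mEq_check
    simp only [Bool.and_eq_true, List.all_eq_true, List.mem_range, decide_eq_true_eq, beq_iff_eq] at he
    obtain ⟨⟨hi, hg⟩, hloop⟩ := he.1.1.1.1 j hj
    have h := hfull (mRel (mEqs.getD j (0, 0)).1) _ hg
    rw [hloop, ← hEu _ hi, mul_right_inj] at h
    have h' : E (mEqn j) * E (mUnit (mEqs.getD j (0, 0)).1) = 1 * E (mUnit (mEqs.getD j (0, 0)).1) := by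
      rw [one_mul, ← hE, mEqn, sub_add_cancel, h]
    exact mul_right_cancel h'
  have hrows := mEq_check
  simp only [Bool.and_eq_true, beq_iff_eq] at hrows
  obtain ⟨⟨⟨⟨-, q0⟩, q1⟩, q2⟩, q3⟩ := hrows
  have e5 : E (0, 0, 0, 0, -1, 0) = 1 := q0 ▸ hzero 0 (by norm_num)
  have r2 : E (0, 0, -2, 0, 0, 4) = 1 := q1 ▸ hzero 1 (by norm_num)
  have r3 : E (-4, 0, 4, 1, 0, 2) = 1 := q2 ▸ hzero 2 (by norm_num)
  have r4 : E (2, -5, 6, -2, 0, -2) = 1 := q3 ▸ hzero 3 (by norm_num)
  let ε := E (0, 0, 1, 0, 0, -2)
  have hε : ε ^ (2 : ℤ) = 1 := by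
    rw [← hEs, show (2 : ℤ) • ((0, 0, 1, 0, 0, -2) : V6) = (-1 : ℤ) • (0, 0, -2, 0, 0, 4) by simp, hEs, r2, one_zpow]
  have hset : ((σ.ker ⊓ commutator Γ : Subgroup Γ) : Set Γ) ⊆ {1, ε} := by
    rintro z ⟨hz, hz'⟩
    obtain ⟨w, hw, rfl⟩ := hcom hz'
    have h := hfull w 0 (by norm_num)
    rw [hs0, one_mul] at h
    have hg : mEnd w 0 = 0 := by
      have h2 := congrArg σ h
      rw [MonoidHom.mem_ker.mp hz, map_mul, hEk, mul_one] at h2
      have := @hinj ⟨mEnd w 0, end_lt w (by norm_num)⟩ ⟨0, by norm_num⟩ (by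
        show σ (s (mEnd w 0)) = σ (s 0)
        rw [← h2, hs0, map_one])
      exact congrArg Fin.val this
    rw [hg, hs0, one_mul] at h
    have hphi := path_phi w (show 0 < 1920 by norm_num)
    rw [hg, hw, mPot_check.2, add_zero, eq_comm] at hphi
    revert h hphi
    generalize mSum w 0 = v
    intro h hphi
    obtain ⟨p, q, c, d, e, f⟩ := v
    simp only [mExp, Prod.ext_iff, Prod.fst_add, Prod.snd_add, zero_add] at hphi
    obtain ⟨hp1, hp2⟩ := hphi
    obtain ⟨t, rfl⟩ : ∃ t, q = 5 * t := ⟨q / 5, by omega⟩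
    obtain rfl : p = 6 * t - 4 * d := by omega
    obtain rfl : f = -30 * t + 10 * d - 2 * c := by omega
    have hv : ((6 * t - 4 * d, 5 * t, c, d, e, -30 * t + 10 * d - 2 * c) : V6) =
        t • ((-7 : ℤ) • (0, 0, -2, 0, 0, 4) + (-2 : ℤ) • (-4, 0, 4, 1, 0, 2) + (-1 : ℤ) • (2, -5, 6, -2, 0, -2)) +
          d • ((2 : ℤ) • (0, 0, -2, 0, 0, 4) + (1 : ℤ) • (-4, 0, 4, 1, 0, 2)) +
          (-e) • (0, 0, 0, 0, -1, 0) + c • (0, 0, 1, 0, 0, -2) := by
      simp only [Prod.smul_mk, smul_eq_mul, Prod.mk_add_mk, Prod.mk.injEq]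
      refine ⟨?_, ?_, ?_, ?_, ?_, ?_⟩ <;> ring
    rw [h, hv]
    simp only [hE, hEs, r2, r3, r4, e5, one_zpow, one_mul]
    show ε ^ c ∈ ({1, ε} : Set Γ)
    rw [← Int.emod_add_mul_ediv c 2, zpow_add, zpow_mul, hε, one_zpow, mul_one]
    rcases Int.emod_two_eq_zero_or_one c with hc' | hc' <;> rw [hc'] <;> simp
  rw [← SetLike.coe_sort_coe, Nat.card_coe_set_eq]
  exact (Set.ncard_le_ncard hset).trans ((Set.ncard_insert_le _ _).trans (by simp))

end CfsgLib.Recog.JankoTwo
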