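import Mathlib
import Cfsg.Prelude.Def_KGroupFacts
import Cfsg.Agent.Lib.Recog.JankoTwo.MultiplierStab
import Cfsg.Agent.Lib.Recog.JankoTwo.MultiplierOdd

/-!
# The Schur multiplier of the Hall-Janko group
-/

set_option autoImplicit false
set_option maxRecDepth 20000

namespace CfsgLib.Recog.JankoTwo

open Quaternion Cfsg.Spor Icosian

attribute [local irreducible] pget t0 t1 t2 t3 permTab unitTab rootOf lineOf unitAt qmul nrm

/-- the odd indices bound the exponent of the kernel -/
theorem pow_two_power_eq_one {Γ : Type*} [Group Γ] [Finite Γ] (σ : Γ →* P) (hσ : Cfsg.IsStemExtension σ) {z : Γ}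
    (hz : z ∈ σ.ker) : z ^ 128 = 1 := by
  have key : ∀ U : Subgroup P, (∀ (z : Γ) (h : z ∈ U.comap σ), z ∈ σ.ker →
      (⟨z, h⟩ : U.comap σ) ∈ commutator (U.comap σ) → z = 1) → ∀ m n : ℕ, Nat.card U = m → 0 < m → m * n = 604800 →
      orderOf z ∣ n := by
    intro U hU m n hm hm0 hn
    have h := Subgroup.card_mul_index U
    rw [hm, card_P, ← hn] at h
    exact Nat.eq_of_mul_eq_mul_left hm0 h ▸
      orderOf_dvd_of_pow_eq_one (CfsgLib.Known.SL2Mult.pow_index_eq_one σ hσ U hU hz)
  obtain ⟨U3, c3, h3⟩ := exists_U_three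
  obtain ⟨U5, c5, h5⟩ := exists_U_five
  obtain ⟨g, hg, h7⟩ := exists_orderOf_P 7 (by decide)
  have c7 : Nat.card (Subgroup.zpowers (⟨g, hg⟩ : P)) = 7 := by rw [Nat.card_zpowers, Subgroup.orderOf_mk, h7]
  have d3 := key U3 (h3 σ hσ.1 hσ.2.1) 27 22400 c3 (by norm_num) (by norm_num)
  have d5 := key U5 (h5 σ hσ.1 hσ.2.1) 25 24192 c5 (by norm_num) (by norm_num)
  have d7 := key _ (fun z h hk hcom => CfsgLib.Known.SL2Mult.trivial_of_mult σ hσ _
    (CfsgLib.Schur.hasCyclicSchurMultiplier_one_of_isCyclic _) z h hk hcom) 7 86400 c7 (by norm_num) (by norm_num)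
  refine orderOf_dvd_iff_pow_eq_one.mp ?_
  have h := Nat.dvd_gcd (Nat.dvd_gcd d3 d5) d7
  norm_num at h
  exact h

/-- stem extensions of the permutation group have kernel of order at most two -/
theorem card_ker_le {Γ : Type*} [Group Γ] [Finite Γ] (σ : Γ →* P) (hσ : Cfsg.IsStemExtension σ) :
    Nat.card σ.ker ≤ 2 := by
  classical
  let U0 : Subgroup P := stab.subgroupOf P
  have hU0 : U0.index = 315 := by
    have h := Subgroup.card_mul_index U0
    rw [Nat.card_congr (Subgroup.subgroupOfEquivOfLe (fun g hg => hg.1 : stab ≤ P)).toEquiv, card_stab, card_P] at h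
    omega
  let H := U0.comap σ
  let e : U0 ≃* stab := Subgroup.subgroupOfEquivOfLe (fun g hg => hg.1 : stab ≤ P)
  let ρ : H →* U0 := (σ.comp H.subtype).codRestrict U0 fun x => x.2
  let τ : H →* stab := e.toMonoidHom.comp ρ
  have hτs : Function.Surjective τ := fun u => by
    obtain ⟨y, hy⟩ := hσ.1 (e.symm u : P)
    refine ⟨⟨y, by show σ y ∈ U0; rw [hy]; exact (e.symm u).2⟩, ?_⟩
    show e (ρ _) = u
    have hmemy : y ∈ H := by show σ y ∈ U0; rw [hy]; exact (e.symm u).2
    rw [show ρ ⟨y, hmemy⟩ = e.symm u from Subtype.ext hy, MulEquiv.apply_symm_apply]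
  have hτk : ∀ x : H, x ∈ τ.ker ↔ (x : Γ) ∈ σ.ker := fun x => by
    rw [MonoidHom.mem_ker, MonoidHom.mem_ker]
    show e (ρ x) = 1 ↔ _
    rw [MulEquiv.map_eq_one_iff]
    exact ⟨fun h => congrArg Subtype.val h, fun h => Subtype.ext h⟩
  have hτc : τ.ker ≤ Subgroup.center H := fun x hx => Subgroup.mem_center_iff.mpr fun y =>
    Subtype.ext (Subgroup.mem_center_iff.mp (hσ.2.1 ((hτk x).mp hx)) _)
  have hidx : H.index = 315 := (Subgroup.index_comap_of_surjective _ hσ.1).trans hU0
  have hmem : ∀ z : σ.ker, ∃ y : (τ.ker ⊓ commutator H : Subgroup H), ((y : H) : Γ) = (z : Γ) ^ 315 := fun z => by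
    obtain ⟨h, hcom⟩ := CfsgLib.Schur.pow_index_mem_commutator H (hσ.2.1 z.2) (hσ.2.2 z.2)
    refine ⟨⟨⟨_, h⟩, (hτk _).mpr (pow_mem z.2 _), hcom⟩, ?_⟩
    show (z : Γ) ^ H.index = _
    rw [hidx]
  choose f hf using hmem
  refine (Nat.card_le_card_of_injective f fun z w hzw => ?_).trans (card_ker_inf_le τ hτs hτc)
  have e315 : (z : Γ) ^ 315 = (w : Γ) ^ 315 := by rw [← hf, ← hf, hzw]
  have hrec : ∀ u : σ.ker, (u : Γ) = ((u : Γ) ^ 315) ^ 115 := fun u => by
    rw [← pow_mul, show 315 * 115 = 128 * 283 + 1 by norm_num, pow_succ, pow_mul, pow_two_power_eq_one σ hσ u.2,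
      one_pow, one_mul]
  exact Subtype.ext (by rw [hrec z, hrec w, e315])

/-- a step of the action of a word on a root with a unit -/
def unitStep (k : Fin 4) (s : Q × Fin 315) : Q × Fin 315 := (qmul s.1 (unitQ (genUnit k s.2)), genFun k s.2)

/-- the action of a word on a root with a unit -/
def unitRun (w : List (Fin 4)) (i : Fin 315) : Q × Fin 315 := w.foldr unitStep (qone, i)

/-- a word whose square is minus one -/
def negWord : List (Fin 4) :=
  let w : List (Fin 4) := [2, 0, 3, 0, 2, 0, 1, 3]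
  w ++ w ++ w ++ (w ++ w ++ w)

theorem negWord_check : (basePts fun x => decide ((unitRun negWord ⟨x % 315, Nat.mod_lt _ (by norm_num)⟩).2.1 = x)) = true ∧
    (((List.range 120).any fun a => decide (0 < a) && qeq (unitRun negWord 0).1 (unitAt a)) = true) ∧
    qeq (unitAt 0) qone = true ∧ inI qone = true := by
  decide +kernel

theorem unitRun_spec (w : List (Fin 4)) (i : Fin 315) :
    inI (unitRun w i).1 = true ∧ lineHom (w.map genElt).prod i = (unitRun w i).2 ∧
      ((((w.map genElt).prod : twoJ2) : Equiv.Perm icoLeech) ⟨vev (root i), (root_minimal i).1⟩ : W) =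
        lsmul (qev (unitRun w i).1) (vev (root (unitRun w i).2)) := by
  induction w with
  | nil =>
    refine ⟨negWord_check.2.2.2, ?_, ?_⟩
    · rw [List.map_nil, List.prod_nil, map_one]; rfl
    · show vev (root i) = lsmul (qev qone) (vev (root i))
      rw [qev_one]; funext k; simp [lsmul]
  | cons k w ih =>
    obtain ⟨h1, h2, h3⟩ := ih
    have hu := inI_qmul h1 (unit_star (genUnit k (unitRun w i).2)).1
    refine ⟨hu.2, ?_, ?_⟩
    · rw [List.map_cons, List.prod_cons, map_mul, Equiv.Perm.mul_apply, h2, lineHom_genElt]; rfl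
    · rw [List.map_cons, List.prod_cons, Subgroup.coe_mul, Equiv.Perm.mul_apply]
      show qrefl (vev (root (genIdx k))) _ = _
      rw [h3, qrefl_lsmul, genQrefl, unitRoot, lsmul_lsmul, ← qev_qmul hu.1]
      rfl

theorem exists_sq_ne_one : ∃ g : twoJ2, g ^ 2 ∈ lineHom.ker ∧ g ^ 2 ≠ 1 := by
  let h : List (Fin 4) := [2, 0, 3, 0, 2, 0, 1, 3] ++ [2, 0, 3, 0, 2, 0, 1, 3] ++ [2, 0, 3, 0, 2, 0, 1, 3]
  have hsq : (h.map genElt).prod ^ 2 = (negWord.map genElt).prod := by
    rw [sq, ← List.prod_append, ← List.map_append]; rfl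
  refine ⟨(h.map genElt).prod, ?_, ?_⟩ <;> rw [hsq]
  · refine MonoidHom.mem_ker.mpr (eq_one_of_base (lineHom_range ▸ ⟨_, rfl⟩) fun x hx => ?_)
    have := basePts_iff.mp negWord_check.1 x hx
    rw [decide_eq_true_eq] at this
    rw [(unitRun_spec negWord x).2.1]
    simpa [Nat.mod_eq_of_lt x.2] using this
  · intro e
    have h3 := (unitRun_spec negWord 0).2.2
    obtain ⟨-, ha, h0, -⟩ := negWord_check
    simp only [List.any_eq_true, List.mem_range, Bool.and_eq_true, decide_eq_true_eq] at ha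
    obtain ⟨a, ha, hpos, hq⟩ := ha
    rw [e, qeq_iff.mp hq] at h3
    have hroot : unitRoot ⟨0, by norm_num⟩ 0 = unitRoot ⟨a, ha⟩ (unitRun negWord 0).2 := by
      show lsmul (qev (unitAt 0)) _ = lsmul (qev (unitAt a)) _
      rw [← h3, qeq_iff.mp h0, qev_one]
      funext k; simp [lsmul]
    have := congrArg (fun p => p.1.1) (unitRoot_injective (a₁ := (⟨0, _⟩, 0)) (a₂ := (⟨a, ha⟩, _)) hroot)
    simp at this
    omega

theorem ker_le_commutator : lineHom.ker ≤ commutator twoJ2 := by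
  have hP : commutator P = ⊤ := by
    have := isSimple_P
    refine (IsSimpleGroup.eq_bot_or_eq_top_of_normal (commutator P) inferInstance).resolve_left fun h => ?_
    obtain ⟨a, b, hab⟩ := not_comm_P
    refine hab (commutatorElement_eq_one_iff_mul_comm.mp ?_)
    have := Subgroup.commutator_mem_commutator (Subgroup.mem_top a) (Subgroup.mem_top b)
    rwa [← commutator_def, h, Subgroup.mem_bot] at this
  have hmap : (commutator twoJ2).map lineHom = P := by
    rw [commutator_def, Subgroup.map_commutator, ← MonoidHom.range_eq_map, lineHom_range,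
      ← Subgroup.map_subtype_commutator, hP, ← MonoidHom.range_eq_map, Subgroup.range_subtype]
  obtain ⟨g, hk, hne⟩ := exists_sq_ne_one
  have hsq : g ^ 2 ∈ commutator twoJ2 := by
    have hg : lineHom g ∈ (commutator twoJ2).map lineHom := hmap.symm ▸ lineHom_range ▸ ⟨g, rfl⟩
    obtain ⟨c, hc, ec⟩ := hg
    have hd : c⁻¹ * g ∈ lineHom.ker := MonoidHom.mem_ker.mpr (by rw [map_mul, map_inv, ec, inv_mul_cancel])
    have hd2 : (c⁻¹ * g) ^ 2 = 1 := by
      have h := pow_card_eq_one' (x := (⟨_, hd⟩ : lineHom.ker))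
      rw [ker_card] at h
      exact congrArg Subtype.val h
    have hcomm : Commute c (c⁻¹ * g) := Subgroup.mem_center_iff.mp (center_eq.symm ▸ hd) c
    rw [show g = c * (c⁻¹ * g) by group, hcomm.mul_pow, hd2, mul_one]
    exact pow_mem hc 2
  intro z hz
  have hle : Subgroup.zpowers (g ^ 2) ≤ lineHom.ker := Subgroup.zpowers_le.mpr hk
  have hne' : Subgroup.zpowers (g ^ 2) ≠ ⊥ := by rwa [Ne, Subgroup.zpowers_eq_bot]
  have : Finite twoJ2 := Nat.finite_of_card_ne_zero (by rw [card_twoJ2]; norm_num)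
  have heq : Subgroup.zpowers (g ^ 2) = lineHom.ker :=
    Subgroup.eq_of_le_of_card_ge hle (by rw [ker_card]; exact Subgroup.one_lt_card_iff_ne_bot _ |>.mpr hne')
  rw [← heq] at hz
  exact Subgroup.zpowers_le.mpr hsq hz

theorem multiplier_J2 : Cfsg.HasCyclicSchurMultiplier J2 2 := by
  have : Finite J2 := Nat.finite_of_card_ne_zero (by rw [card_J2]; norm_num)
  let τ : twoJ2 →* J2 := QuotientGroup.mk' (Subgroup.center twoJ2)
  have hk : τ.ker = Subgroup.center twoJ2 := QuotientGroup.ker_mk' _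
  have hτ : Cfsg.IsStemExtension τ := ⟨QuotientGroup.mk'_surjective _, hk.le, by
    rw [hk, center_eq]; exact ker_le_commutator⟩
  have hc : Nat.card τ.ker = 2 := by rw [hk, center_eq, ker_card]
  have : Fact (Nat.Prime 2) := ⟨Nat.prime_two⟩
  have : IsCyclic τ.ker := isCyclic_of_prime_card hc
  refine CfsgLib.Schur.hasSchurMultiplier_of_witness τ hτ
    (mulEquivOfCyclicCardEq (by rw [hc]; simp)) fun Γ _ _ σ hσ => ?_
  have hker : ((equivP : J2 →* P).comp σ).ker = σ.ker := by ext x; simp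
  have h := card_ker_le ((equivP : J2 →* P).comp σ)
    ⟨equivP.surjective.comp hσ.1, hker ▸ hσ.2.1, hker ▸ hσ.2.2⟩
  rw [hker] at h
  simpa using h

end CfsgLib.Recog.JankoTwo
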