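import Mathlib
import Cfsg.Agent.Lib.Recog.JankoTwo.UnitaryChecks
import Cfsg.Agent.Lib.Recog.JankoTwo.CentralizerChecks
import Cfsg.Agent.Lib.Recog.JankoTwo.AutData

/-!
# Automorphisms of the Hall-Janko group: checks
-/

set_option autoImplicit false
set_option maxRecDepth 100000
set_option maxHeartbeats 0
set_option Elab.async false

namespace CfsgLib.Recog.JankoTwo

/-- a reflection by its fixed point -/
def rfAt (i x : ℕ) : ℕ := pget (reflTab.getD i 0) x

/-- the mover to a point -/
def mvAt (i x : ℕ) : ℕ := pget (t0 (moverTab.getD i 0)) x

/-- a block of thirty-five rows -/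
def reflBlock (k : ℕ) : Bool := (List.range 35).all fun j =>
  let i := 35 * k + j
  decide (moverTab.getD i 0 < 315) && mvAt i 0 == i &&
    allPts fun x => rfAt i (mvAt i x) == mvAt i (pget (strong0.getD 0 0) x)

theorem refl_check0 : reflBlock 0 = true := by decide +kernel

theorem refl_check1 : reflBlock 1 = true := by decide +kernel

theorem refl_check2 : reflBlock 2 = true := by decide +kernel

theorem refl_check3 : reflBlock 3 = true := by decide +kernel

theorem refl_check4 : reflBlock 4 = true := by decide +kernel

theorem refl_check5 : reflBlock 5 = true := by decide +kernel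

theorem refl_check6 : reflBlock 6 = true := by decide +kernel

theorem refl_check7 : reflBlock 7 = true := by decide +kernel

theorem refl_check8 : reflBlock 8 = true := by decide +kernel

theorem refl_check {i : ℕ} (hi : i < 315) : moverTab.getD i 0 < 315 ∧ mvAt i 0 = i ∧
    allPts (fun x => rfAt i (mvAt i x) == mvAt i (pget (strong0.getD 0 0) x)) = true := by
  have h : ∀ k < 9, reflBlock k = true := by
    intro k hk
    interval_cases k
    exacts [refl_check0, refl_check1, refl_check2, refl_check3, refl_check4, refl_check5, refl_check6, refl_check7,
      refl_check8]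
  have h' := h (i / 35) (by omega)
  simp only [reflBlock, List.all_eq_true, List.mem_range, Bool.and_eq_true, decide_eq_true_eq, beq_iff_eq] at h'
  have h'' := h' (i % 35) (Nat.mod_lt _ (by norm_num))
  rw [Nat.div_add_mod] at h''
  exact ⟨h''.1.1, h''.1.2, h''.2⟩

theorem genPts_check : (genPts == [0, 31, 47, 9] && (List.range 4).all fun k =>
    allPts fun x => rfAt (genPts.getD k 0) x == pget (strong0.getD k 0) x) = true := by
  decide +kernel

/-- a product of reflections with a given exponent -/
def prodPow (l : List ℕ) (n : ℕ) : Bool := basePts fun x => iterAt (fun y => l.foldr rfAt y) n x == x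

/-- the relations between the images of the generators -/
def tupleOK (a b c d : ℕ) : Bool :=
  prodPow [a, b] 5 && prodPow [a, c] 5 && prodPow [b, c] 2 &&
  prodPow [a, d] 3 && prodPow [b, d] 3 && prodPow [c, d] 3 && prodPow [a, b, a, d] 4

theorem gens_relations : tupleOK 0 31 47 9 = true := by decide +kernel

theorem gens_distinct : ((List.range 4).all fun k => (List.range 4).all fun l => k == l ||
    !(basePts fun x => pget (strong0.getD k 0) x == pget (strong0.getD l 0) x)) = true ∧ prodPow [0] 2 = true := by
  decide +kernel

theorem stab_moves : ((List.range 315).all fun x => x == 0 || strong1.any fun p => !(pget p x == x)) = true := by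
  decide +kernel

theorem five_scan : ((List.range 315).all fun x => x == 0 || !(prodPow [0, x] 5) || fiveTab.any fun e => e.1 == x) = true ∧
    fiveTab.length = 64 ∧
    (fiveTab.all fun e => (e.2.1 == 1 || e.2.1 == 2) && decide (e.2.2.1 < 32) && decide (e.2.2.2.1 < 5) &&
      decide (e.2.2.2.2 < 12) && stAt e.2.2 e.2.1 == e.1) = true := by
  decide +kernel

/-- the list of second images -/
def secondTab (r : ℕ) : List ℕ := bif r == 1 then second1 else second2

/-- the list of last images -/
def pairsTab (r : ℕ) : List (ℕ × ℕ) := bif r == 1 then pairs1 else pairs2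

theorem second_scan : ([1, 2].all fun r => (List.range 315).all fun c => c == 0 || c == r || !(prodPow [0, c] 5) ||
    !(prodPow [r, c] 2) || (secondTab r).contains c) = true := by
  decide +kernel

theorem third_scan : ([1, 2].all fun r => (secondTab r).all fun c => (List.range 315).all fun d =>
    d == 0 || d == r || d == c || !(prodPow [0, d] 3) || !(prodPow [r, d] 3) || !(prodPow [c, d] 3) ||
      !(prodPow [0, r, 0, d] 4) || (pairsTab r).contains (c, d)) = true ∧
    pairs1.length = 60 ∧ pairs2.length = 60 := by
  decide +kernel

theorem outer_check : (allPts fun x => decide (pget outerPerm x < 315) && pget outerPermInv (pget outerPerm x) == x) = true ∧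
    outerConj.length = 4 ∧
    ((List.range 4).all fun k => idxOK (outerConj.getD k (0, 0, 0, 0)) &&
      allPts fun x => pget outerPerm (pget (strong0.getD k 0) x) == elemAt (outerConj.getD k (0, 0, 0, 0)) (pget outerPerm x)) = true ∧
    pget outerPerm 0 = 0 ∧
    ((List.range 32).all fun b => (List.range 5).all fun c => (List.range 12).all fun d =>
      !(allPts fun x => stAt (b, c, d) x == pget outerPerm x)) = true := by
  decide +kernel

/-- the elements of the stabiliser commuting with the normal subgroup -/
theorem commutant_scan : ((List.range 32).all fun b => (List.range 5).all fun c => (List.range 12).all fun d =>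
    (b, c, d) == ((0, 0, 0) : ℕ × ℕ × ℕ) || (b, c, d) == zTriple ||
      kerTab.any fun q => !(basePts fun x => stAt (b, c, d) (stAt q x) == stAt q (stAt (b, c, d) x))) = true := by
  decide +kernel

end CfsgLib.Recog.JankoTwo
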