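import Mathlib
import Cfsg.Prelude.Def_KGroupFacts
import Cfsg.Agent.Lib.Recog.JankoTwo.Centralizer
import Cfsg.Agent.Lib.Recog.JankoTwo.AutChecks

/-!
# The outer automorphism group of the Hall-Janko group
-/

set_option autoImplicit false
set_option maxRecDepth 20000

namespace CfsgLib.Recog.JankoTwo

attribute [local irreducible] pget t0 t1 t2 t3 stAt elemAt allPts rfAt mvAt iterAt

/-- the index of the mover to a point -/
def mvIdx (i : Fin 315) : Fin 315 := ⟨moverTab.getD i.1 0 % 315, Nat.mod_lt _ (by norm_num)⟩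

theorem mover_spec (i : Fin 315) : (∀ x : Fin 315, mvAt i.1 x.1 = (U0 (mvIdx i) x).1) ∧ U0 (mvIdx i) 0 = i := by
  obtain ⟨h1, h2, -⟩ := refl_check i.2
  have hv : (mvIdx i).1 = moverTab.getD i.1 0 := Nat.mod_eq_of_lt h1
  have hx : ∀ x : Fin 315, mvAt i.1 x.1 = (U0 (mvIdx i) x).1 := fun x => by
    unfold mvAt; rw [← hv]; exact U0_rep (mvIdx i) x
  exact ⟨hx, Fin.ext ((hx 0).symm.trans h2)⟩

/-- the reflection with a given distinguished point -/
noncomputable def rfl' (i : Fin 315) : S315 := U0 (mvIdx i) * gen 0 * (U0 (mvIdx i))⁻¹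

theorem rfl'_mem (i : Fin 315) : rfl' i ∈ P :=
  P.mul_mem (P.mul_mem (U0_mem _) (Subgroup.subset_closure ⟨0, rfl⟩)) (P.inv_mem (U0_mem _))

theorem rfl'_apply (i x : Fin 315) : rfAt i.1 x.1 = (rfl' i x).1 := by
  have h := (refl_check i.2).2.2
  simp only [allPts_iff, beq_iff_eq] at h
  obtain ⟨y, rfl⟩ := (U0 (mvIdx i)).surjective x
  have hy := h y
  rw [(mover_spec i).1, rep_gen_zero y, (mover_spec i).1] at hy
  rw [hy]
  simp [rfl', Equiv.Perm.mul_apply]

theorem conj_rfl' {g : S315} (hg : g ∈ P) (i : Fin 315) : g * rfl' i * g⁻¹ = rfl' (g i) := by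
  set h := (U0 (mvIdx (g i)))⁻¹ * g * U0 (mvIdx i) with hh
  have hs : h ∈ stab := ⟨P.mul_mem (P.mul_mem (P.inv_mem (U0_mem _)) hg) (U0_mem _), by
    show h 0 = 0
    rw [hh, Equiv.Perm.mul_apply, Equiv.Perm.mul_apply, (mover_spec i).2, Equiv.Perm.inv_eq_iff_eq, (mover_spec (g i)).2]⟩
  have hc : h * gen 0 * h⁻¹ = gen 0 := by rw [(stab_commute hs).eq, mul_inv_cancel_right]
  calc g * rfl' i * g⁻¹ = U0 (mvIdx (g i)) * (h * gen 0 * h⁻¹) * (U0 (mvIdx (g i)))⁻¹ := by
        rw [hh, rfl']; group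
    _ = rfl' (g i) := by rw [hc]; rfl

/-- the point of a generator -/
def genPt (k : Fin 4) : Fin 315 := ⟨genPts.getD k.1 0 % 315, Nat.mod_lt _ (by norm_num)⟩

theorem genPt_val : (genPt 0).1 = 0 ∧ (genPt 1).1 = 31 ∧ (genPt 2).1 = 47 ∧ (genPt 3).1 = 9 := by decide

theorem rfl'_genPt (k : Fin 4) : rfl' (genPt k) = gen k := by
  have h := genPts_check
  simp only [Bool.and_eq_true, List.all_eq_true, List.mem_range, allPts_iff, beq_iff_eq] at h
  have hk : (genPt k).1 = genPts.getD k.1 0 := by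
    refine Nat.mod_eq_of_lt ?_
    rw [h.1]; fin_cases k <;> simp
  refine Equiv.ext fun x => Fin.ext ?_
  rw [← rfl'_apply, hk, h.2 k.1 k.2 x, gen_rep k x]

theorem prod_apply : ∀ (L : List (Fin 315)) (x : Fin 315),
    (L.map Fin.val).foldr rfAt x.1 = ((L.map rfl').prod x).1
  | [], x => rfl
  | a :: L, x => by
    rw [List.map_cons, List.foldr_cons, prod_apply L x, List.map_cons, List.prod_cons, rfl'_apply]
    rfl

theorem prodPow_iff (L : List (Fin 315)) (n : ℕ) :
    prodPow (L.map Fin.val) n = true ↔ (L.map rfl').prod ^ n = 1 := by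
  have hq : ∀ x : Fin 315, (fun y => (L.map Fin.val).foldr rfAt y) x.1 = ((L.map rfl').prod x).1 := prod_apply L
  rw [prodPow, basePts_iff]
  simp only [beq_iff_eq]
  constructor
  · intro h
    refine eq_one_of_base (P.pow_mem (P.list_prod_mem (by simp [rfl'_mem])) n) fun x hx => ?_
    rw [← iterAt_pow (q := fun y => (L.map Fin.val).foldr rfAt y) hq n x]
    exact h x hx
  · intro h x _
    rw [iterAt_pow (q := fun y => (L.map Fin.val).foldr rfAt y) hq n x, h]
    rfl

theorem gen_ne {k l : Fin 4} (h : k ≠ l) : gen k ≠ gen l := by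
  intro e
  have hd := gens_distinct.1
  simp only [List.all_eq_true, List.mem_range, Bool.or_eq_true, beq_iff_eq, Bool.not_eq_true'] at hd
  have h1 := (hd k.1 k.2 l.1 l.2).resolve_left fun e => h (Fin.ext e)
  rw [← Bool.not_eq_true, basePts_iff] at h1
  refine h1 fun x _ => ?_
  rw [gen_rep k x, gen_rep l x, e]
  simp

theorem gen_zero_ne_one : gen 0 ≠ 1 := by
  intro h0
  have hconj : ∀ k, gen k = 1 := fun k => by
    obtain ⟨g, -, hg⟩ := gen_conj k
    rw [hg, h0, mul_one, mul_inv_cancel]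
  exact gen_ne (k := 0) (l := 1) (by decide) ((hconj 0).trans (hconj 1).symm)

theorem gen_zero_mem_ker (h : gen 0 ∈ stab) : (⟨gen 0, h⟩ : stab) ∈ pairHom.ker := by
  refine mem_ker_of_mem (e := zTriple) (fun x => ?_) (List.contains_iff_mem.mp ker_check.2.2.2.1)
  have hz := ker_check.2.2.2.2.2
  rw [allPts_iff] at hz
  have := hz x
  simp only [beq_iff_eq] at this
  rw [this]
  exact rep_gen_zero x

theorem gen_zero_stab : gen 0 ∈ stab := by
  obtain ⟨g, hg⟩ := stab_elem (e := zTriple) (kerTab_range (List.contains_iff_mem.mp ker_check.2.2.2.1))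
  have hz := ker_check.2.2.2.2.2
  rw [allPts_iff] at hz
  have : (g : S315) = gen 0 := Equiv.ext fun x => Fin.ext (by
    have := hz x
    simp only [beq_iff_eq] at this
    rw [← hg x, this]
    exact rep_gen_zero x)
  exact this ▸ g.2

theorem exists_rfl'_of_card {y : P} (hy : y ≠ 1) (hc : 128 ∣ Nat.card (Subgroup.centralizer ({y} : Set P))) :
    ∃ i, (y : S315) = rfl' i := by
  classical
  have : Fact (Nat.Prime 2) := ⟨Nat.prime_two⟩
  have : Finite P := Nat.finite_of_card_ne_zero (by rw [card_P]; norm_num)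
  have hfac : (Nat.card P).factorization 2 = 7 := by
    rw [card_P, show (604800 : ℕ) = 2 ^ 7 * 4725 by norm_num,
      Nat.factorization_mul_apply_of_coprime (by norm_num), Nat.Prime.factorization_pow Nat.prime_two,
      Nat.factorization_eq_zero_of_not_dvd (by norm_num : ¬ 2 ∣ 4725)]
    simp
  obtain ⟨T, hT⟩ := Sylow.exists_subgroup_card_pow_prime (G := Subgroup.centralizer ({y} : Set P)) 2 (n := 7)
    (by rw [show (2 : ℕ) ^ 7 = 128 by norm_num]; exact hc)
  let T' : Sylow 2 P := Sylow.ofCard (T.map (Subgroup.centralizer ({y} : Set P)).subtype)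
    (by rw [Subgroup.card_map_of_injective Subtype.val_injective, hT, hfac])
  let j : stab →* P := { toFun := fun g => ⟨g.1, g.2.1⟩, map_one' := rfl, map_mul' := fun _ _ => rfl }
  have hj : Function.Injective j := fun a b e => Subtype.ext (congrArg (fun k : P => (k : S315)) e)
  obtain ⟨S, hS⟩ := (IsPGroup.of_card (p := 2) (n := 5)
    (show Nat.card (pairHom.ker.map j) = 2 ^ 5 by
      rw [Subgroup.card_map_of_injective hj, card_ker]; norm_num)).exists_le_sylow
  obtain ⟨g, hg⟩ := MulAction.exists_smul_eq P T' S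
  have hcomm : ∀ q ∈ pairHom.ker.map j, Commute (g * y * g⁻¹) q := by
    intro q hq
    have hm : q ∈ ((g • T' : Sylow 2 P) : Subgroup P) := by rw [hg]; exact hS hq
    rw [Sylow.coe_subgroup_smul, Subgroup.mem_pointwise_smul_iff_inv_smul_mem] at hm
    obtain ⟨t, -, ht⟩ := Subgroup.mem_map.mp (show g⁻¹ * q * g ∈ T.map (Subgroup.centralizer ({y} : Set P)).subtype by
      simpa [T', Sylow.coe_ofCard, MulAut.conj_apply] using hm)
    have h1 : Commute y (g⁻¹ * q * g) := by
      rw [← ht]; exact (Subgroup.mem_centralizer_singleton_iff.mp t.2).symm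
    have h2 := h1.map (MulAut.conj g).toMonoidHom
    simp only [MulEquiv.coe_toMonoidHom, MulAut.conj_apply] at h2
    rwa [show g * (g⁻¹ * q * g) * g⁻¹ = q by group] at h2
  have hz : Commute ((g * y * g⁻¹ : P) : S315) (gen 0) :=
    congrArg Subtype.val (hcomm _ ⟨⟨gen 0, gen_zero_stab⟩, gen_zero_mem_ker _, rfl⟩).eq
  have hfix := zero_of_commute (g * y * g⁻¹).2 hz
  set u : stab := ⟨((g * y * g⁻¹ : P) : S315), (g * y * g⁻¹).2, hfix⟩ with hu
  obtain ⟨b, c, d, -, hbx⟩ := stab_triple u.2.1 u.2.2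
  have hs := commutant_scan
  simp only [List.all_eq_true, List.mem_range, Bool.or_eq_true, beq_iff_eq, List.any_eq_true, Bool.not_eq_true'] at hs
  rcases hs b.1 b.2 c.1 c.2 d.1 d.2 with (e | e) | ⟨q, hq, hne⟩
  · refine absurd ?_ hy
    have h1 : ((g * y * g⁻¹ : P) : S315) = 1 := Equiv.ext fun x => Fin.ext (by
      rw [← hbx x, e, stAt_zero]; rfl)
    have h1' : g * y * g⁻¹ = 1 := Subtype.ext h1
    rwa [conj_eq_one_iff] at h1'
  · have h1 : ((g * y * g⁻¹ : P) : S315) = gen 0 := Equiv.ext fun x => Fin.ext (by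
      have hz := ker_check.2.2.2.2.2
      rw [allPts_iff] at hz
      have := hz x
      simp only [beq_iff_eq] at this
      rw [← hbx x, e, this]
      exact rep_gen_zero x)
    refine ⟨(g⁻¹ : P).1 (genPt 0), ?_⟩
    rw [← conj_rfl' (g⁻¹).2, rfl'_genPt, ← h1]
    simp only [Subgroup.coe_mul, Subgroup.coe_inv]
    group
  · obtain ⟨w, hw⟩ := stab_elem (kerTab_range hq)
    have hq' := hcomm _ ⟨w, mem_ker_of_mem hw hq, rfl⟩
    have h2 : u * w = w * u := Subtype.ext (congrArg (fun k : P => (k : S315)) hq'.eq)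
    rw [← Bool.not_eq_true, basePts_iff] at hne
    refine absurd (fun x _ => ?_) hne
    rw [beq_iff_eq, hw x, hbx, hbx x, hw]
    exact congrArg (fun k : stab => ((k : S315) x).1) h2

theorem card_centralizer_gen_zero :
    128 ∣ Nat.card (Subgroup.centralizer ({(⟨gen 0, gen_zero_stab.1⟩ : P)} : Set P)) := by
  let j : stab →* P := { toFun := fun g => ⟨g.1, g.2.1⟩, map_one' := rfl, map_mul' := fun _ _ => rfl }
  have hle : stab.subgroupOf P ≤ Subgroup.centralizer ({(⟨gen 0, gen_zero_stab.1⟩ : P)} : Set P) := fun g hg =>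
    Subgroup.mem_centralizer_singleton_iff.mpr (Subtype.ext (stab_commute hg).eq)
  refine dvd_trans ?_ (Subgroup.card_dvd_of_le hle)
  rw [Nat.card_congr (Subgroup.subgroupOfEquivOfLe (fun g hg => hg.1 : stab ≤ P)).toEquiv, card_stab]
  norm_num

theorem exists_aut_point (φ : MulAut P) (k : Fin 4) :
    ∃ i, (φ ⟨gen k, Subgroup.subset_closure ⟨k, rfl⟩⟩ : S315) = rfl' i := by
  obtain ⟨g, hg, hgk⟩ := gen_conj k
  have hk : (⟨gen k, Subgroup.subset_closure ⟨k, rfl⟩⟩ : P) = ⟨g, hg⟩ * ⟨gen 0, gen_zero_stab.1⟩ * (⟨g, hg⟩ : P)⁻¹ :=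
    Subtype.ext hgk
  set y : P := φ ⟨gen 0, gen_zero_stab.1⟩
  obtain ⟨i, hi⟩ : ∃ i, (y : S315) = rfl' i := by
    refine exists_rfl'_of_card (fun h => gen_zero_ne_one ?_) ?_
    · have := φ.injective (h.trans (map_one φ).symm)
      exact congrArg Subtype.val this
    · refine card_centralizer_gen_zero.trans (dvd_of_eq (Nat.card_congr ?_))
      exact
        { toFun := fun x => ⟨φ x.1, Subgroup.mem_centralizer_singleton_iff.mpr (by
            rw [← map_mul, ← map_mul, Subgroup.mem_centralizer_singleton_iff.mp x.2])⟩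
          invFun := fun x => ⟨φ.symm x.1, Subgroup.mem_centralizer_singleton_iff.mpr (φ.injective (by
            rw [map_mul, map_mul, MulEquiv.apply_symm_apply]
            exact Subgroup.mem_centralizer_singleton_iff.mp x.2))⟩
          left_inv := fun x => Subtype.ext (φ.symm_apply_apply x.1)
          right_inv := fun x => Subtype.ext (φ.apply_symm_apply x.1) }
  refine ⟨(φ ⟨g, hg⟩ : S315) i, ?_⟩
  rw [hk, map_mul, map_mul, map_inv, ← conj_rfl' (φ ⟨g, hg⟩).2, ← hi]
  rfl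

/-- the relations hold -/
def Rels (a b c d : S315) : Prop :=
  (a * b) ^ 5 = 1 ∧ (a * c) ^ 5 = 1 ∧ (b * c) ^ 2 = 1 ∧ (a * d) ^ 3 = 1 ∧ (b * d) ^ 3 = 1 ∧ (c * d) ^ 3 = 1 ∧
    (a * b * a * d) ^ 4 = 1

theorem rels_iff (a b c d : Fin 315) : tupleOK a.1 b.1 c.1 d.1 = true ↔ Rels (rfl' a) (rfl' b) (rfl' c) (rfl' d) := by
  simp only [tupleOK, Bool.and_eq_true, and_assoc, Rels]
  have h2 : ∀ x y : Fin 315, ∀ n, prodPow [x.1, y.1] n = true ↔ (rfl' x * rfl' y) ^ n = 1 := fun x y n => by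
    simpa using prodPow_iff [x, y] n
  have h4 : prodPow [a.1, b.1, a.1, d.1] 4 = true ↔ (rfl' a * rfl' b * rfl' a * rfl' d) ^ 4 = 1 := by
    simpa [mul_assoc] using prodPow_iff [a, b, a, d] 4
  rw [h2, h2, h2, h2, h2, h2, h4]

theorem code_exists {p : Fin 4 → Fin 315} (hp0 : (p 0).1 = 0) (hinj : Function.Injective p)
    (hr : Rels (rfl' (p 0)) (rfl' (p 1)) (rfl' (p 2)) (rfl' (p 3))) :
    ∃ e : Fin 64, ∃ j : Fin 60, ∃ h : stab, (∀ x : Fin 315, stAt (fiveTab.getD e.1 (0, 0, 0, 0, 0)).2.2 x.1 = ((h : S315) x).1) ∧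
      ((h : S315)⁻¹ (p 1)).1 = (fiveTab.getD e.1 (0, 0, 0, 0, 0)).2.1 ∧
      (((h : S315)⁻¹ (p 2)).1, ((h : S315)⁻¹ (p 3)).1) =
        (pairsTab (fiveTab.getD e.1 (0, 0, 0, 0, 0)).2.1).getD j.1 (0, 0) := by
  obtain ⟨h5, hlen, htab⟩ := five_scan
  simp only [List.all_eq_true, List.mem_range, Bool.or_eq_true, beq_iff_eq, Bool.not_eq_true', List.any_eq_true,
    Bool.and_eq_true, decide_eq_true_eq] at h5 htab
  have hok := (rels_iff (p 0) (p 1) (p 2) (p 3)).mpr hr
  rw [hp0] at hok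
  simp only [tupleOK, Bool.and_eq_true] at hok
  have hne : ∀ k : Fin 4, k ≠ 0 → (p k).1 ≠ 0 := fun k hk e => hk (hinj (Fin.ext (e.trans hp0.symm)))
  obtain ⟨t, ht, hte⟩ := ((h5 (p 1).1 (p 1).2).resolve_left fun e => by
    rcases e with e | e
    · exact hne 1 (by decide) e
    · rw [hok.1.1.1.1.1.1] at e; exact absurd e (by simp))
  obtain ⟨e, he, rfl⟩ := List.mem_iff_getElem.mp ht
  obtain ⟨⟨⟨⟨hr12, hb⟩, hc⟩, hd⟩, hst⟩ := htab _ ht
  obtain ⟨h, hh⟩ := stab_elem (e := (fiveTab[e]'he).2.2) ⟨hb, hc, hd⟩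
  have hrlt : (fiveTab[e]'he).2.1 < 315 := by rcases hr12 with q | q <;> omega
  set r : Fin 315 := ⟨_, hrlt⟩ with hrdef
  have hhr : (h : S315) r = p 1 := Fin.ext (by rw [← hh r]; exact hst.trans hte)
  set c' := (h : S315)⁻¹ (p 2)
  set d' := (h : S315)⁻¹ (p 3)
  have hinv0 : (h : S315)⁻¹ (p 0) = p 0 := by
    rw [Equiv.Perm.inv_eq_iff_eq]
    have h0 : p 0 = (0 : Fin 315) := Fin.ext hp0
    rw [h0]; exact h.2.2.symm
  have hr' : Rels (rfl' (p 0)) (rfl' r) (rfl' c') (rfl' d') := by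
    have hc : ∀ i, rfl' ((h : S315)⁻¹ i) = MulAut.conj (h : S315)⁻¹ (rfl' i) := fun i =>
      (conj_rfl' (P.inv_mem h.2.1) i).symm
    have er : r = (h : S315)⁻¹ (p 1) := (Equiv.Perm.eq_inv_iff_eq).mpr hhr
    rw [← hinv0, er, hc, hc, hc, hc]
    obtain ⟨a1, a2, a3, a4, a5, a6, a7⟩ := hr
    simp only [Rels, ← map_mul, ← map_pow, a1, a2, a3, a4, a5, a6, a7, map_one, and_self]
  have hok' := (rels_iff (p 0) r c' d').mpr hr'
  rw [hp0] at hok'
  simp only [tupleOK, Bool.and_eq_true] at hok'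
  have inj' : ∀ {k l : Fin 4}, k ≠ l → ((h : S315)⁻¹ (p k)).1 ≠ ((h : S315)⁻¹ (p l)).1 := fun hkl e =>
    hkl (hinj ((h : S315)⁻¹.injective (Fin.ext e)))
  have e0 : ((h : S315)⁻¹ (p 0)).1 = 0 := by rw [hinv0, hp0]
  have e1 : (h : S315)⁻¹ (p 1) = r := (Equiv.Perm.inv_eq_iff_eq).mpr hhr.symm
  have hrmem : r.1 ∈ [1, 2] := by simpa [hrdef] using hr12
  have h2 := second_scan
  simp only [List.all_eq_true, List.mem_range, Bool.or_eq_true, beq_iff_eq, Bool.not_eq_true'] at h2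
  have hc2 : (secondTab r.1).contains c'.1 = true := by
    rcases h2 r.1 hrmem c'.1 c'.2 with (((q | q) | q) | q) | q
    · exact absurd (q.trans e0.symm) (inj' (k := 2) (l := 0) (by decide))
    · exact absurd (q.trans (congrArg Fin.val e1).symm) (inj' (k := 2) (l := 1) (by decide))
    · rw [hok'.1.1.1.1.1.2] at q; exact absurd q (by simp)
    · rw [hok'.1.1.1.1.2] at q; exact absurd q (by simp)
    · exact q
  obtain ⟨h3, l1, l2⟩ := third_scan
  simp only [List.all_eq_true, List.mem_range, Bool.or_eq_true, beq_iff_eq, Bool.not_eq_true'] at h3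
  have hpair : (pairsTab r.1).contains (c'.1, d'.1) = true := by
    rcases h3 r.1 hrmem c'.1 (List.contains_iff_mem.mp hc2) d'.1 d'.2 with ((((((q | q) | q) | q) | q) | q) | q) | q
    · exact absurd (q.trans e0.symm) (inj' (k := 3) (l := 0) (by decide))
    · exact absurd (q.trans (congrArg Fin.val e1).symm) (inj' (k := 3) (l := 1) (by decide))
    · exact absurd q (inj' (k := 3) (l := 2) (by decide))
    · rw [hok'.1.1.1.2] at q; exact absurd q (by simp)
    · rw [hok'.1.1.2] at q; exact absurd q (by simp)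
    · rw [hok'.1.2] at q; exact absurd q (by simp)
    · rw [hok'.2] at q; exact absurd q (by simp)
    · exact q
  obtain ⟨j, hj, hje⟩ := List.mem_iff_getElem.mp (List.contains_iff_mem.mp hpair)
  have hlenj : (pairsTab r.1).length = 60 := by
    unfold pairsTab; cases (r.1 == 1) <;> simp [l1, l2]
  refine ⟨⟨e, by omega⟩, ⟨j, by omega⟩, h, ?_⟩
  rw [List.getD_eq_getElem _ _ he]
  refine ⟨hh, congrArg Fin.val e1, ?_⟩
  show (c'.1, d'.1) = (pairsTab r.1).getD j (0, 0)
  rw [List.getD_eq_getElem _ _ hj, hje]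

theorem card_mulAut_le : Nat.card (MulAut P) ≤ 1209600 := by
  classical
  have : Finite P := Nat.finite_of_card_ne_zero (by rw [card_P]; norm_num)
  choose pt hpt using exists_aut_point
  let g0 : MulAut P → S315 := fun φ => (U0 (mvIdx (pt φ 0)))⁻¹
  have key : ∀ φ, ∃ e : Fin 64, ∃ j : Fin 60, ∃ h : stab,
      (∀ x : Fin 315, stAt (fiveTab.getD e.1 (0, 0, 0, 0, 0)).2.2 x.1 = ((h : S315) x).1) ∧
      ((h : S315)⁻¹ (g0 φ (pt φ 1))).1 = (fiveTab.getD e.1 (0, 0, 0, 0, 0)).2.1 ∧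
      (((h : S315)⁻¹ (g0 φ (pt φ 2))).1, ((h : S315)⁻¹ (g0 φ (pt φ 3))).1) =
        (pairsTab (fiveTab.getD e.1 (0, 0, 0, 0, 0)).2.1).getD j.1 (0, 0) := by
    intro φ
    have hg : g0 φ ∈ P := P.inv_mem (U0_mem _)
    refine code_exists (p := fun k => g0 φ (pt φ k)) (congrArg Fin.val ((Equiv.Perm.inv_eq_iff_eq).mpr (mover_spec _).2.symm)) ?_ ?_
    · intro k l e
      by_contra hkl
      have e' : pt φ k = pt φ l := (g0 φ).injective e
      have h1 : (φ ⟨gen k, Subgroup.subset_closure ⟨k, rfl⟩⟩) = φ ⟨gen l, Subgroup.subset_closure ⟨l, rfl⟩⟩ :=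
        Subtype.ext (by rw [hpt, hpt, e'])
      exact gen_ne hkl (congrArg Subtype.val (φ.injective h1))
    · let G : Fin 4 → P := fun k => ⟨gen k, Subgroup.subset_closure ⟨k, rfl⟩⟩
      let χ : P →* S315 := ((MulAut.conj (g0 φ)).toMonoidHom.comp P.subtype).comp φ.toMonoidHom
      have hχ : ∀ k, rfl' (g0 φ (pt φ k)) = χ (G k) := fun k => by
        rw [← conj_rfl' hg, ← hpt φ k]; rfl
      have hr := (rels_iff (genPt 0) (genPt 1) (genPt 2) (genPt 3)).mp (by
        rw [genPt_val.1, genPt_val.2.1, genPt_val.2.2.1, genPt_val.2.2.2]; exact gens_relations)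
      simp only [rfl'_genPt] at hr
      obtain ⟨a1, a2, a3, a4, a5, a6, a7⟩ := hr
      have b1 : (G 0 * G 1) ^ 5 = 1 := Subtype.ext a1
      have b2 : (G 0 * G 2) ^ 5 = 1 := Subtype.ext a2
      have b3 : (G 1 * G 2) ^ 2 = 1 := Subtype.ext a3
      have b4 : (G 0 * G 3) ^ 3 = 1 := Subtype.ext a4
      have b5 : (G 1 * G 3) ^ 3 = 1 := Subtype.ext a5
      have b6 : (G 2 * G 3) ^ 3 = 1 := Subtype.ext a6
      have b7 : (G 0 * G 1 * G 0 * G 3) ^ 4 = 1 := Subtype.ext a7
      simp only [hχ, Rels, ← map_mul, ← map_pow, b1, b2, b3, b4, b5, b6, b7, map_one, and_self]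
  choose fe fj fh hfh hf1 hf23 using key
  have hinj : Function.Injective fun φ : MulAut P => (pt φ 0, fe φ, fj φ) := by
    intro φ ψ e
    simp only [Prod.mk.injEq] at e
    obtain ⟨e0, e1, e2⟩ := e
    have hh : fh φ = fh ψ := elem_unique (hfh φ) (by rw [e1]; exact hfh ψ)
    have hg : g0 φ = g0 ψ := by simp only [g0, e0]
    have heq : ∀ k : Fin 4, pt φ k = pt ψ k := by
      have back : ∀ k, ((fh φ : S315)⁻¹ (g0 φ (pt φ k))).1 = ((fh ψ : S315)⁻¹ (g0 ψ (pt ψ k))).1 → pt φ k = pt ψ k := by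
        intro k hk
        rw [hh, hg] at hk
        exact (g0 ψ).injective ((fh ψ : S315)⁻¹.injective (Fin.ext hk))
      have p23 : (((fh φ : S315)⁻¹ (g0 φ (pt φ 2))).1, ((fh φ : S315)⁻¹ (g0 φ (pt φ 3))).1) =
          (((fh ψ : S315)⁻¹ (g0 ψ (pt ψ 2))).1, ((fh ψ : S315)⁻¹ (g0 ψ (pt ψ 3))).1) := by
        rw [hf23 φ, hf23 ψ, e1, e2]
      intro k
      fin_cases k
      · exact e0
      · exact back 1 (by rw [hf1 φ, hf1 ψ, e1])
      · exact back 2 (congrArg Prod.fst p23)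
      · exact back 3 (congrArg Prod.snd p23)
    refine MulEquiv.ext fun x => ?_
    obtain ⟨x, hx⟩ := x
    unfold P at hx
    induction hx using Subgroup.closure_induction with
    | mem z hz =>
      obtain ⟨k, rfl⟩ := hz
      exact Subtype.ext (by rw [hpt, hpt, heq k])
    | one => exact (map_one φ).trans (map_one ψ).symm
    | mul a b ha hb iha ihb =>
      show φ (⟨a, ha⟩ * ⟨b, hb⟩ : P) = ψ (⟨a, ha⟩ * ⟨b, hb⟩ : P)
      rw [map_mul, map_mul, iha, ihb]
    | inv a ha iha =>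
      show φ (⟨a, ha⟩⁻¹ : P) = ψ (⟨a, ha⟩⁻¹ : P)
      rw [map_inv, map_inv, iha]
  have := Nat.card_le_card_of_injective _ hinj
  simpa [Nat.card_prod, Nat.card_fin] using this

theorem exists_outer : ∃ φ : MulAut P, φ ∉ Cfsg.Inn P := by
  classical
  have : Finite P := Nat.finite_of_card_ne_zero (by rw [card_P]; norm_num)
  obtain ⟨hperm, hlen, hconj, hfix, hscan⟩ := outer_check
  simp only [allPts_iff, Bool.and_eq_true, decide_eq_true_eq, beq_iff_eq] at hperm
  let f : Fin 315 → Fin 315 := fun x => ⟨pget outerPerm x.1, (hperm x).1⟩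
  have hf : Function.Injective f := fun a b e => Fin.ext (by
    rw [← (hperm a).2, ← (hperm b).2, show pget outerPerm a.1 = pget outerPerm b.1 from congrArg Fin.val e])
  let π : S315 := Equiv.ofBijective f (Finite.injective_iff_bijective.mp hf)
  have hπ : ∀ x : Fin 315, pget outerPerm x.1 = (π x).1 := fun x => rfl
  simp only [List.all_eq_true, List.mem_range, Bool.and_eq_true, allPts_iff, beq_iff_eq] at hconj
  have hnorm : ∀ g ∈ P, π * g * π⁻¹ ∈ P := by
    intro g hg
    unfold P at hg ⊢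
    induction hg using Subgroup.closure_induction with
    | mem z hz =>
      obtain ⟨k, rfl⟩ := hz
      obtain ⟨hidx, hx⟩ := hconj k.1 k.2
      obtain ⟨e, he, hex⟩ := exists_elem _ hidx
      have : π * gen k = e * π := Equiv.ext fun x => Fin.ext (by
        have := hx x
        rw [gen_rep k x, hπ, hπ, hex] at this
        exact this)
      rw [this, mul_inv_cancel_right]; exact he
    | one => rw [mul_one, mul_inv_cancel]; exact Subgroup.one_mem _
    | mul a b _ _ ha hb =>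
      rw [show π * (a * b) * π⁻¹ = π * a * π⁻¹ * (π * b * π⁻¹) by group]; exact Subgroup.mul_mem _ ha hb
    | inv a _ ha =>
      rw [show π * a⁻¹ * π⁻¹ = (π * a * π⁻¹)⁻¹ by group]; exact Subgroup.inv_mem _ ha
  let F : P →* P := MonoidHom.mk' (fun g => ⟨π * g.1 * π⁻¹, hnorm g.1 g.2⟩) fun a b => Subtype.ext (by
    show π * (a.1 * b.1) * π⁻¹ = π * a.1 * π⁻¹ * (π * b.1 * π⁻¹)
    group)
  have hF : Function.Injective F := fun a b e => Subtype.ext (mul_left_cancel (mul_right_cancel (congrArg Subtype.val e)))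
  refine ⟨MulEquiv.ofBijective F (Finite.injective_iff_bijective.mp hF), ?_⟩
  rintro ⟨c, hc⟩
  have hw : ∀ g ∈ P, Commute ((c : S315)⁻¹ * π) g := by
    intro g hg
    have h := congrArg Subtype.val (DFunLike.congr_fun hc ⟨g, hg⟩)
    have h' : (c : S315) * g * (c : S315)⁻¹ = π * g * π⁻¹ := h
    show (c : S315)⁻¹ * π * g = g * ((c : S315)⁻¹ * π)
    calc (c : S315)⁻¹ * π * g = (c : S315)⁻¹ * (π * g * π⁻¹) * π := by group
      _ = g * ((c : S315)⁻¹ * π) := by rw [← h']; group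
  set w := (c : S315)⁻¹ * π
  have hw0 : w 0 = 0 := by
    by_contra hne
    have hm := stab_moves
    simp only [List.all_eq_true, List.mem_range, Bool.or_eq_true, beq_iff_eq, List.any_eq_true, Bool.not_eq_true',
      beq_eq_false_iff_ne] at hm
    obtain ⟨p, hp, hne'⟩ := (hm (w 0).1 (w 0).2).resolve_left fun e => hne (Fin.ext e)
    obtain ⟨i, hi, rfl⟩ := List.mem_iff_getElem.mp hp
    obtain ⟨σ, hσ, hrep⟩ := inside_strong.1 i hi
    rw [List.getD_eq_getElem _ _ hi] at hrep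
    have h0 := base_check.2.2.2.2.2
    simp only [List.all_eq_true, beq_iff_eq] at h0
    have hσ0 : σ 0 = 0 := Fin.ext ((hrep 0).symm.trans (h0 _ hp))
    have := DFunLike.congr_fun (hw σ hσ).eq 0
    rw [Equiv.Perm.mul_apply, Equiv.Perm.mul_apply, hσ0] at this
    exact hne' ((hrep (w 0)).trans (congrArg Fin.val this.symm))
  have hsurj : Function.Surjective fun a => U0 a 0 := Finite.surjective_of_injective U_inj.1
  have hw1 : w = 1 := Equiv.ext fun x => by
    obtain ⟨a, rfl⟩ := hsurj x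
    have h' : w (U0 a 0) = U0 a (w 0) := DFunLike.congr_fun (hw _ (U0_mem a)).eq 0
    rw [hw0] at h'
    simpa using h'
  have hπP : π ∈ P := (inv_mul_eq_one.mp hw1) ▸ c.2
  obtain ⟨b, b', d, -, hx⟩ := stab_triple hπP (Fin.ext hfix)
  simp only [List.all_eq_true, List.mem_range, Bool.not_eq_true'] at hscan
  have := hscan b.1 b.2 b'.1 b'.2 d.1 d.2
  rw [← Bool.not_eq_true, allPts_iff] at this
  exact this fun x => beq_iff_eq.mpr ((hx x).trans (hπ x).symm)

theorem card_out_P : Nat.card (Cfsg.Out P) = 2 := by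
  have : Finite P := Nat.finite_of_card_ne_zero (by rw [card_P]; norm_num)
  have : Finite (MulAut P) := Finite.of_injective (fun φ => (φ : P → P)) DFunLike.coe_injective
  have hinn : Nat.card (Cfsg.Inn P) = 604800 := by
    have hinj : Function.Injective (MulAut.conj : P →* MulAut P) := by
      refine (injective_iff_map_eq_one _).mpr fun a ha => ?_
      have : a ∈ Subgroup.center P := Subgroup.mem_center_iff.mpr fun g => by
        have := DFunLike.congr_fun ha g
        exact (mul_inv_eq_iff_eq_mul.mp this).symm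
      rwa [center_P, Subgroup.mem_bot] at this
    rw [← Nat.card_congr (MonoidHom.ofInjective hinj).toEquiv, card_P]
  have h1 := Subgroup.card_mul_index (Cfsg.Inn P)
  rw [hinn] at h1
  have h2 := card_mulAut_le
  obtain ⟨φ, hφ⟩ := exists_outer
  have h3 : (Cfsg.Inn P).index ≠ 1 := fun e => hφ (Subgroup.index_eq_one.mp e ▸ Subgroup.mem_top φ)
  have h4 : (Cfsg.Inn P).index ≠ 0 := Subgroup.index_ne_zero_of_finite
  show Nat.card (MulAut P ⧸ Cfsg.Inn P) = 2
  rw [← Subgroup.index_eq_card]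
  omega

theorem card_out_congr {G H : Type*} [Group G] [Group H] (e : G ≃* H) :
    Nat.card (Cfsg.Out G) = Nat.card (Cfsg.Out H) := by
  refine Nat.card_congr (QuotientGroup.congr (Cfsg.Inn G) (Cfsg.Inn H) (MulAut.congr e) ?_).toEquiv
  ext ψ
  constructor
  · rintro ⟨_, ⟨g, rfl⟩, rfl⟩
    exact ⟨e g, MulEquiv.ext fun x => by simp [MulAut.congr]⟩
  · rintro ⟨h, rfl⟩
    exact ⟨MulAut.conj (e.symm h), ⟨_, rfl⟩, MulEquiv.ext fun x => by simp [MulAut.congr]⟩

theorem card_out_J2 : Nat.card (Cfsg.Out Cfsg.Spor.J2) = 2 := by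
  rw [card_out_congr equivP, card_out_P]

end CfsgLib.Recog.JankoTwo
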