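import Cfsg.Agent.Lib.Recog.JankoTwo.Checks

/-!
# The permutation group generated by the four reflections: order, element orders, normal subgroups
-/

set_option autoImplicit false
set_option maxRecDepth 20000

namespace CfsgLib.Recog.JankoTwo

/-- permutations of the 315 lines -/
abbrev S315 := Equiv.Perm (Fin 315)

/-- `σ` is stored as `p` -/
def Rep (σ : S315) (p : ℕ) : Prop := ∀ x : Fin 315, pget p x.1 = (σ x).1

attribute [local irreducible] pget t0 t1 t2 t3

theorem allPts_iff {f : ℕ → Bool} : allPts f = true ↔ ∀ x : Fin 315, f x.1 = true := by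
  simp only [allPts, List.all_eq_true, List.mem_range]
  exact ⟨fun h x => h x.1 x.2, fun h x hx => h ⟨x, hx⟩⟩

theorem Rep.unique {σ τ : S315} {p : ℕ} (h : Rep σ p) (h' : Rep τ p) : σ = τ :=
  Equiv.ext fun x => Fin.ext ((h x).symm.trans (h' x))

theorem rep_of_eq {σ τ : S315} {r p q : ℕ} (hσ : Rep σ p) (hτ : Rep τ q)
    (h : ∀ x : Fin 315, pget r x.1 = pget p (pget q x.1)) : Rep (σ * τ) r := fun x => by
  rw [h, hτ x, hσ (τ x)]; rfl

theorem Rep.comp {σ τ : S315} {p q : ℕ} (hσ : Rep σ p) (hτ : Rep τ q) (x : Fin 315) :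
    pget p (pget q x.1) = ((σ * τ) x).1 := by
  rw [hτ x, hσ (τ x)]; rfl

/-- a list of packed permutations lying in a subgroup -/
def Inside (H : Subgroup S315) (L : List ℕ) : Prop := ∀ i < L.length, ∃ σ ∈ H, Rep σ (L.getD i 0)

theorem inside_of_tree {H : Subgroup S315} {T : List ℕ} {tr : List (ℕ × ℕ)} {S : List ℕ}
    (h : treeOK T tr S = true) (hS : Inside H S) : Inside H T ∧ Rep 1 (T.getD 0 0) := by
  simp only [treeOK, Bool.and_eq_true, allPts_iff, beq_iff_eq, List.all_eq_true, decide_eq_true_eq] at h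
  obtain ⟨⟨h0, hlen⟩, hall⟩ := h
  have hone : Rep 1 (T.getD 0 0) := fun x => h0 x
  refine ⟨fun i hi => ?_, hone⟩
  induction i using Nat.strong_induction_on with
  | _ i ih =>
    rcases i with _ | i
    · exact ⟨1, one_mem _, hone⟩
    · have hl : i < ((List.range tr.length).zip (tr.zip (T.drop 1))).length := by simp; omega
      have hx := hall _ (List.getElem_mem hl)
      simp only [List.getElem_zip, List.getElem_range, List.getElem_drop] at hx
      obtain ⟨⟨hp, hj⟩, he⟩ := hx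
      obtain ⟨σ, hσ, rσ⟩ := hS _ hj
      obtain ⟨τ, hτ, rτ⟩ := ih _ (Nat.lt_succ_of_le hp) (by omega)
      refine ⟨σ * τ, mul_mem hσ hτ, rep_of_eq rσ rτ fun x => ?_⟩
      rw [List.getD_eq_getElem _ _ hi]
      simpa [Nat.add_comm 1 i] using he x

theorem mem_of_word {H : Subgroup S315} {S w : List ℕ} (hS : Inside H S) (hw : ∀ j ∈ w, j < S.length) :
    ∃ σ ∈ H, ∀ x : Fin 315, wordAt S w x.1 = (σ x).1 := by
  induction w with
  | nil => exact ⟨1, one_mem _, fun x => rfl⟩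
  | cons j w ih =>
    obtain ⟨σ, hσ, hx⟩ := ih fun i hi => hw i (List.mem_cons_of_mem _ hi)
    obtain ⟨τ, hτ, rτ⟩ := hS j (hw j List.mem_cons_self)
    refine ⟨τ * σ, mul_mem hτ hσ, fun x => ?_⟩
    show pget (S.getD j 0) (wordAt S w x.1) = _
    rw [hx, rτ (σ x)]; rfl

/-- a generating permutation -/
theorem gen_bij (k : Fin 4) : ∃ σ : S315, Rep σ (strong0.getD k.1 0) ∧ ∀ i : Fin 315, (σ i).1 = (icoPerm k.1).getD i.1 0 := by
  have h := gens_check.2
  simp only [List.all_eq_true, List.mem_range, beq_iff_eq] at h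
  have hk := h k.1 k.2
  have hlen : (icoPerm k.1).length = 315 ∧ ((List.range 315).all fun i =>
      decide ((icoPerm k.1).getD i 0 < 315) && (icoPerm k.1).getD ((icoPerm k.1).getD i 0) 0 == i) = true := by
    have : ∀ k : Fin 4, (icoPerm k.1).length = 315 ∧ ((List.range 315).all fun i =>
        decide ((icoPerm k.1).getD i 0 < 315) && (icoPerm k.1).getD ((icoPerm k.1).getD i 0) 0 == i) = true := by
      decide +kernel
    exact this k
  obtain ⟨hlen, hinv⟩ := hlen
  simp only [List.all_eq_true, List.mem_range, Bool.and_eq_true, decide_eq_true_eq, beq_iff_eq] at hinv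
  let f : Fin 315 → Fin 315 := fun i => ⟨(icoPerm k.1).getD i.1 0, (hinv i.1 i.2).1⟩
  have hf : ∀ i, f (f i) = i := fun i => Fin.ext (hinv i.1 i.2).2
  refine ⟨⟨f, f, hf, hf⟩, fun x => ?_, fun _ => rfl⟩
  have hl : x.1 < ((List.range 315).zip (icoPerm k.1)).length := by simp [hlen]
  have := hk _ (List.getElem_mem hl)
  simp only [List.getElem_zip, List.getElem_range] at this
  rw [this]
  show _ = (icoPerm k.1).getD x.1 0
  rw [List.getD_eq_getElem _ _ (by omega)]

/-- the `k`-th generator -/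
noncomputable def gen (k : Fin 4) : S315 := (gen_bij k).choose

theorem gen_rep (k : Fin 4) : Rep (gen k) (strong0.getD k.1 0) := (gen_bij k).choose_spec.1
theorem gen_apply (k : Fin 4) (i : Fin 315) : (gen k i).1 = (icoPerm k.1).getD i.1 0 := (gen_bij k).choose_spec.2 i

/-- the group generated by the four reflections -/
noncomputable def P : Subgroup S315 := Subgroup.closure (Set.range gen)

theorem inside_strong0 : Inside P strong0 := fun j hj => by
  rw [gens_check.1.1] at hj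
  exact ⟨_, Subgroup.subset_closure ⟨⟨j, hj⟩, rfl⟩, gen_rep ⟨j, hj⟩⟩

theorem exists_rep_of_word {H : Subgroup S315} {S T : List ℕ} {W : List (List ℕ)} (hS : Inside H S)
    (hlen : W.length = T.length) (hw : ∀ e ∈ T.zip W, ∀ j ∈ e.2, j < S.length)
    (he : ∀ e ∈ T.zip W, ∀ x : Fin 315, pget e.1 x.1 = wordAt S e.2 x.1) : Inside H T := fun i hi => by
  have hl : i < (T.zip W).length := by simp; omega
  have h1 := hw _ (List.getElem_mem hl)
  have h2 := he _ (List.getElem_mem hl)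
  simp only [List.getElem_zip] at h1 h2
  obtain ⟨σ, hσ, hx⟩ := mem_of_word hS h1
  refine ⟨σ, hσ, fun x => ?_⟩
  rw [List.getD_eq_getElem _ _ hi, h2, hx]

theorem inside_strong : Inside P strong1 ∧ Inside P strong2 ∧ Inside P strong3 := by
  have h := word_check
  simp only [Bool.and_eq_true, beq_iff_eq, List.all_eq_true, decide_eq_true_eq, allPts_iff] at h
  obtain ⟨⟨⟨⟨⟨l1, l2⟩, l3⟩, h1⟩, h2⟩, h3⟩ := h
  obtain ⟨g1, g2, g3, g4⟩ := gens_check.1
  have s1 : Inside P strong1 := exists_rep_of_word inside_strong0 (by rw [l1, g2])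
    (fun e he j hj => by rw [g1]; exact (h1 e he).1 j hj) fun e he x => (h1 e he).2 x
  have s2 : Inside P strong2 := exists_rep_of_word s1 (by rw [l2, g3])
    (fun e he j hj => by rw [g2]; exact (h2 e he).1 j hj) fun e he x => (h2 e he).2 x
  have s3 : Inside P strong3 := exists_rep_of_word s2 (by rw [l3, g4])
    (fun e he j hj => by rw [g3]; exact (h3 e he).1 j hj) fun e he x => (h3 e he).2 x
  exact ⟨s1, s2, s3⟩

theorem u_spec0 (i : Fin 315) : ∃ σ ∈ P, Rep σ (t0 i.1) := by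
  unfold t0; exact (inside_of_tree tree_check0 inside_strong0).1 i.1 (by rw [base_check.2.2.2.2.1.1]; exact i.2)
theorem u_spec1 (i : Fin 32) : ∃ σ ∈ P, Rep σ (t1 i.1) := by
  unfold t1; exact (inside_of_tree tree_check1 inside_strong.1).1 i.1 (by rw [base_check.2.2.2.2.1.2.1]; exact i.2)
theorem u_spec2 (i : Fin 5) : ∃ σ ∈ P, Rep σ (t2 i.1) := by
  unfold t2; exact (inside_of_tree tree_check2 inside_strong.2.1).1 i.1 (by rw [base_check.2.2.2.2.1.2.2.1]; exact i.2)
theorem u_spec3 (i : Fin 12) : ∃ σ ∈ P, Rep σ (t3 i.1) := by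
  unfold t3; exact (inside_of_tree tree_check3 inside_strong.2.2).1 i.1 (by rw [base_check.2.2.2.2.1.2.2.2]; exact i.2)

noncomputable def U0 (i : Fin 315) : S315 := (u_spec0 i).choose
noncomputable def U1 (i : Fin 32) : S315 := (u_spec1 i).choose
noncomputable def U2 (i : Fin 5) : S315 := (u_spec2 i).choose
noncomputable def U3 (i : Fin 12) : S315 := (u_spec3 i).choose

theorem U0_mem (i) : U0 i ∈ P := (u_spec0 i).choose_spec.1
theorem U1_mem (i) : U1 i ∈ P := (u_spec1 i).choose_spec.1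
theorem U2_mem (i) : U2 i ∈ P := (u_spec2 i).choose_spec.1
theorem U3_mem (i) : U3 i ∈ P := (u_spec3 i).choose_spec.1
theorem U0_rep (i) : Rep (U0 i) (t0 i.1) := (u_spec0 i).choose_spec.2
theorem U1_rep (i) : Rep (U1 i) (t1 i.1) := (u_spec1 i).choose_spec.2
theorem U2_rep (i) : Rep (U2 i) (t2 i.1) := (u_spec2 i).choose_spec.2
theorem U3_rep (i) : Rep (U3 i) (t3 i.1) := (u_spec3 i).choose_spec.2

theorem U_one : U0 ⟨0, by norm_num⟩ = 1 ∧ U1 ⟨0, by norm_num⟩ = 1 ∧ U2 ⟨0, by norm_num⟩ = 1 ∧ U3 ⟨0, by norm_num⟩ = 1 := by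
  obtain ⟨s1, s2, s3⟩ := inside_strong
  refine ⟨?_, ?_, ?_, ?_⟩
  · have h := U0_rep ⟨0, by norm_num⟩; unfold t0 at h; exact h.unique (inside_of_tree tree_check0 inside_strong0).2
  · have h := U1_rep ⟨0, by norm_num⟩; unfold t1 at h; exact h.unique (inside_of_tree tree_check1 s1).2
  · have h := U2_rep ⟨0, by norm_num⟩; unfold t2 at h; exact h.unique (inside_of_tree tree_check2 s2).2
  · have h := U3_rep ⟨0, by norm_num⟩; unfold t3 at h; exact h.unique (inside_of_tree tree_check3 s3).2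

def H3 : Set S315 := Set.range U3
def H2 : Set S315 := Set.range fun e : Fin 5 × Fin 12 => U2 e.1 * U3 e.2
def H1 : Set S315 := Set.range fun e : Fin 32 × Fin 5 × Fin 12 => U1 e.1 * (U2 e.2.1 * U3 e.2.2)
def H0 : Set S315 := Set.range fun e : Fin 315 × Fin 32 × Fin 5 × Fin 12 => U0 e.1 * (U1 e.2.1 * (U2 e.2.2.1 * U3 e.2.2.2))

theorem getD_mem_zip {α β : Type} [Inhabited α] {A : List α} {B : List β} {i : ℕ} (a : α) (b : β)
    (hA : i < A.length) (hB : i < B.length) : (A.getD i a, B.getD i b) ∈ A.zip B := by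
  rw [List.getD_eq_getElem _ _ hA, List.getD_eq_getElem _ _ hB]
  exact List.mem_iff_getElem.mpr ⟨i, by simp; omega, by simp⟩

/-- left stability of a set of products under a set of packed permutations, from rows of indices -/
theorem stable_words {S : Set S315} {g : S315} {Z : Set S315} (hg : g ∈ Subgroup.closure Z)
    (hZ : ∀ z ∈ Z, ∀ h ∈ S, z * h ∈ S) : ∀ h ∈ S, g * h ∈ S := by
  have hfin : Subgroup.closure Z = Subgroup.closure Z := rfl
  have hmon : g ∈ Submonoid.closure Z := by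
    rw [← Subgroup.closure_toSubmonoid_of_finite]; exact hg
  induction hmon using Submonoid.closure_induction with
  | mem z hz => exact hZ z hz
  | one => intro h hh; rwa [one_mul]
  | mul a b ha hb iha ihb =>
    intro h hh
    rw [mul_assoc]
    refine iha ?_ _ (ihb ?_ h hh)
    · exact Submonoid.closure_le.mpr Subgroup.subset_closure ha
    · exact Submonoid.closure_le.mpr Subgroup.subset_closure hb

/-- the set of permutations stored in a list -/
def repSet (L : List ℕ) : Set S315 := {σ | ∃ j < L.length, Rep σ (L.getD j 0)}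

theorem mem_closure_of_rep {L : List ℕ} {σ : S315} {p : ℕ} (h : Inside (Subgroup.closure (repSet L)) [p]) (hr : Rep σ p) :
    σ ∈ Subgroup.closure (repSet L) := by
  obtain ⟨τ, hτ, r⟩ := h 0 (by simp)
  exact hr.unique (by simpa using r) ▸ hτ

theorem inside_repSet {L T : List ℕ} {H : Subgroup S315} (hL : Inside H L) (hT : Inside (Subgroup.closure (repSet L)) T)
    {i : ℕ} (hi : i < T.length) {σ : S315} (hσ : Rep σ (T.getD i 0)) : σ ∈ Subgroup.closure (repSet L) := by
  obtain ⟨τ, hτ, r⟩ := hT i hi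
  exact hσ.unique r ▸ hτ

theorem inside_self {H : Subgroup S315} {L : List ℕ} (h : Inside H L) : Inside (Subgroup.closure (repSet L)) L := fun i hi => by
  obtain ⟨σ, -, r⟩ := h i hi
  exact ⟨σ, Subgroup.subset_closure ⟨i, hi, r⟩, r⟩

theorem stable3 : ∀ z ∈ repSet strong3, ∀ h ∈ H3, z * h ∈ H3 := by
  rintro z ⟨j, hj, rz⟩ _ ⟨d, rfl⟩
  obtain ⟨-, -, -, l3, -, -, h⟩ := schreier_check1
  simp only [List.all_eq_true, Bool.and_eq_true, beq_iff_eq, decide_eq_true_eq, allPts_iff] at h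
  obtain ⟨hl, hrow⟩ := h _ (getD_mem_zip (A := trans3) (B := schreier3) (i := d.1) 0 []
    (by rw [base_check.2.2.2.2.1.2.2.2]; exact d.2) (by rw [l3]; exact d.2))
  obtain ⟨hd', he⟩ := hrow _ (getD_mem_zip (A := strong3) (B := schreier3.getD d.1 []) (i := j) 0 0 hj (by rw [hl]; exact hj))
  refine ⟨⟨_, hd'⟩, Equiv.ext fun x => Fin.ext ?_⟩
  have hx := he x
  have hr := U3_rep d
  have hr' : ∀ y : Fin 315, pget (trans3.getD d.1 0) y.1 = (U3 d y).1 := fun y => by
    have := hr y; unfold t3 at this; exact this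
  rw [hr', rz (U3 d x), U3_rep ⟨_, hd'⟩ x] at hx
  exact hx.symm

theorem H2_stable : ∀ z ∈ repSet strong2, ∀ h ∈ H2, z * h ∈ H2 := by
  rintro z ⟨j, hj, rz⟩ _ ⟨⟨c, d⟩, rfl⟩
  obtain ⟨-, -, l2, -, -, h, -⟩ := schreier_check1
  simp only [List.all_eq_true, Bool.and_eq_true, beq_iff_eq, decide_eq_true_eq, allPts_iff] at h
  obtain ⟨hl, hrow⟩ := h _ (getD_mem_zip (A := trans2) (B := schreier2) (i := c.1) 0 []
    (by rw [base_check.2.2.2.2.1.2.2.1]; exact c.2) (by rw [l2]; exact c.2))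
  obtain ⟨⟨hc', hd'⟩, he⟩ := hrow _ (getD_mem_zip (A := strong2) (B := schreier2.getD c.1 []) (i := j) 0 (0, 0) hj
    (by rw [hl]; exact hj))
  have e : z * U2 c = U2 ⟨_, hc'⟩ * U3 ⟨_, hd'⟩ := Equiv.ext fun x => Fin.ext (by
    have hx := he x
    have hr' : ∀ y : Fin 315, pget (trans2.getD c.1 0) y.1 = (U2 c y).1 := fun y => by
      have := U2_rep c y; unfold t2 at this; exact this
    rw [hr', rz (U2 c x), (U2_rep ⟨_, hc'⟩).comp (U3_rep ⟨_, hd'⟩)] at hx
    exact hx)
  obtain ⟨s1, s2, s3⟩ := inside_strong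
  have h3 : U3 ⟨_, hd'⟩ ∈ Subgroup.closure (repSet strong3) := by
    refine inside_repSet s3 (inside_of_tree tree_check3 (inside_self s3)).1
      (i := (⟨_, hd'⟩ : Fin 12).1) (by rw [base_check.2.2.2.2.1.2.2.2]; exact hd') ?_
    have := U3_rep ⟨_, hd'⟩; unfold t3 at this; exact this
  obtain ⟨d', hd''⟩ := stable_words h3 stable3 (U3 d) ⟨d, rfl⟩
  refine ⟨(⟨_, hc'⟩, d'), ?_⟩
  show _ * U3 d' = z * (U2 c * U3 d)
  rw [hd'', ← mul_assoc z, e, mul_assoc]

theorem H1_stable : ∀ z ∈ repSet strong1, ∀ h ∈ H1, z * h ∈ H1 := by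
  rintro z ⟨j, hj, rz⟩ _ ⟨⟨b, c, d⟩, rfl⟩
  obtain ⟨-, l1, -, -, h, -, -⟩ := schreier_check1
  simp only [List.all_eq_true, Bool.and_eq_true, beq_iff_eq, decide_eq_true_eq, allPts_iff] at h
  obtain ⟨hl, hrow⟩ := h _ (getD_mem_zip (A := trans1) (B := schreier1) (i := b.1) 0 []
    (by rw [base_check.2.2.2.2.1.2.1]; exact b.2) (by rw [l1]; exact b.2))
  obtain ⟨⟨⟨hb', hc'⟩, hd'⟩, he⟩ := hrow _ (getD_mem_zip (A := strong1) (B := schreier1.getD b.1 []) (i := j) 0 (0, 0, 0) hj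
    (by rw [hl]; exact hj))
  have e : z * U1 b = U1 ⟨_, hb'⟩ * (U2 ⟨_, hc'⟩ * U3 ⟨_, hd'⟩) := Equiv.ext fun x => Fin.ext (by
    have hx := he x
    have hr' : ∀ y : Fin 315, pget (trans1.getD b.1 0) y.1 = (U1 b y).1 := fun y => by
      have := U1_rep b y; unfold t1 at this; exact this
    rw [hr', rz (U1 b x), (U2_rep ⟨_, hc'⟩).comp (U3_rep ⟨_, hd'⟩), U1_rep ⟨_, hb'⟩ _] at hx
    exact hx)
  obtain ⟨s1, s2, s3⟩ := inside_strong
  have hw := word_check
  simp only [Bool.and_eq_true, beq_iff_eq, List.all_eq_true, decide_eq_true_eq, allPts_iff] at hw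
  have h2 : U2 ⟨_, hc'⟩ ∈ Subgroup.closure (repSet strong2) := by
    refine inside_repSet s2 (inside_of_tree tree_check2 (inside_self s2)).1
      (i := (⟨_, hc'⟩ : Fin 5).1) (by rw [base_check.2.2.2.2.1.2.2.1]; exact hc') ?_
    have := U2_rep ⟨_, hc'⟩; unfold t2 at this; exact this
  have s32 : Inside (Subgroup.closure (repSet strong2)) strong3 :=
    exists_rep_of_word (inside_self s2) (by rw [hw.1.1.1.2, gens_check.1.2.2.2])
      (fun e he j hj => by rw [gens_check.1.2.2.1]; exact (hw.2 e he).1 j hj) fun e he x => (hw.2 e he).2 x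
  have h3 : U3 ⟨_, hd'⟩ ∈ Subgroup.closure (repSet strong2) := by
    refine inside_repSet s2 (inside_of_tree tree_check3 s32).1
      (i := (⟨_, hd'⟩ : Fin 12).1) (by rw [base_check.2.2.2.2.1.2.2.2]; exact hd') ?_
    have := U3_rep ⟨_, hd'⟩; unfold t3 at this; exact this
  obtain ⟨⟨c', d'⟩, hcd⟩ := stable_words (mul_mem h2 h3) H2_stable (U2 c * U3 d) ⟨(c, d), rfl⟩
  refine ⟨(⟨_, hb'⟩, c', d'), ?_⟩
  show _ * (U2 c' * U3 d') = z * (U1 b * (U2 c * U3 d))
  rw [show U2 c' * U3 d' = _ from hcd, ← mul_assoc z, e]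
  simp only [mul_assoc]

theorem H0_stable : ∀ z ∈ Set.range gen, ∀ h ∈ H0, z * h ∈ H0 := by
  rintro _ ⟨k, rfl⟩ _ ⟨⟨a, b, c, d⟩, rfl⟩
  have l0 := schreier_check1.1
  have la := base_check.2.2.2.2.1.1
  have hblock : sch0Block (a.1 / 63) = true := by
    have : a.1 / 63 < 5 := by have := a.2; omega
    interval_cases h : a.1 / 63
    exacts [schreier_check0a, schreier_check0b, schreier_check0c, schreier_check0d, schreier_check0e]
  simp only [sch0Block, List.all_eq_true] at hblock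
  have hrow0 := hblock (trans0.getD a.1 0, schreier0.getD a.1 []) (List.mem_iff_getElem.mpr ⟨a.1 % 63,
    by simp only [List.length_take, List.length_drop, List.length_zip, la, l0]; have := a.2; omega, by
      have e : 63 * (a.1 / 63) + a.1 % 63 = a.1 := Nat.div_add_mod a.1 63
      simp only [List.getElem_take, List.getElem_drop, List.getElem_zip, e]
      rw [List.getD_eq_getElem _ _ (by rw [la]; exact a.2), List.getD_eq_getElem _ _ (by rw [l0]; exact a.2)]⟩)
  simp only [rowOK0, List.all_eq_true, Bool.and_eq_true, beq_iff_eq, decide_eq_true_eq, allPts_iff] at hrow0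
  obtain ⟨hl, hrow⟩ := hrow0
  obtain ⟨⟨⟨⟨ha', hb'⟩, hc'⟩, hd'⟩, he⟩ := hrow _ (getD_mem_zip (A := strong0) (B := schreier0.getD a.1 []) (i := k.1) 0
    (0, 0, 0, 0) (by rw [gens_check.1.1]; exact k.2) (by rw [hl, gens_check.1.1]; exact k.2))
  have e : gen k * U0 a = U0 ⟨_, ha'⟩ * (U1 ⟨_, hb'⟩ * (U2 ⟨_, hc'⟩ * U3 ⟨_, hd'⟩)) := Equiv.ext fun x => Fin.ext (by
    have hx := he x
    have hr' : ∀ y : Fin 315, pget (trans0.getD a.1 0) y.1 = (U0 a y).1 := fun y => by
      have := U0_rep a y; unfold t0 at this; exact this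
    rw [hr', gen_rep k (U0 a x), (U2_rep ⟨_, hc'⟩).comp (U3_rep ⟨_, hd'⟩), U1_rep ⟨_, hb'⟩ _,
      U0_rep ⟨_, ha'⟩ _] at hx
    exact hx)
  obtain ⟨s1, s2, s3⟩ := inside_strong
  have hw := word_check
  simp only [Bool.and_eq_true, beq_iff_eq, List.all_eq_true, decide_eq_true_eq, allPts_iff] at hw
  have s21 : Inside (Subgroup.closure (repSet strong1)) strong2 :=
    exists_rep_of_word (inside_self s1) (by rw [hw.1.1.1.1.2, gens_check.1.2.2.1])
      (fun e he j hj => by rw [gens_check.1.2.1]; exact (hw.1.2 e he).1 j hj) fun e he x => (hw.1.2 e he).2 x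
  have s31 : Inside (Subgroup.closure (repSet strong1)) strong3 :=
    exists_rep_of_word s21 (by rw [hw.1.1.1.2, gens_check.1.2.2.2])
      (fun e he j hj => by rw [gens_check.1.2.2.1]; exact (hw.2 e he).1 j hj) fun e he x => (hw.2 e he).2 x
  have h1 : U1 ⟨_, hb'⟩ ∈ Subgroup.closure (repSet strong1) := by
    refine inside_repSet s1 (inside_of_tree tree_check1 (inside_self s1)).1
      (i := (⟨_, hb'⟩ : Fin 32).1) (by rw [base_check.2.2.2.2.1.2.1]; exact hb') ?_
    have := U1_rep ⟨_, hb'⟩; unfold t1 at this; exact this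
  have h2 : U2 ⟨_, hc'⟩ ∈ Subgroup.closure (repSet strong1) := by
    refine inside_repSet s1 (inside_of_tree tree_check2 s21).1
      (i := (⟨_, hc'⟩ : Fin 5).1) (by rw [base_check.2.2.2.2.1.2.2.1]; exact hc') ?_
    have := U2_rep ⟨_, hc'⟩; unfold t2 at this; exact this
  have h3 : U3 ⟨_, hd'⟩ ∈ Subgroup.closure (repSet strong1) := by
    refine inside_repSet s1 (inside_of_tree tree_check3 s31).1
      (i := (⟨_, hd'⟩ : Fin 12).1) (by rw [base_check.2.2.2.2.1.2.2.2]; exact hd') ?_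
    have := U3_rep ⟨_, hd'⟩; unfold t3 at this; exact this
  obtain ⟨⟨b', c', d'⟩, hbcd⟩ := stable_words (mul_mem h1 (mul_mem h2 h3)) H1_stable (U1 b * (U2 c * U3 d))
    ⟨(b, c, d), rfl⟩
  refine ⟨(⟨_, ha'⟩, b', c', d'), ?_⟩
  show _ * (U1 b' * (U2 c' * U3 d')) = gen k * (U0 a * (U1 b * (U2 c * U3 d)))
  rw [show U1 b' * (U2 c' * U3 d') = _ from hbcd, ← mul_assoc (gen k), e]
  simp only [mul_assoc]

/-- every element is a product of transversal elements -/
theorem exists_coords {g : S315} (hg : g ∈ P) : ∃ a b c d, g = U0 a * (U1 b * (U2 c * U3 d)) := by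
  obtain ⟨o0, o1, o2, o3⟩ := U_one
  have h1 : (1 : S315) ∈ H0 :=
    ⟨(⟨0, by norm_num⟩, ⟨0, by norm_num⟩, ⟨0, by norm_num⟩, ⟨0, by norm_num⟩), by simp only [o0, o1, o2, o3, mul_one]⟩
  obtain ⟨⟨a, b, c, d⟩, he⟩ := stable_words hg H0_stable 1 h1
  exact ⟨a, b, c, d, by rw [mul_one] at he; exact he.symm⟩

theorem coords_mem (a b c d) : U0 a * (U1 b * (U2 c * U3 d)) ∈ P :=
  mul_mem (U0_mem a) (mul_mem (U1_mem b) (mul_mem (U2_mem c) (U3_mem d)))

theorem U_fix : (∀ b, (U1 b 0).1 = 0) ∧ (∀ c, (U2 c 0).1 = 0 ∧ (U2 c 1).1 = 1) ∧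
    (∀ d, (U3 d 0).1 = 0 ∧ (U3 d 1).1 = 1 ∧ (U3 d 2).1 = 2) := by
  obtain ⟨-, b1, b2, b3, ⟨-, l1, l2, l3⟩, -⟩ := base_check
  simp only [List.all_eq_true, Bool.and_eq_true, beq_iff_eq] at b1 b2 b3
  refine ⟨fun b => ?_, fun c => ?_, fun d => ?_⟩
  · have hm : trans1.getD b.1 0 ∈ trans1 := by
      rw [List.getD_eq_getElem _ _ (by rw [l1]; exact b.2)]; exact List.getElem_mem _
    have h := U1_rep b 0; unfold t1 at h
    exact h.symm.trans (b1 _ hm)
  · have hm : trans2.getD c.1 0 ∈ trans2 := by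
      rw [List.getD_eq_getElem _ _ (by rw [l2]; exact c.2)]; exact List.getElem_mem _
    have h := U2_rep c 0; have h' := U2_rep c 1; unfold t2 at h h'
    exact ⟨h.symm.trans (b2 _ hm).1, h'.symm.trans (b2 _ hm).2⟩
  · have hm : trans3.getD d.1 0 ∈ trans3 := by
      rw [List.getD_eq_getElem _ _ (by rw [l3]; exact d.2)]; exact List.getElem_mem _
    have h := U3_rep d 0; have h' := U3_rep d 1; have h'' := U3_rep d 2; unfold t3 at h h' h''
    exact ⟨h.symm.trans (b3 _ hm).1.1, h'.symm.trans (b3 _ hm).1.2, h''.symm.trans (b3 _ hm).2⟩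

/-- the image of a base point determines the coordinate -/
theorem U_inj : Function.Injective (fun a => U0 a 0) ∧ Function.Injective (fun b => U1 b 1) ∧
    Function.Injective (fun c => U2 c 2) ∧ Function.Injective (fun d => U3 d 3) := by
  obtain ⟨⟨n0, n1, n2, n3⟩, -, -, -, ⟨l0, l1, l2, l3⟩, -⟩ := base_check
  refine ⟨fun a a' h => ?_, fun a a' h => ?_, fun a a' h => ?_, fun a a' h => ?_⟩
  · have e := (U0_rep a 0).trans ((congrArg Fin.val h).trans (U0_rep a' 0).symm)
    unfold t0 at e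
    rw [List.getD_eq_getElem _ _ (by rw [l0]; exact a.2), List.getD_eq_getElem _ _ (by rw [l0]; exact a'.2)] at e
    exact Fin.ext ((n0.getElem_inj_iff (hi := by simp [l0]) (hj := by simp [l0])).mp (by simpa using e))
  · have e := (U1_rep a 1).trans ((congrArg Fin.val h).trans (U1_rep a' 1).symm)
    unfold t1 at e
    rw [List.getD_eq_getElem _ _ (by rw [l1]; exact a.2), List.getD_eq_getElem _ _ (by rw [l1]; exact a'.2)] at e
    exact Fin.ext ((n1.getElem_inj_iff (hi := by simp [l1]) (hj := by simp [l1])).mp (by simpa using e))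
  · have e := (U2_rep a 2).trans ((congrArg Fin.val h).trans (U2_rep a' 2).symm)
    unfold t2 at e
    rw [List.getD_eq_getElem _ _ (by rw [l2]; exact a.2), List.getD_eq_getElem _ _ (by rw [l2]; exact a'.2)] at e
    exact Fin.ext ((n2.getElem_inj_iff (hi := by simp [l2]) (hj := by simp [l2])).mp (by simpa using e))
  · have e := (U3_rep a 3).trans ((congrArg Fin.val h).trans (U3_rep a' 3).symm)
    unfold t3 at e
    rw [List.getD_eq_getElem _ _ (by rw [l3]; exact a.2), List.getD_eq_getElem _ _ (by rw [l3]; exact a'.2)] at e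
    exact Fin.ext ((n3.getElem_inj_iff (hi := by simp [l3]) (hj := by simp [l3])).mp (by simpa using e))

theorem coords_unique {a a' b b' c c' d d'} (h : ∀ x : Fin 315, x.1 < 4 →
    (U0 a * (U1 b * (U2 c * U3 d))) x = (U0 a' * (U1 b' * (U2 c' * U3 d'))) x) :
    a = a' ∧ b = b' ∧ c = c' ∧ d = d' := by
  obtain ⟨f1, f2, f3⟩ := U_fix
  obtain ⟨i0, i1, i2, i3⟩ := U_inj
  have g1 : ∀ b, U1 b 0 = 0 := fun b => Fin.ext (f1 b)
  have g20 : ∀ c, U2 c 0 = 0 := fun c => Fin.ext (f2 c).1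
  have g21 : ∀ c, U2 c 1 = 1 := fun c => Fin.ext (f2 c).2
  have g30 : ∀ d, U3 d 0 = 0 := fun d => Fin.ext (f3 d).1
  have g31 : ∀ d, U3 d 1 = 1 := fun d => Fin.ext (f3 d).2.1
  have g32 : ∀ d, U3 d 2 = 2 := fun d => Fin.ext (f3 d).2.2
  have e0 := h 0 (by norm_num)
  simp only [Equiv.Perm.mul_apply, g1, g20, g30] at e0
  have ea : a = a' := i0 e0
  subst ea
  have e1 := h 1 (by norm_num)
  simp only [Equiv.Perm.mul_apply, g21, g31, (U0 a).apply_eq_iff_eq] at e1
  have eb : b = b' := i1 e1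
  subst eb
  have e2 := h 2 (by norm_num)
  simp only [Equiv.Perm.mul_apply, g32, (U0 a).apply_eq_iff_eq, (U1 b).apply_eq_iff_eq] at e2
  have ec : c = c' := i2 e2
  subst ec
  have e3 := h 3 (by norm_num)
  simp only [Equiv.Perm.mul_apply, (U0 a).apply_eq_iff_eq, (U1 b).apply_eq_iff_eq, (U2 c).apply_eq_iff_eq] at e3
  exact ⟨rfl, rfl, rfl, i3 e3⟩

theorem card_P : Nat.card P = 604800 := by
  let f : Fin 315 × Fin 32 × Fin 5 × Fin 12 → P := fun e =>
    ⟨U0 e.1 * (U1 e.2.1 * (U2 e.2.2.1 * U3 e.2.2.2)), coords_mem _ _ _ _⟩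
  have hb : Function.Bijective f := by
    refine ⟨fun e e' h => ?_, fun g => ?_⟩
    · obtain ⟨h1, h2, h3, h4⟩ := coords_unique (a := e.1) (a' := e'.1) (b := e.2.1) (b' := e'.2.1) (c := e.2.2.1)
        (c' := e'.2.2.1) (d := e.2.2.2) (d' := e'.2.2.2) fun x _ =>
          congrArg (fun s : P => (s : S315) x) h
      exact Prod.ext h1 (Prod.ext h2 (Prod.ext h3 h4))
    · obtain ⟨a, b, c, d, e⟩ := exists_coords g.2
      exact ⟨(a, b, c, d), Subtype.ext e.symm⟩
  rw [← Nat.card_congr (Equiv.ofBijective f hb)]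
  simp

/-- an element of the group is determined by its action on the base -/
theorem ext_base {g h : S315} (hg : g ∈ P) (hh : h ∈ P) (e : ∀ x : Fin 315, x.1 < 4 → g x = h x) : g = h := by
  obtain ⟨a, b, c, d, rfl⟩ := exists_coords hg
  obtain ⟨a', b', c', d', rfl⟩ := exists_coords hh
  obtain ⟨rfl, rfl, rfl, rfl⟩ := coords_unique e
  rfl

end CfsgLib.Recog.JankoTwo
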